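import Cfsg.Agent.OddChar.TypeP.Tools.Coherent
import Cfsg.Agent.Lib.CharTheory.Ito
import Cfsg.Agent.BlocksChars.Codegree
import Cfsg.Agent.OddChar.Constituent

/-!
# The degrees of the members of `S(1)`
-/

set_option autoImplicit false
set_option linter.unusedSectionVars false
set_option linter.style.haveILetI false

namespace Cfsg.Agent.OddChar.TypeP.Tools

open Cfsg Subgroup
open Cfsg.Agent.Characters

universe u

variable {G : Type u} [Group G] [Fintype G] {M W₁ U W₂ : Subgroup G}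

/-- `M_F` inside `M'`. -/
def coreD (M : Subgroup G) : Subgroup (derivedIn M) :=
  ((fittingHallOf M).subgroupOf M).subgroupOf (derivedIn M)

theorem mem_coreD {n : derivedIn M} : n ∈ coreD M ↔ ((n : M) : G) ∈ fittingHallOf M := Iff.rfl

instance coreD_normal (M : Subgroup G) : (coreD M).Normal := by
  refine ⟨fun n hn g => ?_⟩
  obtain ⟨y, hy, ey⟩ := mem_coreD.1 hn
  refine mem_coreD.2 ⟨(g : M) * y * (g : M)⁻¹,
    (inferInstance : (fittingHall ↥M).Normal).conj_mem y hy _, ?_⟩
  simp [← ey]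

theorem card_coreD (hP : IsTypePWith M W₁ U W₂) :
    Nat.card (coreD M) = Nat.card (fittingHallOf M) := by
  have h1 : fittingHallOf M ≤ ⁅M, M⁆ := hP.U_compl.1
  refine (Nat.card_congr (subgroupOfEquivOfLe (G := ↥M) ?_).toEquiv).trans
    (Nat.card_congr (subgroupOfEquivOfLe ?_).toEquiv)
  · exact fun x hx => h1 hx
  · exact h1.trans (TypeP.commutator_le_self M)

theorem card_derived (hP : IsTypePWith M W₁ U W₂) :
    Nat.card (derivedIn M) = Nat.card (fittingHallOf M) * Nat.card U := by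
  rw [show Nat.card (derivedIn M) = Nat.card (⁅M, M⁆ : Subgroup G) from
      Nat.card_congr (subgroupOfEquivOfLe (TypeP.commutator_le_self M)).toEquiv,
    OddLocal.Basics.card_eq_of_isCompl' hP.U_compl.1 hP.U_compl.2.1 hP.U_compl.2.2.1
      hP.U_compl.2.2.2]

theorem index_coreD (hP : IsTypePWith M W₁ U W₂) : (coreD M).index = Nat.card U := by
  have h := (coreD M).card_mul_index
  rw [card_coreD hP, card_derived hP] at h
  exact Nat.eq_of_mul_eq_mul_left Nat.card_pos h

theorem index_derived (hP : IsTypePWith M W₁ U W₂) : (derivedIn M).index = Nat.card W₁ := by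
  have h := (derivedIn M).card_mul_index
  rw [show Nat.card (derivedIn M) = Nat.card (⁅M, M⁆ : Subgroup G) from
      Nat.card_congr (subgroupOfEquivOfLe (TypeP.commutator_le_self M)).toEquiv,
    Noncoherent.card_eq hP] at h
  exact Nat.eq_of_mul_eq_mul_left Nat.card_pos h

variable [Fintype M]

open Classical in
/-- The irreducible members of `S(1)`. -/
noncomputable def irrMem (M : Subgroup G) [Fintype M] : Finset (↥M → ℂ) :=
  haveI := Fintype.ofFinite (IrrCharacter M)
  (Finset.univ.image fun χ : IrrCharacter M => (χ : ↥M → ℂ)).filter (· ∈ calSH M ⊥)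

theorem mem_irrMem {φ : ↥M → ℂ} :
    φ ∈ irrMem M ↔ φ ∈ calSH M ⊥ ∧ IsIrrCharacter M φ := by
  classical
  haveI := Fintype.ofFinite (IrrCharacter M)
  simp only [irrMem, Finset.mem_filter, Finset.mem_image, Finset.mem_univ, true_and]
  exact ⟨fun ⟨⟨χ, e⟩, h⟩ => ⟨h, e ▸ χ.2⟩, fun ⟨h, hi⟩ => ⟨⟨⟨φ, hi⟩, rfl⟩, h⟩⟩

/-- The degree of a member divided by `|W₁|`. -/
noncomputable def oDeg (W₁ : Subgroup G) (φ : ↥M → ℂ) : ℕ := ⌊(φ 1).re / (Nat.card W₁ : ℝ)⌋₊

theorem oDeg_ind (hP : IsTypePWith M W₁ U W₂) {θ : derivedIn M → ℂ} {k : ℕ} (hk : θ 1 = (k : ℂ)) :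
    oDeg W₁ (indFun (derivedIn M) θ) = k := by
  rw [oDeg, indFun_one, hk, index_derived hP, ← Nat.cast_mul, Complex.natCast_re, Nat.cast_mul,
    mul_div_cancel_left₀ _ (Nat.cast_ne_zero.2 Nat.card_pos.ne'), Nat.floor_natCast]

theorem oDeg_spec (hP : IsTypePWith M W₁ U W₂) {φ : ↥M → ℂ} (hφ : φ ∈ calSH M ⊥) :
    0 < oDeg W₁ φ ∧ φ 1 = ((Nat.card W₁ * oDeg W₁ φ : ℕ) : ℂ) := by
  obtain ⟨θ, hθ, -, -, rfl⟩ := hφ.1
  obtain ⟨k, hk, hk1⟩ := irr_one_pos hθ
  rw [oDeg_ind hP hk1, indFun_one, hk1, index_derived hP, Nat.cast_mul]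
  exact ⟨hk, rfl⟩

/-- With `M_F` abelian the degree of a member divides `|W₁| |U|`. -/
theorem oDeg_dvd (hP : IsTypePWith M W₁ U W₂) [IsMulCommutative (fittingHallOf M)] {φ : ↥M → ℂ}
    (hφ : φ ∈ calSH M ⊥) : oDeg W₁ φ ∣ Nat.card U := by
  obtain ⟨θ, hθ, -, -, rfl⟩ := hφ.1
  obtain ⟨d, hd, hdvd⟩ := CharTheory.Ito.degree_dvd_index_abelian (coreD M) (fun a ha b hb =>
    Subtype.ext (Subtype.ext (by
      simpa using congrArg Subtype.val
        (mul_comm' (⟨_, mem_coreD.1 ha⟩ : fittingHallOf M) ⟨_, mem_coreD.1 hb⟩)))) hθ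
  rw [oDeg_ind hP hd, ← index_coreD hP]
  exact hdvd

theorem ind_apply_coreD {θ : derivedIn M → ℂ} (hker : ∀ n ∈ coreD M, θ n = θ 1) {n : M}
    (hn : (n : G) ∈ fittingHallOf M) (hd : n ∈ derivedIn M) :
    indFun (derivedIn M) θ n = indFun (derivedIn M) θ 1 := by
  haveI := derivedIn_normal' M
  simp only [Cfsg.indFun]
  refine congrArg _ (Finset.sum_congr rfl fun x _ => ?_)
  have hx : x⁻¹ * n * x ∈ derivedIn M := by
    simpa using (derivedIn_normal' M).conj_mem n hd x⁻¹
  have h1 : x⁻¹ * 1 * x ∈ derivedIn M := by simp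
  rw [CharTheory.IndBasic.extendByZero_of_mem _ _ hx,
    CharTheory.IndBasic.extendByZero_of_mem _ _ h1, hker ⟨_, hx⟩ (mem_coreD.2 ?_)]
  · congr 1; exact Subtype.ext (by simp)
  · obtain ⟨y, hy, ey⟩ := hn
    exact ⟨x⁻¹ * y * x, by simpa using (inferInstance : (fittingHall ↥M).Normal).conj_mem y hy x⁻¹,
      by simp [← ey]⟩

/-- An irreducible character of `M'` non-trivial on `M_F` induces to a member. -/
theorem ind_mem {θ : derivedIn M → ℂ} (hθ : IsIrrCharacter (derivedIn M) θ)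
    (hne : ∃ n ∈ coreD M, θ n ≠ θ 1) : indFun (derivedIn M) θ ∈ calSH M ⊥ := by
  haveI := derivedIn_normal' M
  haveI := Fintype.ofFinite (derivedIn M)
  obtain ⟨n, hn, hne⟩ := hne
  refine ⟨⟨θ, hθ, fun e => hne (by rw [e]), fun a ha => ?_, rfl⟩, ?_⟩
  · rw [bot_subgroupOf] at ha
    rw [show a = 1 from Subtype.ext (mem_bot.1 ha)]
  · rintro ⟨θ', hθ', -, hker, e⟩
    have hchar := isCharacter_indFun (derivedIn M) (isCharacter_of_isIrr hθ)
    have hself : classInner (indFun (derivedIn M) θ) (indFun (derivedIn M) θ) ≠ 0 := fun h0 => by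
      have h1 := congrFun (classInner_self_eq_zero.1 h0) 1
      rw [indFun_one, Pi.zero_apply, mul_eq_zero] at h1
      exact h1.elim (Nat.cast_ne_zero.2 Subgroup.index_ne_zero_of_finite) (irr_one_ne_zero hθ)
    rw [frobenius_reciprocity' _ θ (char_isClassFunction hchar)] at hself
    refine hne (Constituent.constituent_apply_eq_one (isCharacter_restrict _ hchar) hθ hself ?_)
    show indFun (derivedIn M) θ (n : M) = indFun (derivedIn M) θ ((1 : derivedIn M) : M)
    rw [e, OneMemClass.coe_one]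
    exact ind_apply_coreD (fun a ha => hker a ha) (mem_coreD.1 hn) n.2

theorem exists_nontriv_of_mem {θ : derivedIn M → ℂ} (hθ : IsIrrCharacter (derivedIn M) θ)
    (h : indFun (derivedIn M) θ ∈ calSH M ⊥) : ∃ n ∈ coreD M, θ n ≠ θ 1 := by
  by_contra hcon
  push Not at hcon
  by_cases h1 : θ = fun _ => 1
  · obtain ⟨θ', hθ', hne, -, e⟩ := h.1
    haveI := derivedIn_normal' M
    haveI := Fintype.ofFinite (derivedIn M)
    have hchar := isCharacter_indFun (derivedIn M) (isCharacter_of_isIrr hθ')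
    have h0 : classInner (fun y : derivedIn M => indFun (derivedIn M) θ' y) (fun _ => 1) ≠ 0 := by
      rw [← frobenius_reciprocity' _ _ (char_isClassFunction hchar), ← h1, e]
      intro hz
      have h2 := congrFun (classInner_self_eq_zero.1 hz) 1
      rw [indFun_one, Pi.zero_apply, mul_eq_zero] at h2
      exact h2.elim (Nat.cast_ne_zero.2 Subgroup.index_ne_zero_of_finite) (irr_one_ne_zero hθ')
    exact h0 (Coherence.inner_res_one _ hθ' hne)
  · exact h.2 ⟨θ, hθ, h1, fun a ha => hcon a ha, rfl⟩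

/-- The squares of the degrees: `p - 1` columns of degree `q d` and the irreducible members. -/
theorem sum_degrees (hG : IsMinSimpleOddOrder G) (hM : IsCoatom M) (hP : IsTypePWith M W₁ U W₂)
    {μ : (↥(W₁ ⊔ W₂) →* ℂˣ) → ↥M → ℂ} {δ : (↥(W₁ ⊔ W₂) →* ℂˣ) → ℂ}
    (hμ : MuData M W₁ W₂ μ δ) {d : ℕ}
    (hd : ∀ j ∈ rightSet W₁ W₂, j ≠ 1 → μ j 1 = (d : ℂ)) :
    (Nat.card W₂ - 1) * d ^ 2 + Nat.card W₁ * ∑ φ ∈ irrMem M, oDeg W₁ φ ^ 2 + Nat.card U =
      Nat.card (fittingHallOf M) * Nat.card U := by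
  classical
  haveI := derivedIn_normal' M
  haveI : Fintype (derivedIn M) := Fintype.ofFinite _
  haveI : Fintype (IrrCharacter (derivedIn M)) := Fintype.ofFinite _
  haveI : Fintype (rightSet W₁ W₂) := Fintype.ofFinite _
  set K := derivedIn M with hK
  set T := Finset.univ.filter (fun θ : IrrCharacter K =>
    ¬ ∀ x ∈ coreD M, (θ : K → ℂ) x = (θ : K → ℂ) 1) with hT
  have htot : ∑ θ ∈ T, charDegree (θ : K → ℂ) ^ 2 + Nat.card U =
      Nat.card (fittingHallOf M) * Nat.card U := by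
    have h1 := Finset.sum_filter_add_sum_filter_not Finset.univ
      (fun θ : IrrCharacter K => ∀ x ∈ coreD M, (θ : K → ℂ) x = (θ : K → ℂ) 1)
      (fun θ => charDegree (θ : K → ℂ) ^ 2)
    rw [BlocksChars.Codegree.sum_degree_sq_over (G := K) (coreD M),
      BlocksChars.Codegree.sum_degree_sq_nat, index_coreD hP, card_derived hP, ← hT] at h1
    omega
  rw [← htot]
  congr 1
  have hmem : ∀ θ ∈ T, indFun K (θ : K → ℂ) ∈ calSH M ⊥ := fun θ hθ => by
    have h := (Finset.mem_filter.1 hθ).2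
    push Not at h
    obtain ⟨x, hx, hne⟩ := h
    exact ind_mem θ.2 ⟨x, hx, hne⟩
  rw [← Finset.sum_filter_add_sum_filter_not T fun θ : IrrCharacter K =>
    IsIrrCharacter M (indFun K (θ : K → ℂ)), add_comm]
  congr 1
  · -- the irreducible members
    have hmaps : ∀ θ ∈ T.filter (fun θ : IrrCharacter K => IsIrrCharacter M (indFun K (θ : K → ℂ))),
        indFun K (θ : K → ℂ) ∈ irrMem M := fun θ hθ =>
      mem_irrMem.2 ⟨hmem θ (Finset.mem_filter.1 hθ).1, (Finset.mem_filter.1 hθ).2⟩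
    rw [← Finset.sum_fiberwise_of_maps_to hmaps, Finset.mul_sum]
    refine Finset.sum_congr rfl fun φ hφ => ?_
    obtain ⟨hφS, hφi⟩ := mem_irrMem.1 hφ
    set F := Finset.univ.filter (fun θ : IrrCharacter K => indFun K (θ : K → ℂ) = φ) with hF
    have hFeq : (T.filter fun θ : IrrCharacter K => IsIrrCharacter M (indFun K (θ : K → ℂ))).filter
        (fun θ : IrrCharacter K => indFun K (θ : K → ℂ) = φ) = F := by
      ext θ
      simp only [hF, hT, Finset.mem_filter, Finset.mem_univ, true_and, and_iff_right_iff_imp]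
      intro e
      refine ⟨?_, e ▸ hφi⟩
      push Not
      exact exists_nontriv_of_mem θ.2 (e ▸ hφS)
    rw [hFeq]
    have hdeg : ∀ θ ∈ F, charDegree (θ : K → ℂ) = oDeg W₁ φ := fun θ hθ => by
      rw [← (Finset.mem_filter.1 hθ).2]
      exact (oDeg_ind hP (BlocksChars.Degrees.charDegree_cast θ).symm).symm
    rw [Finset.sum_congr rfl fun θ hθ => by rw [hdeg θ hθ], Finset.sum_const, smul_eq_mul]
    congr 1
    have hres := isCharacter_restrict K (isCharacter_of_isIrr hφi)
    have hcoef : ∀ θ : IrrCharacter K, classInner (fun y : K => φ y) (θ : K → ℂ) =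
        if θ ∈ F then 1 else 0 := fun θ => by
      rw [← frobenius_reciprocity' K (θ : K → ℂ) (char_isClassFunction (isCharacter_of_isIrr hφi))]
      by_cases e : indFun K (θ : K → ℂ) = φ
      · rw [if_pos (by simp [hF, e]), e, classInner_isIrr_self hφi]
      · rw [if_neg (by simp [hF, e])]
        obtain ⟨θ', hθ', -, -, e'⟩ := hφS.1
        rw [e'] at e ⊢
        exact (S1486.result K θ θ' θ.2 hθ').2 fun h =>
          e ((S1486.result K θ θ' θ.2 hθ').1 h).symm
    have h1 := congrFun (classFun_eq_sum (char_isClassFunction hres)) 1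
    simp only [Finset.sum_apply, Pi.smul_apply, smul_eq_mul, hcoef, ite_mul, zero_mul, one_mul,
      Finset.sum_ite_mem, Finset.univ_inter, OneMemClass.coe_one] at h1
    obtain ⟨hopos, ho⟩ := oDeg_spec hP hφS
    have h2 : ∑ θ ∈ F, (θ : K → ℂ) 1 = (F.card : ℂ) * (oDeg W₁ φ : ℂ) := by
      rw [← nsmul_eq_mul, ← Finset.sum_const]
      exact Finset.sum_congr rfl fun (θ : IrrCharacter K) hθ => by
        rw [← BlocksChars.Degrees.charDegree_cast, hdeg θ hθ]
    rw [h2, ho] at h1
    exact Nat.eq_of_mul_eq_mul_right hopos (show F.card * oDeg W₁ φ = Nat.card W₁ * oDeg W₁ φ by exact_mod_cast h1.symm) |>.symm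
  · -- the columns
    have hT' : T.filter (fun θ : IrrCharacter K => ¬ IsIrrCharacter M (indFun K (θ : K → ℂ))) =
        ((Finset.univ.filter fun j : rightSet W₁ W₂ => (j : ↥(W₁ ⊔ W₂) →* ℂˣ) ≠ 1).image
          fun j => (⟨_, hμ.res_irr hG hP j.2⟩ : IrrCharacter K)) := by
      ext θ
      simp only [Finset.mem_filter, Finset.mem_image, Finset.mem_univ, true_and]
      constructor
      · rintro ⟨hθT, hred⟩
        obtain ⟨j, hj, hj1, e⟩ := hμ.red_eq_col hG hP (calSH_subset hP ⊥ (hmem θ hθT)) hred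
        refine ⟨⟨j, hj⟩, hj1, Subtype.ext ?_⟩
        show (fun y : K => μ j y) = (θ : K → ℂ)
        have h1 : classInner (indFun K (θ : K → ℂ)) (colSum μ j) ≠ 0 := by
          rw [e, hμ.inner_col hG hP hj hj, if_pos rfl]
          exact Nat.cast_ne_zero.2 Nat.card_pos.ne'
        rw [frobenius_reciprocity K _ (hμ.col_isClassFunction hG hP j),
          show (fun y : K => colSum μ j y) = (Nat.card W₁ : ℂ) • fun y : K => μ j y from
            funext fun y => hμ.col_apply_derived hG hP j (mem_subgroupOf.1 y.2),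
          classInner_smul_right] at h1
        by_contra hne
        exact h1 (by rw [classInner_isIrr_ne θ.2 (hμ.res_irr hG hP hj) (Ne.symm hne), mul_zero])
      · rintro ⟨⟨j, hj⟩, hj1, rfl⟩
        have e := hμ.col_eq_ind hG hP j
        refine ⟨?_, fun hi => hμ.col_not_irr hG hP hj (e ▸ hi)⟩
        simp only [hT, Finset.mem_filter, Finset.mem_univ, true_and]
        push Not
        have hnl : j ∉ leftSet W₁ W₂ := fun hl => hj1
          (((CyclicTI.split_of hP.selfNormalizing).mul_inj hl one_mem_leftSet one_mem_rightSet hj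
            ((mul_one j).trans (one_mul j).symm)).1)
        obtain ⟨n, hn, hne⟩ := hμ.exists_ne_apply_one hP hnl
        exact ⟨⟨n, mem_subgroupOf.2 (W₂_le_derived hP hn)⟩,
          mem_coreD.2 (mem_inf.mp (hP.W₂_le hn)).1, by simpa using hne⟩
    have hcd : ∀ x : Finset.univ.filter (fun j : rightSet W₁ W₂ =>
        (j : ↥(W₁ ⊔ W₂) →* ℂˣ) ≠ 1),
        charDegree (fun y : K => μ ((x : rightSet W₁ W₂) : ↥(W₁ ⊔ W₂) →* ℂˣ) y) = d := fun x => by
      have h := hd _ (x : rightSet W₁ W₂).2 (Finset.mem_filter.1 x.2).2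
      rw [charDegree, OneMemClass.coe_one, h, Complex.natCast_re, Nat.floor_natCast]
    rw [hT', Finset.sum_image fun a _ b _ e => Subtype.ext (hμ.col_injOn hG hP a.2 b.2 (by
        rw [hμ.col_eq_ind hG hP, hμ.col_eq_ind hG hP]
        exact congrArg (indFun K) (congrArg Subtype.val e))),
      Finset.sum_congr rfl fun j hj => by rw [hcd ⟨j, hj⟩], Finset.sum_const, smul_eq_mul]
    congr 1
    rw [show (Finset.univ.filter fun j : rightSet W₁ W₂ => (j : ↥(W₁ ⊔ W₂) →* ℂˣ) ≠ 1) =
        Finset.univ.erase ⟨1, one_mem_rightSet⟩ by ext; simp [Subtype.ext_iff],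
      Finset.card_erase_of_mem (Finset.mem_univ _), Finset.card_univ, ← Nat.card_eq_fintype_card,
      card_rightSet hP.selfNormalizing]

end Cfsg.Agent.OddChar.TypeP.Tools
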