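import Cfsg.Agent.OddChar.TypeP.Tools.Coherent
import Cfsg.Agent.OddChar.TypeP.Pair.Basic

/-!
# An irreducible member against the columns: the rule and the pair lemma
-/

set_option autoImplicit false
set_option linter.unusedSectionVars false
set_option linter.style.haveILetI false

namespace Cfsg.Agent.OddChar.TypeP.Tools

open Cfsg Subgroup
open Cfsg.Agent.Characters Cfsg.Agent.OddChar.Signed Cfsg.Agent.OddChar.Isometry

universe u

variable {G : Type u} [Group G] [Fintype G] {M W₁ U W₂ : Subgroup G} [Fintype M]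
  {τ₁ : (↥M → ℂ) → G → ℂ}

/-- A degree `q o` of a member. -/
theorem member_degree (hG : IsMinSimpleOddOrder G) (hP : IsTypePWith M W₁ U W₂) {ψ : ↥M → ℂ}
    (hψ : ψ ∈ calSH M ⊥) : ∃ o : ℕ, 0 < o ∧ ψ 1 = ((Nat.card W₁ * o : ℕ) : ℂ) := by
  obtain ⟨θ, hθ, -, -, rfl⟩ := hψ.1
  obtain ⟨k, hk, hk1⟩ := irr_one_pos hθ
  refine ⟨k, hk, ?_⟩
  rw [indFun_one, hk1, Nat.cast_mul]
  congr 2
  have h := (derivedIn M).card_mul_index
  have h2 : Nat.card (derivedIn M) = Nat.card (⁅M, M⁆ : Subgroup G) :=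
    Nat.card_congr (subgroupOfEquivOfLe (TypeP.commutator_le_self M)).toEquiv
  rw [h2, Noncoherent.card_eq hP] at h
  exact Nat.eq_of_mul_eq_mul_left Nat.card_pos h

namespace SCtx

/-- `τ₁` of `o • col - d • ψ`. -/
theorem exists_beta (c : SCtx M W₁ U W₂ τ₁) {η : (↥(W₁ ⊔ W₂) →* ℂˣ) → G → ℂ}
    (hη : IsCyclicTIFamily W₁ W₂ η) {μ : (↥(W₁ ⊔ W₂) →* ℂˣ) → ↥M → ℂ}
    {δ : (↥(W₁ ⊔ W₂) →* ℂˣ) → ℂ} (hμ : MuData M W₁ W₂ μ δ) {j : ↥(W₁ ⊔ W₂) →* ℂˣ}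
    (hj : j ∈ rightSet W₁ W₂) (hj1 : j ≠ 1) {d : ℕ} (hd : μ j 1 = (d : ℂ))
    {ψ : ↥M → ℂ} (hψ : ψ ∈ calSH M ⊥) (hi : IsIrrCharacter M ψ) {o : ℕ}
    (ho : ψ 1 = ((Nat.card W₁ * o : ℕ) : ℂ)) :
    ∃ (α : ↥M → ℂ) (ε : ℤ) (k : ↥(W₁ ⊔ W₂) →* ℂˣ), α ∈ zspanOn (calS M) {1}ᶜ ∧
      (ε = 1 ∨ ε = -1) ∧ k ∈ rightSet W₁ W₂ ∧ k ≠ 1 ∧
      tau M α = ((ε * o : ℤ) : ℂ) • colSum η k - (d : ℂ) • τ₁ ψ := by
  obtain ⟨ε, k, hε, hk, hk1, himg⟩ := c.col_image hη hμ hj hj1 hψ hi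
  have hcol := c.col_mem hμ hj hj1
  have h1 : (o : ℤ) • colSum μ j ∈ zspan (calSH M ⊥) := Submodule.smul_mem _ _ (mem_zS hcol)
  have h2 : (d : ℤ) • ψ ∈ zspan (calSH M ⊥) := Submodule.smul_mem _ _ (mem_zS hψ)
  have hmem : (o : ℤ) • colSum μ j - (d : ℤ) • ψ ∈ zspanOn (calSH M ⊥) {1}ᶜ := by
    refine mem_zspanOn_compl_one (Submodule.sub_mem _ h1 h2) ?_
    rw [Pi.sub_apply, Pi.smul_apply, Pi.smul_apply, hμ.col_apply_derived c.hG c.hP j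
      (x := (1 : M)) (one_mem _), hd, ho, zsmul_eq_mul, zsmul_eq_mul]
    push_cast
    ring
  refine ⟨_, ε, k, c.zspanOn_le hmem, hε, hk, hk1, ?_⟩
  rw [← c.agree _ hmem, map_sub' (M := zS (calSH M ⊥)) c.iso h1 h2,
    c.iso.2.1 _ (mem_zS hcol), c.iso.2.1 _ (mem_zS hψ), himg,
    ← Int.cast_smul_eq_zsmul ℂ, ← Int.cast_smul_eq_zsmul ℂ (d : ℤ), smul_smul, Int.cast_natCast,
    Int.cast_natCast]
  congr 2
  push_cast
  ring

end SCtx

/-- The rule: against `Y` a member of degree `q o` has coefficient `± o (s + (q-1) e) / d`. -/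
theorem psi_rule {L S T V : Subgroup G} [Fintype L] [Fintype S] {τL : (↥L → ℂ) → G → ℂ}
    {lam : ↥L → ℂ} (cL : LCtx L τL lam) {η : (↥(W₁ ⊔ W₂) →* ℂˣ) → G → ℂ}
    (D : Duo S T W₁ W₂ U V η) {τS : (↥S → ℂ) → G → ℂ} (c : SCtx S W₁ U W₂ τS)
    {μ : (↥(W₁ ⊔ W₂) →* ℂˣ) → ↥S → ℂ} {δ : (↥(W₁ ⊔ W₂) →* ℂˣ) → ℂ}
    (hμ : MuData S W₁ W₂ μ δ) {j : ↥(W₁ ⊔ W₂) →* ℂˣ}
    (hj : j ∈ rightSet W₁ W₂) (hj1 : j ≠ 1) {d : ℕ} (hd : μ j 1 = (d : ℂ))
    {a : (↥(W₁ ⊔ W₂) →* ℂˣ) → ℤ} (ha : ∀ ω, classInner (YI L lam) (η ω) = (a ω : ℂ)) {r s : ℤ}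
    (h1 : a 1 = 1) (hr : ∀ i ∈ leftSet W₁ W₂, i ≠ 1 → a i = r)
    (hs : ∀ j ∈ rightSet W₁ W₂, j ≠ 1 → a j = s)
    {ψ : ↥S → ℂ} (hψ : ψ ∈ calSH S ⊥) (hi : IsIrrCharacter S ψ) {o : ℕ}
    (ho : ψ 1 = ((Nat.card W₁ * o : ℕ) : ℂ)) {v : ℤ}
    (hv : classInner (YI L lam) (τS ψ) = (v : ℂ)) :
    ∃ ε : ℤ, (ε = 1 ∨ ε = -1) ∧
      ε * o * (s + ((Nat.card W₁ : ℤ) - 1) * (r + s - 1)) = d * v := by
  classical
  haveI := Fintype.ofFinite (leftSet W₁ W₂)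
  obtain ⟨α, ε, k, hα, hε, hk, hk1, himg⟩ := c.exists_beta D.hη hμ hj hj1 hd hψ hi ho
  refine ⟨ε, hε, ?_⟩
  have h0 := cL.inner_Y_tau c.hM c.hP hα.1
  have hV : ∀ w : ↥(W₁ ⊔ W₂), (w : G) ∉ W₁ → (w : G) ∉ W₂ → YI L lam w = 0 := fun w _ _ =>
    cL.Y_vanish c.hM c.hP w.2
  have hcol := inner_colSum D.hη D.hW cL.class_Y hV ha hk
  have hsum : ∑ i : leftSet W₁ W₂, a (i : ↥(W₁ ⊔ W₂) →* ℂˣ) =
      1 + ((Nat.card W₁ : ℤ) - 1) * r := by
    rw [← Finset.add_sum_erase _ _ (Finset.mem_univ (⟨1, one_mem_leftSet⟩ : leftSet W₁ W₂)),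
      Finset.sum_congr rfl (g := fun _ => r) fun (i : leftSet W₁ W₂) hi => hr i i.2 fun e =>
        (Finset.mem_erase.1 hi).1 (Subtype.ext e), Finset.sum_const, h1,
      Finset.card_erase_of_mem (Finset.mem_univ _), Finset.card_univ, ← Nat.card_eq_fintype_card,
      card_leftSet D.hW, nsmul_eq_mul, Nat.cast_sub (Nat.card_pos (α := W₁)), Nat.cast_one]
  rw [himg, classInner_sub_right, classInner_smul_right, classInner_smul_right, hcol, hv,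
    map_intCast, Complex.conj_natCast, sub_eq_zero] at h0
  have h : ε * o * (∑ i : leftSet W₁ W₂, a (i : ↥(W₁ ⊔ W₂) →* ℂˣ) +
      (Nat.card W₁ : ℤ) * (a k - a 1)) = d * v := by
    exact_mod_cast h0
  rw [hsum, hs k hk hk1, h1] at h
  linear_combination h

/-- The partners of a `Duo` are not conjugate. -/
theorem Duo.not_conj {S T V : Subgroup G} {η : (↥(W₁ ⊔ W₂) →* ℂˣ) → G → ℂ}
    (D : Duo S T W₁ W₂ U V η) (g : G) : T.map (MulAut.conj g).toMonoidHom ≠ S := fun e => by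
  refine Pair.card_ne D.hG D.hS D.hSP ?_
  have hinj : Function.Injective (MulAut.conj g).toMonoidHom := (MulAut.conj g).injective
  have e1 : (⁅T, T⁆ : Subgroup G).map (MulAut.conj g).toMonoidHom = ⁅S, S⁆ := by
    rw [map_commutator, e]
  have c1 : Nat.card (⁅T, T⁆ : Subgroup G) = Nat.card (⁅S, S⁆ : Subgroup G) := by
    rw [← e1, card_map_of_injective hinj]
  have c2 : Nat.card T = Nat.card S := by rw [← e, card_map_of_injective hinj]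
  have hS := Noncoherent.card_eq D.hSP
  have hT := Noncoherent.card_eq D.hTP
  rw [c2, hS, c1] at hT
  exact Nat.eq_of_mul_eq_mul_left Nat.card_pos hT

/-- The pair lemma: not both members have irreducible characters in `S(1)`. -/
theorem not_both_irr {S T V : Subgroup G} [Fintype S] [Fintype T]
    {η : (↥(W₁ ⊔ W₂) →* ℂˣ) → G → ℂ} (D : Duo S T W₁ W₂ U V η)
    {τS : (↥S → ℂ) → G → ℂ} (cS : SCtx S W₁ U W₂ τS)
    {τT : (↥T → ℂ) → G → ℂ} (cT : SCtx T W₂ V W₁ τT)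
    {ψ : ↥S → ℂ} (hψ : ψ ∈ calSH S ⊥) (hi : IsIrrCharacter S ψ)
    {χ : ↥T → ℂ} (hχ : χ ∈ calSH T ⊥) (hχi : IsIrrCharacter T χ) : False := by
  classical
  haveI := Fintype.ofFinite (leftSet W₂ W₁)
  have hW' := D.swap.hW
  obtain ⟨μ, δ, hμ⟩ := mu D.hG S W₁ U W₂ D.hS D.hSP
  obtain ⟨μ', δ', hμ'⟩ := mu D.hG T W₂ V W₁ D.hT D.hTP
  obtain ⟨j, hj, hj1⟩ := exists_right_ne_one D.hSP
  obtain ⟨j', hj', hj'1⟩ := exists_right_ne_one D.hTP
  obtain ⟨d, -, hd⟩ := irr_one_pos (hμ.irr j)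
  obtain ⟨d', -, hd'⟩ := irr_one_pos (hμ'.irr j')
  obtain ⟨o, hopos, ho⟩ := member_degree D.hG D.hSP hψ
  obtain ⟨o', ho'pos, ho'⟩ := member_degree D.hG D.hTP hχ
  obtain ⟨α, ε, k, hα, hε, hk, hk1, hA⟩ := cS.exists_beta D.hη hμ hj hj1 hd hψ hi ho
  obtain ⟨β, ε', k', hβ, hε', hk', hk'1, hB⟩ :=
    cT.exists_beta D.swap.hη hμ' hj' hj'1 hd' hχ hχi ho'
  have h0 : classInner (tau S α) (tau T β) = 0 :=
    inner_tau_PP D.hG D.hS D.hT (Noncoherent.kappa_nonempty_of_typeP D.hG D.hS D.hSP)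
      (Noncoherent.kappa_nonempty_of_typeP D.hG D.hT D.hTP) D.not_conj
      (isClassFunction_of_mem_calS hα.1) (supp_calS D.hG D.hS D.hSP hα)
      (isClassFunction_of_mem_calS hβ.1) (supp_calS D.hG D.hT D.hTP hβ)
  have h1 : classInner (colSum η k) (τT χ) = 0 := by
    haveI := Fintype.ofFinite (leftSet W₁ W₂)
    rw [colSum_eq_sum, classInner_sum_left]
    refine Finset.sum_eq_zero fun i _ => Coherence.inner_comm_zero ?_
    have := cT.inner_eta D.swap.hη hχ hχi (swapDual ((i : ↥(W₁ ⊔ W₂) →* ℂˣ) * k))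
    simpa only [swapDual_swapDual] using this
  have h2 : classInner (τS ψ) (colSum (fun ω => η (swapDual ω)) k') = 0 := by
    rw [colSum_eq_sum, classInner_sum_right]
    exact Finset.sum_eq_zero fun i _ => cS.inner_eta D.hη hψ hi _
  have h3 : classInner (τS ψ) (τT χ) = 0 := by
    refine inner_eq_zero_of_diff (cS.sirr hψ hi) (cT.sirr hχ hχi) (cS.image_orth_conj hψ hi)
      (cT.image_orth_conj hχ hχi) ?_
    rw [cS.conj_image hψ hi, cT.conj_image hχ hχi, cS.image_sub_conj hψ, cT.image_sub_conj hχ]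
    exact inner_tau_PP D.hG D.hS D.hT (Noncoherent.kappa_nonempty_of_typeP D.hG D.hS D.hSP)
      (Noncoherent.kappa_nonempty_of_typeP D.hG D.hT D.hTP) D.not_conj
      (isClassFunction_of_mem_calS (cS.diff_conj_mem hψ).1)
      (supp_calS D.hG D.hS D.hSP (cS.diff_conj_mem hψ))
      (isClassFunction_of_mem_calS (cT.diff_conj_mem hχ).1)
      (supp_calS D.hG D.hT D.hTP (cT.diff_conj_mem hχ))
  have h4 : classInner (colSum η k) (colSum (fun ω => η (swapDual ω)) k') = 1 := by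
    have hkl : swapDual k ∈ leftSet W₂ W₁ := swapDual_mem_leftSet.2 hk
    rw [colSum_eq_sum (fun ω => η (swapDual ω)), classInner_sum_right,
      Finset.sum_congr rfl (g := fun i : leftSet W₂ W₁ =>
        if k = swapDual (i : ↥(W₂ ⊔ W₁) →* ℂˣ) then (1 : ℂ) else 0) fun i _ => by
        rw [swapDual_mul, mul_comm (swapDual (i : ↥(W₂ ⊔ W₁) →* ℂˣ))]
        exact inner_colSum_eta (CyclicTI.split_of D.hW) D.hη hk (swapDual_mem_rightSet.2 i.2)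
          (swapDual_mem_leftSet.2 hk')]
    rw [Finset.sum_eq_single (⟨swapDual k, hkl⟩ : leftSet W₂ W₁)]
    · rw [if_pos (swapDual_swapDual k).symm]
    · exact fun i _ hne => if_neg fun e => hne (Subtype.ext (by
        show (i : ↥(W₂ ⊔ W₁) →* ℂˣ) = swapDual k
        rw [e, swapDual_swapDual]))
    · exact fun h => absurd (Finset.mem_univ _) h
  rw [hA, hB] at h0
  simp only [classInner_sub_left, classInner_sub_right, classInner_smul_left,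
    classInner_smul_right, h1, h2, h3, h4, mul_zero, sub_zero, mul_one, map_intCast] at h0
  have h5 : (ε' * o') * (ε * o) = 0 := by exact_mod_cast h0
  rcases mul_eq_zero.1 h5 with h | h <;> rcases mul_eq_zero.1 h with e | e <;> omega

end Cfsg.Agent.OddChar.TypeP.Tools
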