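import Cfsg.Agent.OddChar.TypeP.Tools.Budget
import Cfsg.Agent.OddChar.TypeP.Measure

/-!
# Parity of `Z = Y + τ₁ λ`, and two non-conjugate maximal subgroups of type I
-/

set_option autoImplicit false
set_option linter.unusedSectionVars false
set_option linter.style.haveILetI false

namespace Cfsg.Agent.OddChar.TypeP.Tools

open Cfsg Subgroup
open Cfsg.Agent.OddLocal
open Cfsg.Agent.Characters Cfsg.Agent.OddChar.Signed Cfsg.Agent.OddChar.Isometry

universe u

variable {G : Type u} [Group G] [Fintype G] {L L' : Subgroup G}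

theorem classInner_zero_of_supports {f h : G → ℂ} (hfh : ∀ g, f g = 0 ∨ h g = 0) :
    classInner f h = 0 := by
  rw [classInner_def, Finset.sum_eq_zero, mul_zero]
  intro g _
  rcases hfh g with e | e <;> simp [e]

theorem inner_comm_int {f h : G → ℂ} {n : ℤ} (e : classInner f h = (n : ℂ)) :
    classInner h f = (n : ℂ) := by
  rw [classInner_conj_symm f h, e, map_intCast]

/-- The Dade images of non-conjugate type I subgroups have disjoint supports. -/
theorem tauI_disjoint (hG : IsMinSimpleOddOrder G) (hL : IsCoatom L) (hκ : kappa L = ∅)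
    (hL' : IsCoatom L') (hκ' : kappa L' = ∅)
    (hnc : ∀ g : G, L' ≠ L.map (MulAut.conj g).toMonoidHom) [Fintype L] [Fintype L']
    (α : ↥L → ℂ) (β : ↥L' → ℂ) (g : G) : tauI L α g = 0 ∨ tauI L' β g = 0 := by
  by_contra hcon
  push Not at hcon
  have key : ∀ {M : Subgroup G}, IsCoatom M → kappa M = ∅ → ∀ (_ : Fintype M) (γ : ↥M → ℂ),
      tauI M γ g ≠ 0 → g ∈ tildeOf M ((sigmaCore M : Set G) \ {1}) := fun {M} hM hκM _ γ h => by
    rw [← typeA_eq_core hG hM hκM, tildeOf_eq_support]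
    by_contra hn
    exact h (Dade.apply_eq_zero_of_notMem hn)
  exact Set.eq_empty_iff_forall_notMem.mp (SupportR.tilde_disjoint hG hL hL' hnc) g
    ⟨key hL hκ inferInstance α hcon.1, key hL' hκ' inferInstance β hcon.2⟩

namespace LCtx

variable [Fintype L] {τ₁ : (↥L → ℂ) → G → ℂ} {lam : ↥L → ℂ}

theorem image_sub_conj_mem (c : LCtx L τ₁ lam) {φ : ↥L → ℂ} (hφ : φ ∈ famI L) :
    φ - Cfsg.conjFun φ ∈ zspanOn (famI L) {1}ᶜ := by
  refine mem_zspanOn_compl_one (Submodule.sub_mem _ (mem_zS hφ) (mem_zS (c.conj_mem hφ))) ?_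
  rw [Pi.sub_apply, (degree_famI hφ).2, (degree_famI (c.conj_mem hφ)).2, c.wI_conj, sub_self]

/-- The parity of `Z` against a real virtual character containing `1` once. -/
theorem parity (c : LCtx L τ₁ lam) {X : G → ℂ} (hX : IsGeneralizedCharacter G X) (hr : IsReal X)
    (h1 : classInner X (fun _ => 1) = 1) {m n : ℤ} (hm : classInner (YI L lam) X = (m : ℂ))
    (hn : classInner (τ₁ lam) X = (n : ℂ)) : Odd (m + n) := by
  obtain ⟨k, x, x', hx, hx', h⟩ := even_inner_sub c.hG.1 c.gen_Z hX c.Z_real hr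
  rw [c.Z_one] at hx
  rw [h1] at hx'
  have e1 : x = 1 := by exact_mod_cast hx.symm
  have e2 : x' = 1 := by exact_mod_cast hx'.symm
  rw [classInner_add_left, hm, hn, e1, e2] at h
  exact ⟨k, by
    have : m + n = 1 * 1 + 2 * k := by exact_mod_cast h
    omega⟩

variable [Fintype L'] {τ₁' : (↥L' → ℂ) → G → ℂ} {lam' : ↥L' → ℂ}

/-- `⟨Y, τ₁' φ⟩` is proportional to the degree. -/
theorem inner_Y_image (c : LCtx L τ₁ lam) (c' : LCtx L' τ₁' lam')
    (hnc : ∀ g : G, L' ≠ L.map (MulAut.conj g).toMonoidHom) {φ : ↥L' → ℂ} (hφ : φ ∈ famI L') :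
    classInner (τ₁' φ) (YI L lam) = (wI L' φ : ℂ) * classInner (τ₁' lam') (YI L lam) := by
  refine c'.inner_image c.class_Y (fun a ha => TypeOne.Gap.rho_const fun r hr => ?_) hφ
  have hmem : a * r ∈ tildeOf L' ((sigmaCore L' : Set G) \ {1}) := by
    rw [← typeA_eq_core c.hG c'.hL c'.hκ]
    exact SupportR.mem_tilde.2 ⟨a, ha, r, hr, 1, by group⟩
  refine Dade.apply_eq_zero_of_notMem fun hs => ?_
  rw [← tildeOf_eq_support, typeA_eq_core c.hG c.hL c.hκ] at hs
  exact Set.eq_empty_iff_forall_notMem.mp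
    (SupportR.tilde_disjoint c.hG c.hL c'.hL hnc) _ ⟨hs, hmem⟩

theorem inner_images' (c : LCtx L τ₁ lam) (c' : LCtx L' τ₁' lam')
    (hnc : ∀ g : G, L' ≠ L.map (MulAut.conj g).toMonoidHom) {φ : ↥L → ℂ} (hφ : φ ∈ famI L)
    {ψ : ↥L' → ℂ} (hψ : ψ ∈ famI L') : classInner (τ₁ φ) (τ₁' ψ) = 0 := by
  refine inner_eq_zero_of_diff (c.sirr hφ) (c'.sirr hψ) (c.image_orth_conj hφ)
    (c'.image_orth_conj hψ) ?_
  rw [c.conj_image hφ, c'.conj_image hψ, c.image_sub_conj hφ, c'.image_sub_conj hψ]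
  exact classInner_zero_of_supports fun g =>
    tauI_disjoint c.hG c.hL c.hκ c'.hL c'.hκ hnc _ _ g

/-- Of two non-conjugate type I subgroups one has `τ₁ λ` in the `Y` of the other. -/
theorem cross (c : LCtx L τ₁ lam) (c' : LCtx L' τ₁' lam')
    (hnc : ∀ g : G, L' ≠ L.map (MulAut.conj g).toMonoidHom) :
    (∃ k : ℤ, k ≠ 0 ∧ ∀ φ ∈ famI L',
        classInner (YI L lam) (τ₁' φ) = ((wI L' φ * k : ℤ) : ℂ)) ∨
      ∃ k : ℤ, k ≠ 0 ∧ ∀ φ ∈ famI L,
        classInner (YI L' lam') (τ₁ φ) = ((wI L φ * k : ℤ) : ℂ) := by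
  have hnc' : ∀ g : G, L ≠ L'.map (MulAut.conj g).toMonoidHom := fun g e => hnc g⁻¹ (by
    rw [e, Transfer.Fusion.map_conj_inv_cancel])
  obtain ⟨k, hk⟩ := classInner_gen_int c'.gen_Y (c.iso.2.2.2 _ (mem_zS c.lam_mem))
  obtain ⟨k', hk'⟩ := classInner_gen_int c.gen_Y (c'.iso.2.2.2 _ (mem_zS c'.lam_mem))
  obtain ⟨m, x, x', hx, hx', h⟩ := even_inner_sub c.hG.1 c.gen_Z c'.gen_Z c.Z_real c'.Z_real
  rw [c.Z_one] at hx
  rw [c'.Z_one] at hx'
  have e1 : x = 1 := by exact_mod_cast hx.symm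
  have e2 : x' = 1 := by exact_mod_cast hx'.symm
  rw [classInner_add_left, classInner_add_right, classInner_add_right, hk', inner_comm_int hk,
    c.inner_images' c' hnc c.lam_mem c'.lam_mem,
    show classInner (YI L lam) (YI L' lam') = 0 from classInner_zero_of_supports fun g =>
      tauI_disjoint c.hG c.hL c.hκ c'.hL c'.hκ hnc _ _ g, e1, e2] at h
  have hodd : k' + k = 1 * 1 + 2 * m := by
    push_cast at h
    have : ((k' + k : ℤ) : ℂ) = ((1 * 1 + 2 * m : ℤ) : ℂ) := by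
      push_cast; linear_combination h
    exact_mod_cast this
  by_cases h0 : k' = 0
  · refine Or.inr ⟨k, by omega, fun φ hφ => ?_⟩
    refine inner_comm_int ?_
    rw [c'.inner_Y_image c hnc' hφ, inner_comm_int hk]
    push_cast; ring
  · refine Or.inl ⟨k', h0, fun φ hφ => ?_⟩
    refine inner_comm_int ?_
    rw [c.inner_Y_image c' hnc hφ, inner_comm_int hk']
    push_cast; ring

end LCtx

end Cfsg.Agent.OddChar.TypeP.Tools
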