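import Mathlib

/-!
# Grids of integers of small norm

A function `r i + c j` on a grid which, up to two cells of opposite sign, has squared norm at most
`2`, is zero.
-/

set_option autoImplicit false

namespace Cfsg.Agent.OddChar.TypeP.Tools

universe u v

theorem grid_eq_zero {I : Type u} {J : Type v} [Fintype I] [Fintype J] [DecidableEq I] [DecidableEq J]
    (hI : 3 ≤ Fintype.card I) (hJ : 3 ≤ Fintype.card J) (hne : Fintype.card I ≠ Fintype.card J)
    (hIo : Odd (Fintype.card I)) (hJo : Odd (Fintype.card J)) (i₀ : I) (j₀ : J) (r : I → ℤ)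
    (c : J → ℤ) (hr : r i₀ = 0) (hc : c j₀ = 0) (A B : I × J) (hAB : A ≠ B) (d : ℤ)
    (hd : d = 1 ∨ d = -1)
    (h : ∑ x : I × J,
      (r x.1 + c x.2 + ((if x = A then d else 0) - (if x = B then d else 0))) ^ 2 ≤ 2) :
    ∀ x : I × J, r x.1 + c x.2 = 0 := by
  classical
  set D : I × J → ℤ := fun x => r x.1 + c x.2 with hD
  have hd2 : d ^ 2 = 1 := by rcases hd with rfl | rfl <;> norm_num
  have hexp : ∑ x : I × J,
      (D x + ((if x = A then d else 0) - (if x = B then d else 0))) ^ 2 =
      (∑ x, D x ^ 2) + 2 * d * (D A - D B) + 2 := by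
    have : ∀ x : I × J, (D x + ((if x = A then d else 0) - (if x = B then d else 0))) ^ 2 =
        D x ^ 2 + ((if x = A then 2 * d * D x + 1 else 0) -
          (if x = B then 2 * d * D x - 1 else 0)) := fun x => by
      by_cases ha : x = A
      · subst ha; rw [if_pos rfl, if_pos rfl, if_neg hAB, if_neg hAB]; linear_combination hd2
      · by_cases hb : x = B
        · subst hb; rw [if_neg ha, if_neg ha, if_pos rfl, if_pos rfl]; linear_combination hd2
        · rw [if_neg ha, if_neg ha, if_neg hb, if_neg hb]; ring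
    rw [Finset.sum_congr rfl fun x _ => this x, Finset.sum_add_distrib, Finset.sum_sub_distrib,
      Finset.sum_ite_eq' Finset.univ A, Finset.sum_ite_eq' Finset.univ B]
    simp only [Finset.mem_univ, if_true]
    ring
  have hle : ∑ x, D x ^ 2 ≤ 2 * |D A - D B| := by
    have h' : (∑ x, D x ^ 2) + 2 * d * (D A - D B) ≤ 0 := by linarith [hexp ▸ h]
    rcases hd with rfl | rfl
    · linarith [neg_abs_le (D A - D B)]
    · linarith [le_abs_self (D A - D B)]
  suffices hz : ∑ x, D x ^ 2 ≤ 0 by
    intro x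
    have := (Finset.sum_eq_zero_iff_of_nonneg fun y _ => sq_nonneg (D y)).1
      (le_antisymm hz (Finset.sum_nonneg fun y _ => sq_nonneg (D y))) x (Finset.mem_univ x)
    exact sq_eq_zero_iff.1 this
  by_cases hc0 : ∀ j, c j = 0
  · -- whole rows
    have hsum : ∑ x, D x ^ 2 = (Fintype.card J : ℤ) * ∑ i, r i ^ 2 := by
      rw [Fintype.sum_prod_type, Finset.mul_sum]
      exact Finset.sum_congr rfl fun i _ => by simp [D, hc0, Finset.card_univ]
    have hDA : D A = r A.1 := by simp [D, hc0]
    have hDB : D B = r B.1 := by simp [D, hc0]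
    by_cases h12 : A.1 = B.1
    · rw [hDA, hDB, h12, sub_self, abs_zero, mul_zero] at hle
      exact hle
    · have h2 : r A.1 ^ 2 + r B.1 ^ 2 ≤ ∑ i, r i ^ 2 :=
        Finset.add_le_sum (fun i _ => sq_nonneg (r i)) (Finset.mem_univ _) (Finset.mem_univ _) h12
      have h3 : |D A - D B| ≤ |r A.1| + |r B.1| := by rw [hDA, hDB]; exact abs_sub _ _
      have ha : |r A.1| ≤ r A.1 ^ 2 := by rw [← sq_abs]; exact Int.le_self_sq _
      have hb : |r B.1| ≤ r B.1 ^ 2 := by rw [← sq_abs]; exact Int.le_self_sq _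
      have hJ' : (3 : ℤ) ≤ Fintype.card J := by exact_mod_cast hJ
      have := Finset.sum_nonneg (s := Finset.univ) fun i _ => sq_nonneg (r i)
      nlinarith
  by_cases hr0 : ∀ i, r i = 0
  · -- whole columns
    have hsum : ∑ x, D x ^ 2 = (Fintype.card I : ℤ) * ∑ j, c j ^ 2 := by
      rw [Fintype.sum_prod_type, Finset.sum_comm, Finset.mul_sum]
      exact Finset.sum_congr rfl fun j _ => by simp [D, hr0, Finset.card_univ]
    have hDA : D A = c A.2 := by simp [D, hr0]
    have hDB : D B = c B.2 := by simp [D, hr0]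
    by_cases h12 : A.2 = B.2
    · rw [hDA, hDB, h12, sub_self, abs_zero, mul_zero] at hle
      exact hle
    · have h2 : c A.2 ^ 2 + c B.2 ^ 2 ≤ ∑ j, c j ^ 2 :=
        Finset.add_le_sum (fun i _ => sq_nonneg (c i)) (Finset.mem_univ _) (Finset.mem_univ _) h12
      have h3 : |D A - D B| ≤ |c A.2| + |c B.2| := by rw [hDA, hDB]; exact abs_sub _ _
      have ha : |c A.2| ≤ c A.2 ^ 2 := by rw [← sq_abs]; exact Int.le_self_sq _
      have hb : |c B.2| ≤ c B.2 ^ 2 := by rw [← sq_abs]; exact Int.le_self_sq _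
      have hI' : (3 : ℤ) ≤ Fintype.card I := by exact_mod_cast hI
      have := Finset.sum_nonneg (s := Finset.univ) fun j _ => sq_nonneg (c j)
      nlinarith
  -- every row and every column meets the support
  exfalso
  push Not at hc0 hr0
  obtain ⟨j₁, hj⟩ := hc0
  obtain ⟨i₁, hi⟩ := hr0
  set K := Finset.univ.filter fun x => D x ≠ 0 with hK
  have hK4 : (K.card : ℤ) ≤ 4 := by
    have h1 : (K.card : ℤ) = ∑ x, (if D x ≠ 0 then 1 else 0 : ℤ) := by
      rw [Finset.sum_boole]
    have h2 : ∀ x, 0 ≤ D x ^ 2 - (if D x ≠ 0 then 1 else 0 : ℤ) := fun x => by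
      split_ifs with hx
      · have := sq_pos_of_ne_zero hx; omega
      · have := sq_nonneg (D x); omega
    have h3 := Finset.add_le_sum (fun x _ => h2 x) (Finset.mem_univ A) (Finset.mem_univ B) hAB
    rw [Finset.sum_sub_distrib, ← h1] at h3
    have h4 : ∀ z : ℤ, 2 * |z| - z ^ 2 + (if z ≠ 0 then 1 else 0 : ℤ) ≤ 2 := fun z => by
      split_ifs with hz
      · nlinarith [sq_abs z, sq_nonneg (|z| - 1)]
      · rw [not_not.1 hz]; norm_num
    have := h4 (D A)
    have := h4 (D B)
    have := abs_sub (D A) (D B)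
    linarith
  have hJK : Fintype.card J ≤ K.card := by
    refine Finset.card_le_card_of_injOn (fun j => if c j = 0 then (i₁, j) else (i₀, j))
      (fun j _ => ?_) (fun a _ b _ hab => ?_)
    · show _ ∈ K
      rw [hK, Finset.mem_filter]
      refine ⟨Finset.mem_univ _, ?_⟩
      dsimp only
      split_ifs with hcj
      · simpa [D, hcj] using hi
      · simpa [D, hr] using hcj
    · have := congrArg Prod.snd hab
      dsimp only at this
      split_ifs at this <;> exact this
  have hIK : Fintype.card I ≤ K.card := by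
    refine Finset.card_le_card_of_injOn (fun i => if r i = 0 then (i, j₁) else (i, j₀))
      (fun i _ => ?_) (fun a _ b _ hab => ?_)
    · show _ ∈ K
      rw [hK, Finset.mem_filter]
      refine ⟨Finset.mem_univ _, ?_⟩
      dsimp only
      split_ifs with hri
      · simpa [D, hri] using hj
      · simpa [D, hc] using hri
    · have := congrArg Prod.fst hab
      dsimp only at this
      split_ifs at this <;> exact this
  obtain ⟨a, ha⟩ := hIo
  obtain ⟨b, hb⟩ := hJo
  omega

end Cfsg.Agent.OddChar.TypeP.Tools
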