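import Cfsg.Agent.OddChar.TypeP.Defs
import Cfsg.Agent.OddChar.TypeP.Tools.Cells
import Cfsg.Agent.OddChar.CyclicTI.Duals
import Cfsg.Agent.OddChar.CyclicTI.Family
import Cfsg.Agent.OddChar.Coherence.Basic
import Cfsg.Agent.OddChar.Lattice
import Cfsg.Agent.OddChar.Signed

/-!
# Coefficients on a cyclic TI family

For a virtual character `X` put `a ω = ⟨X, η ω⟩`.
-/

set_option autoImplicit false
set_option linter.style.haveILetI false
set_option linter.unusedSectionVars false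

namespace Cfsg.Agent.OddChar.TypeP.Tools

open Cfsg.Agent.Characters Cfsg.Agent.OddChar.CyclicTI

universe u

variable {G : Type u} [Group G] [Fintype G] {W₁ W₂ : Subgroup G}
  {η : (↥(W₁ ⊔ W₂) →* ℂˣ) → G → ℂ} (hη : Cfsg.IsCyclicTIFamily W₁ W₂ η)

include hη in
theorem exists_coef {X : G → ℂ} (hX : Cfsg.IsGeneralizedCharacter G X) :
    ∃ a : (↥(W₁ ⊔ W₂) →* ℂˣ) → ℤ, ∀ ω, Cfsg.classInner X (η ω) = (a ω : ℂ) := by
  classical
  refine ⟨fun ω => if h : Cfsg.IsIrrCharacter G (η ω) then Lattice.coeff X ⟨_, h⟩ else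
    -Lattice.coeff X ⟨_, (hη.irr_or_neg ω).resolve_left h⟩, fun ω => ?_⟩
  dsimp only
  split_ifs with h
  · exact Lattice.coeff_spec hX ⟨_, h⟩
  · have e : Cfsg.classInner X (-η ω) = -Cfsg.classInner X (η ω) := by
      have := classInner_smul_right (-1 : ℂ) X (η ω)
      rwa [map_neg, map_one, neg_one_mul, neg_one_smul] at this
    rw [Int.cast_neg, ← Lattice.coeff_spec hX ⟨_, (hη.irr_or_neg ω).resolve_left h⟩]
    show _ = -Cfsg.classInner X (-η ω)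
    rw [e, neg_neg]

include hη in
/-- The grid relation. -/
theorem coef_grid (hW : Cfsg.IsSelfNormalizingCyclic W₁ W₂) {X : G → ℂ}
    (hX : Cfsg.IsClassFunction G X)
    (hV : ∀ w : ↥(W₁ ⊔ W₂), (w : G) ∉ W₁ → (w : G) ∉ W₂ → X w = 0)
    {a : (↥(W₁ ⊔ W₂) →* ℂˣ) → ℤ} (ha : ∀ ω, Cfsg.classInner X (η ω) = (a ω : ℂ))
    {i j : ↥(W₁ ⊔ W₂) →* ℂˣ} (hi : i ∈ leftSet W₁ W₂) (hj : j ∈ rightSet W₁ W₂) :
    a (i * j) = a i + a j - a 1 := by
  have h := relation_of_vanish hW hη hX hV (φ := i) (ψ := j) hi hj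
  rw [ha, ha, ha, ha] at h
  exact_mod_cast h

theorem card_leftSet (hW : Cfsg.IsSelfNormalizingCyclic W₁ W₂) :
    Nat.card (leftSet W₁ W₂) = Nat.card W₁ :=
  card_left (split_of hW) (comm_of hW)

theorem card_rightSet (hW : Cfsg.IsSelfNormalizingCyclic W₁ W₂) :
    Nat.card (rightSet W₁ W₂) = Nat.card W₂ :=
  card_right (split_of hW) (comm_of hW)

theorem one_mem_leftSet : (1 : ↥(W₁ ⊔ W₂) →* ℂˣ) ∈ leftSet W₁ W₂ := fun _ _ => rfl

theorem one_mem_rightSet : (1 : ↥(W₁ ⊔ W₂) →* ℂˣ) ∈ rightSet W₁ W₂ := fun _ _ => rfl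

/-- The cells of the grid. -/
noncomputable def cellEquiv (hW : Cfsg.IsSelfNormalizingCyclic W₁ W₂) :
    leftSet W₁ W₂ × rightSet W₁ W₂ ≃ (↥(W₁ ⊔ W₂) →* ℂˣ) :=
  Equiv.ofBijective (fun x => (x.1 : ↥(W₁ ⊔ W₂) →* ℂˣ) * (x.2 : ↥(W₁ ⊔ W₂) →* ℂˣ))
    ⟨fun x y h => by
      obtain ⟨h1, h2⟩ := (split_of hW).mul_inj x.1.2 y.1.2 x.2.2 y.2.2 h
      exact Prod.ext (Subtype.ext h1) (Subtype.ext h2),
    fun ω => by
      obtain ⟨i, j, hi, hj, rfl⟩ := (split_of hW).exists_split ω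
      exact ⟨(⟨i, hi⟩, ⟨j, hj⟩), rfl⟩⟩

theorem cellEquiv_apply (hW : Cfsg.IsSelfNormalizingCyclic W₁ W₂)
    (x : leftSet W₁ W₂ × rightSet W₁ W₂) :
    cellEquiv hW x = (x.1 : ↥(W₁ ⊔ W₂) →* ℂˣ) * (x.2 : ↥(W₁ ⊔ W₂) →* ℂˣ) := rfl

theorem colSum_eq_sum [Fintype (leftSet W₁ W₂)] {X : Type*}
    (f : (↥(W₁ ⊔ W₂) →* ℂˣ) → X → ℂ) (j : ↥(W₁ ⊔ W₂) →* ℂˣ) :
    colSum f j = ∑ i : leftSet W₁ W₂, f ((i : ↥(W₁ ⊔ W₂) →* ℂˣ) * j) := by
  rw [colSum, ← finsum_set_coe_eq_finsum_mem, finsum_eq_sum_of_fintype]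

include hη in
/-- The inner product with a column. -/
theorem inner_colSum (hW : Cfsg.IsSelfNormalizingCyclic W₁ W₂) {X : G → ℂ}
    (hX : Cfsg.IsClassFunction G X)
    (hV : ∀ w : ↥(W₁ ⊔ W₂), (w : G) ∉ W₁ → (w : G) ∉ W₂ → X w = 0)
    {a : (↥(W₁ ⊔ W₂) →* ℂˣ) → ℤ} (ha : ∀ ω, Cfsg.classInner X (η ω) = (a ω : ℂ))
    [Fintype (leftSet W₁ W₂)] {j : ↥(W₁ ⊔ W₂) →* ℂˣ} (hj : j ∈ rightSet W₁ W₂) :
    Cfsg.classInner X (colSum η j) =
      (((∑ i : leftSet W₁ W₂, a i) + (Nat.card W₁ : ℤ) * (a j - a 1) : ℤ) : ℂ) := by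
  rw [colSum_eq_sum, classInner_sum_right]
  have : ∀ i : leftSet W₁ W₂, Cfsg.classInner X (η ((i : ↥(W₁ ⊔ W₂) →* ℂˣ) * j)) =
      ((a i + (a j - a 1) : ℤ) : ℂ) := fun i => by
    rw [ha, coef_grid hη hW hX hV ha i.2 hj, add_sub_assoc]
  rw [Finset.sum_congr rfl fun i _ => this i, ← Int.cast_sum, Finset.sum_add_distrib,
    Finset.sum_const, Finset.card_univ, ← Nat.card_eq_fintype_card, card_leftSet hW, nsmul_eq_mul]

include hη in
/-- A function orthogonal to the differences of the nontrivial columns is constant along the first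
row. -/
theorem const_of_colSum (hW : Cfsg.IsSelfNormalizingCyclic W₁ W₂) {X : G → ℂ}
    (hX : Cfsg.IsClassFunction G X)
    (hV : ∀ w : ↥(W₁ ⊔ W₂), (w : G) ∉ W₁ → (w : G) ∉ W₂ → X w = 0)
    {a : (↥(W₁ ⊔ W₂) →* ℂˣ) → ℤ} (ha : ∀ ω, Cfsg.classInner X (η ω) = (a ω : ℂ))
    (horth : ∀ j ∈ rightSet W₁ W₂, ∀ k ∈ rightSet W₁ W₂, j ≠ 1 → k ≠ 1 →
      Cfsg.classInner X (colSum η j) = Cfsg.classInner X (colSum η k)) :
    ∃ c : ℤ, ∀ j ∈ rightSet W₁ W₂, j ≠ 1 → a j = c := by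
  classical
  by_cases h : ∃ k ∈ rightSet W₁ W₂, k ≠ 1
  swap
  · exact ⟨0, fun j hj h1 => absurd ⟨j, hj, h1⟩ h⟩
  obtain ⟨k, hk, hk1⟩ := h
  refine ⟨a k, fun j hj hj1 => ?_⟩
  haveI : Fintype (leftSet W₁ W₂) := Fintype.ofFinite _
  have := horth j hj k hk hj1 hk1
  rw [inner_colSum hη hW hX hV ha hj, inner_colSum hη hW hX hV ha hk] at this
  have h0 : (Nat.card W₁ : ℤ) * (a j - a 1) = (Nat.card W₁ : ℤ) * (a k - a 1) := by
    exact_mod_cast add_left_cancel (by exact_mod_cast this :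
      (∑ i : leftSet W₁ W₂, a i) + (Nat.card W₁ : ℤ) * (a j - a 1) =
        (∑ i : leftSet W₁ W₂, a i) + (Nat.card W₁ : ℤ) * (a k - a 1))
  have hq : (Nat.card W₁ : ℤ) ≠ 0 := Int.natCast_ne_zero.2 Nat.card_pos.ne'
  linarith [mul_left_cancel₀ hq h0]

/-- The squared norm of the part on the grid with constant first row and first column. -/
theorem sum_sq_const (hW : Cfsg.IsSelfNormalizingCyclic W₁ W₂)
    [Fintype (↥(W₁ ⊔ W₂) →* ℂˣ)] {a : (↥(W₁ ⊔ W₂) →* ℂˣ) → ℤ} {r c : ℤ}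
    (hgrid : ∀ i ∈ leftSet W₁ W₂, ∀ j ∈ rightSet W₁ W₂, a (i * j) = a i + a j - a 1)
    (hr : ∀ i ∈ leftSet W₁ W₂, i ≠ 1 → a i = r)
    (hc : ∀ j ∈ rightSet W₁ W₂, j ≠ 1 → a j = c) :
    ∑ ω, a ω ^ 2 = a 1 ^ 2 + ((Nat.card W₁ : ℤ) - 1) * r ^ 2 + ((Nat.card W₂ : ℤ) - 1) * c ^ 2 +
      ((Nat.card W₁ : ℤ) - 1) * ((Nat.card W₂ : ℤ) - 1) * (r + c - a 1) ^ 2 := by
  classical
  haveI : Fintype (leftSet W₁ W₂) := Fintype.ofFinite _
  haveI : Fintype (rightSet W₁ W₂) := Fintype.ofFinite _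
  rw [← (cellEquiv hW).sum_comp, Fintype.sum_prod_type]
  simp only [cellEquiv_apply]
  let i₀ : leftSet W₁ W₂ := ⟨1, one_mem_leftSet⟩
  let j₀ : rightSet W₁ W₂ := ⟨1, one_mem_rightSet⟩
  have hrow : ∀ i : leftSet W₁ W₂,
      ∑ j : rightSet W₁ W₂, a ((i : ↥(W₁ ⊔ W₂) →* ℂˣ) * j) ^ 2 =
        a i ^ 2 + ((Nat.card W₂ : ℤ) - 1) * (a i + c - a 1) ^ 2 := fun i => by
    rw [← Finset.add_sum_erase _ _ (Finset.mem_univ j₀),
      Finset.sum_congr rfl (g := fun _ => (a i + c - a 1) ^ 2) fun j hj => by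
        rw [hgrid _ i.2 _ j.2, hc _ j.2 fun e => (Finset.mem_erase.1 hj).1 (Subtype.ext e)],
      Finset.sum_const, Finset.card_erase_of_mem (Finset.mem_univ j₀), Finset.card_univ,
      ← Nat.card_eq_fintype_card, card_rightSet hW, nsmul_eq_mul,
      Nat.cast_sub (Nat.card_pos : 0 < Nat.card W₂), Nat.cast_one]
    rw [show ((j₀ : rightSet W₁ W₂) : ↥(W₁ ⊔ W₂) →* ℂˣ) = 1 from rfl,
      show (i : ↥(W₁ ⊔ W₂) →* ℂˣ) * (1 : ↥(W₁ ⊔ W₂) →* ℂˣ) = i from mul_one (i : ↥(W₁ ⊔ W₂) →* ℂˣ)]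
  rw [Finset.sum_congr rfl fun i _ => hrow i, ← Finset.add_sum_erase _ _ (Finset.mem_univ i₀),
    Finset.sum_congr rfl
      (g := fun _ => r ^ 2 + ((Nat.card W₂ : ℤ) - 1) * (r + c - a 1) ^ 2) fun i hi => by
        rw [hr _ i.2 fun e => (Finset.mem_erase.1 hi).1 (Subtype.ext e)],
    Finset.sum_const, Finset.card_erase_of_mem (Finset.mem_univ i₀), Finset.card_univ,
    ← Nat.card_eq_fintype_card, card_leftSet hW, nsmul_eq_mul,
    Nat.cast_sub (Nat.card_pos : 0 < Nat.card W₁), Nat.cast_one]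
  rw [show ((i₀ : leftSet W₁ W₂) : ↥(W₁ ⊔ W₂) →* ℂˣ) = 1 from rfl]
  ring

include hη in
/-- Bessel for the family together with further orthogonal functions. -/
theorem norm_bound [Fintype (↥(W₁ ⊔ W₂) →* ℂˣ)] {ι : Type*} [DecidableEq ι] (s : Finset ι)
    (f : ι → G → ℂ) (n : ι → ℕ) (hn : ∀ k ∈ s, 0 < n k)
    (horth : ∀ k ∈ s, ∀ l ∈ s, Cfsg.classInner (f k) (f l) = if k = l then (n k : ℂ) else 0)
    (hηf : ∀ k ∈ s, ∀ ω, Cfsg.classInner (η ω) (f k) = 0) {X : G → ℂ} {u : ι → ℤ}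
    (hu : ∀ k ∈ s, Cfsg.classInner X (f k) = (u k : ℂ))
    {a : (↥(W₁ ⊔ W₂) →* ℂˣ) → ℤ} (ha : ∀ ω, Cfsg.classInner X (η ω) = (a ω : ℂ)) :
    ((∑ ω, a ω ^ 2 : ℤ) : ℝ) + ∑ k ∈ s, (u k : ℝ) ^ 2 / (n k : ℝ) ≤
        (Cfsg.classInner X X).re ∧
      ((Cfsg.classInner X X).re ≤
          ((∑ ω, a ω ^ 2 : ℤ) : ℝ) + ∑ k ∈ s, (u k : ℝ) ^ 2 / (n k : ℝ) →
        X = (∑ ω, (a ω : ℂ) • η ω) + ∑ k ∈ s, ((u k : ℂ) / (n k : ℂ)) • f k) := by
  classical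
  let F : (↥(W₁ ⊔ W₂) →* ℂˣ) ⊕ ι → G → ℂ := Sum.elim η f
  let N : (↥(W₁ ⊔ W₂) →* ℂˣ) ⊕ ι → ℕ := Sum.elim (fun _ => 1) n
  let U : (↥(W₁ ⊔ W₂) →* ℂˣ) ⊕ ι → ℤ := Sum.elim a u
  let T : Finset ((↥(W₁ ⊔ W₂) →* ℂˣ) ⊕ ι) := Finset.univ.disjSum s
  have hs : ∀ {k : ι}, (Sum.inr k : (↥(W₁ ⊔ W₂) →* ℂˣ) ⊕ ι) ∈ T → k ∈ s := fun h =>
    Finset.inr_mem_disjSum.1 h
  have hN : ∀ i ∈ T, 0 < N i := by
    rintro (ω | k) hi
    · exact one_pos
    · exact hn k (hs hi)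
  have hF : ∀ i ∈ T, ∀ j ∈ T, Cfsg.classInner (F i) (F j) = if i = j then (N i : ℂ) else 0 := by
    rintro (ω | k) hi (ω' | l) hj
    · simp [F, N, hη.orthonormal]
    · simp [F, hηf l (hs hj) ω]
    · simp [F, Coherence.inner_comm_zero (hηf k (hs hi) ω')]
    · simp [F, N, horth k (hs hi) l (hs hj)]
  have hU : ∀ i ∈ T, Cfsg.classInner X (F i) = (U i : ℂ) := by
    rintro (ω | k) hi
    · exact ha ω
    · exact hu k (hs hi)
  have hsum : ∑ i ∈ T, (U i : ℝ) ^ 2 / (N i : ℝ) =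
      ((∑ ω, a ω ^ 2 : ℤ) : ℝ) + ∑ k ∈ s, (u k : ℝ) ^ 2 / (n k : ℝ) := by
    rw [Finset.sum_disjSum]
    simp [U, N]
  refine ⟨hsum ▸ Coherence.bessel hN hF hU, fun h => ?_⟩
  rw [← hsum] at h
  rw [Coherence.eq_of_bessel_le hN hF hU h, Finset.sum_disjSum]
  simp [F, U, N]

include hη in
open Classical in
/-- The norm two lemma. -/
theorem eq_of_norm_two (hW : Cfsg.IsSelfNormalizingCyclic W₁ W₂)
    (hodd : Odd (Nat.card ↥(W₁ ⊔ W₂))) {X : G → ℂ} (hX : Cfsg.IsGeneralizedCharacter G X)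
    (hnorm : (Cfsg.classInner X X).re ≤ 2) {A B : ↥(W₁ ⊔ W₂) →* ℂˣ} (hAB : A ≠ B) {d : ℤ}
    (hd : d = 1 ∨ d = -1)
    (hV : ∀ w : ↥(W₁ ⊔ W₂), (w : G) ∉ W₁ → (w : G) ∉ W₂ →
      X w = (d : ℂ) * ((A w : ℂ) - (B w : ℂ)))
    (h0 : Cfsg.classInner X (fun _ => 1) = (d : ℂ) * ((if A = 1 then 1 else 0) - (if B = 1 then 1 else 0))) :
    X = (d : ℂ) • (η A - η B) := by
  classical
  haveI : Fintype (↥(W₁ ⊔ W₂) →* ℂˣ) := Fintype.ofFinite _
  haveI : Fintype (leftSet W₁ W₂) := Fintype.ofFinite _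
  haveI : Fintype (rightSet W₁ W₂) := Fintype.ofFinite _
  obtain ⟨b, hb⟩ := exists_coef hη hX
  set Y : G → ℂ := X - (d : ℂ) • (η A - η B) with hY
  have hgen : ∀ ω, Cfsg.IsClassFunction G (η ω) := fun ω =>
    isGen_isClassFunction (Signed.IsSIrr.isGen (hη.irr_or_neg ω))
  have hXc := isGen_isClassFunction hX
  have hYc : Cfsg.IsClassFunction G Y := fun g h => by
    simp only [hY, Pi.sub_apply, Pi.smul_apply]
    rw [hXc g h, hgen A g h, hgen B g h]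
  have hYV : ∀ w : ↥(W₁ ⊔ W₂), (w : G) ∉ W₁ → (w : G) ∉ W₂ → Y w = 0 := fun w h1 h2 => by
    simp only [hY, Pi.sub_apply, Pi.smul_apply, smul_eq_mul, hV w h1 h2, hη.eq_on _ w h1 h2]
    ring
  let e : (↥(W₁ ⊔ W₂) →* ℂˣ) → ℤ := fun ω =>
    b ω - ((if ω = A then d else 0) - (if ω = B then d else 0))
  have he : ∀ ω, Cfsg.classInner Y (η ω) = (e ω : ℂ) := fun ω => by
    rw [hY, classInner_sub_left, classInner_smul_left, classInner_sub_left, hb, hη.orthonormal,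
      hη.orthonormal]
    simp only [e, eq_comm (a := ω)]
    push_cast
    split_ifs <;> ring
  have he1 : e 1 = 0 := by
    have h : (b 1 : ℂ) = (d : ℂ) * ((if A = 1 then 1 else 0) - (if B = 1 then 1 else 0)) := by
      rw [← hb, hη.map_one, h0]
    have h' : b 1 = d * ((if A = 1 then 1 else 0) - (if B = 1 then 1 else 0)) := by
      exact_mod_cast h
    simp only [e, eq_comm (a := (1 : ↥(W₁ ⊔ W₂) →* ℂˣ))]
    rw [h']
    split_ifs <;> ring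
  have hgrid : ∀ x : leftSet W₁ W₂ × rightSet W₁ W₂,
      e (cellEquiv hW x) = e x.1 + e x.2 := fun x => by
    rw [cellEquiv_apply, coef_grid hη hW hYc hYV he x.1.2 x.2.2, he1, sub_zero]
  have hle : ∑ ω, b ω ^ 2 ≤ 2 := by
    have := (norm_bound hη (∅ : Finset Unit) (fun _ _ => 0) (fun _ => 1) (by simp) (by simp)
      (by simp) (u := fun _ => 0) (X := X) (by simp) hb).1
    rw [Finset.sum_empty, add_zero] at this
    exact_mod_cast this.trans hnorm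
  have hS := split_of hW
  haveI := hW.2.2.2.2.1
  obtain ⟨hq1, hp1⟩ : Odd (Nat.card W₁) ∧ Odd (Nat.card W₂) := by
    rw [← Nat.card_congr hS.prodEquiv.toEquiv, Nat.card_prod, Nat.odd_mul] at hodd
    exact hodd
  have h3 : ∀ {K : Subgroup G}, K ≠ ⊥ → Odd (Nat.card K) → 3 ≤ Nat.card K := fun hne ho => by
    have := Subgroup.one_lt_card_iff_ne_bot _ |>.2 hne
    obtain ⟨t, ht⟩ := ho
    omega
  have hq := h3 hW.1 hq1
  have hp := h3 hW.2.1 hp1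
  have hne : Nat.card W₁ ≠ Nat.card W₂ := fun hh => by
    have := card_coprime hS
    rw [hh, Nat.coprime_self] at this
    omega
  have key := grid_eq_zero (I := leftSet W₁ W₂) (J := rightSet W₁ W₂)
    (by rw [← Nat.card_eq_fintype_card, card_leftSet hW]; exact hq)
    (by rw [← Nat.card_eq_fintype_card, card_rightSet hW]; exact hp)
    (by simpa only [← Nat.card_eq_fintype_card, card_leftSet hW, card_rightSet hW] using hne)
    (by rw [← Nat.card_eq_fintype_card, card_leftSet hW]; exact hq1)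
    (by rw [← Nat.card_eq_fintype_card, card_rightSet hW]; exact hp1)
    ⟨1, one_mem_leftSet⟩ ⟨1, one_mem_rightSet⟩ (fun i => e i) (fun j => e j) he1 he1
    ((cellEquiv hW).symm A) ((cellEquiv hW).symm B) (fun h => hAB ((cellEquiv hW).symm.injective h))
    d hd (by
      refine le_trans (le_of_eq ?_) hle
      rw [← (cellEquiv hW).sum_comp]
      refine Finset.sum_congr rfl fun x _ => ?_
      rw [← hgrid x]
      simp only [e, Equiv.eq_symm_apply]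
      ring)
  have hb' : ∀ ω, b ω = (if ω = A then d else 0) - (if ω = B then d else 0) := fun ω => by
    obtain ⟨x, rfl⟩ := (cellEquiv hW).surjective ω
    have := (hgrid x).trans (key x)
    simp only [e] at this
    linarith
  have hsq : ∑ ω, b ω ^ 2 = 2 := by
    have hd2 : d ^ 2 = 1 := by rcases hd with rfl | rfl <;> norm_num
    have : ∀ ω, b ω ^ 2 = (if ω = A then (1 : ℤ) else 0) + (if ω = B then 1 else 0) := fun ω => by
      rw [hb']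
      by_cases ha : ω = A
      · simp [ha, hAB, hd2]
      · by_cases hb2 : ω = B
        · simp [hb2, hAB.symm, hd2]
        · simp [ha, hb2]
    rw [Finset.sum_congr rfl fun ω _ => this ω, Finset.sum_add_distrib]
    simp
  have := (norm_bound hη (∅ : Finset Unit) (fun _ _ => 0) (fun _ => 1) (by simp) (by simp)
    (by simp) (u := fun _ => 0) (X := X) (by simp) hb).2 (by
      rw [Finset.sum_empty, add_zero, hsq]; exact_mod_cast hnorm)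
  rw [this, Finset.sum_empty, add_zero, Finset.sum_congr rfl fun ω _ => by rw [hb' ω]]
  simp only [Int.cast_sub, Int.cast_ite, Int.cast_zero, sub_smul, ite_smul, zero_smul,
    Finset.sum_sub_distrib, Finset.sum_ite_eq', Finset.mem_univ, if_true, smul_sub]

include hη in
/-- Off the conjugates of `W - W₁ ∪ W₂` the family is additive. -/
theorem eta_mul_apply
    {i j : ↥(W₁ ⊔ W₂) →* ℂˣ} (hi : i ∈ leftSet W₁ W₂) (hj : j ∈ rightSet W₁ W₂) {g : G}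
    (hg : ∀ x : G, x * g * x⁻¹ ∈ W₁ ⊔ W₂ → x * g * x⁻¹ ∈ W₁ ∨ x * g * x⁻¹ ∈ W₂) :
    η (i * j) g = η i g + η j g - 1 := by
  classical
  by_cases h1 : i = 1
  · subst h1; rw [show (1 : ↥(W₁ ⊔ W₂) →* ℂˣ) * j = j from one_mul j, hη.map_one]; ring
  by_cases h2 : j = 1
  · subst h2; rw [show i * (1 : ↥(W₁ ⊔ W₂) →* ℂˣ) = i from mul_one i, hη.map_one]; ring
  have h := congrFun (hη.induced_eq i j h1 h2 hi hj) g
  rw [Cfsg.indFun, Finset.sum_eq_zero, mul_zero] at h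
  · linear_combination -h
  · intro x _
    by_cases hx : x⁻¹ * g * x ∈ W₁ ⊔ W₂
    · rw [show x⁻¹ * g * x = ((⟨_, hx⟩ : ↥(W₁ ⊔ W₂)) : G) from rfl, Cfsg.extendByZero,
        Subtype.val_injective.extend_apply]
      exact alpha_eq_zero hi hj (by simpa using hg x⁻¹ (by simpa using hx))
    · rw [Cfsg.extendByZero, Function.extend_apply' _ _ _ fun ⟨a, ha⟩ => hx (ha ▸ a.2)]
      rfl

include hη in
/-- The value of a column off the conjugates of `W - W₁ ∪ W₂`. -/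
theorem colSum_apply (hW : Cfsg.IsSelfNormalizingCyclic W₁ W₂) {j : ↥(W₁ ⊔ W₂) →* ℂˣ}
    (hj : j ∈ rightSet W₁ W₂) {g : G}
    (hg : ∀ x : G, x * g * x⁻¹ ∈ W₁ ⊔ W₂ → x * g * x⁻¹ ∈ W₁ ∨ x * g * x⁻¹ ∈ W₂) :
    colSum η j g = colSum η 1 g + (Nat.card W₁ : ℂ) * (η j g - 1) := by
  haveI : Fintype (leftSet W₁ W₂) := Fintype.ofFinite _
  rw [colSum_eq_sum, colSum_eq_sum, Finset.sum_apply, Finset.sum_apply,
    Finset.sum_congr rfl (g := fun i : leftSet W₁ W₂ => η i g + (η j g - 1)) fun i _ => by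
      rw [eta_mul_apply hη i.2 hj hg]; ring,
    Finset.sum_add_distrib, Finset.sum_const, Finset.card_univ, ← Nat.card_eq_fintype_card,
    card_leftSet hW, nsmul_eq_mul]
  simp only [show ∀ i : ↥(W₁ ⊔ W₂) →* ℂˣ, i * (1 : ↥(W₁ ⊔ W₂) →* ℂˣ) = i from fun i => mul_one i]

end Cfsg.Agent.OddChar.TypeP.Tools
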