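import Cfsg.Agent.OddChar.TypeP.Tools.Grid
import Cfsg.Agent.OddChar.CyclicTI.Rigid
import Cfsg.Agent.OddChar.Coherence.System

/-!
# Signed irreducibles with a non-real difference
-/

set_option autoImplicit false
set_option linter.unusedSectionVars false

namespace Cfsg.Agent.OddChar.TypeP.Tools

open Cfsg.Agent.Characters Cfsg.Agent.OddChar.CyclicTI Cfsg.Agent.OddChar.Signed
open scoped ComplexConjugate

universe u

variable {G : Type u} [Group G] [Fintype G] {W₁ W₂ : Subgroup G}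

theorem isSIrr_conjFun {a : G → ℂ} (ha : IsSIrr a) : IsSIrr (Cfsg.conjFun a) := by
  rcases ha with h | h
  · exact Or.inl (isIrrCharacter_conj h)
  · refine Or.inr ?_
    have := isIrrCharacter_conj h
    convert this using 1
    funext g
    simp [Cfsg.conjFun]

theorem conjFun_sub (a b : G → ℂ) : Cfsg.conjFun (a - b) = Cfsg.conjFun a - Cfsg.conjFun b := by
  funext g; simp [Cfsg.conjFun]

theorem inner_neg_right (a b : G → ℂ) :
    Cfsg.classInner a (-b) = -Cfsg.classInner a b := by simp [classInner_def]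

/-- If `a - b` is conjugated to `b - a` then `conj a = b`. -/
theorem conjFun_eq_of_sub {a b : G → ℂ} (ha : IsSIrr a) (hb : IsSIrr b)
    (hab : Cfsg.classInner a b = 0) (h : Cfsg.conjFun (a - b) = b - a) : Cfsg.conjFun a = b := by
  have hca := isSIrr_conjFun ha
  have hcb := isSIrr_conjFun hb
  rw [conjFun_sub] at h
  have hba : Cfsg.classInner b a = 0 := Coherence.inner_comm_zero hab
  have hcab : Cfsg.classInner (Cfsg.conjFun a) (Cfsg.conjFun b) = 0 := by
    show Cfsg.classInner (fun g => conj (a g)) (fun g => conj (b g)) = 0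
    rw [classInner_conj_conj, hab, map_zero]
  have hne : ∀ {u v : G → ℂ}, IsSIrr u → Cfsg.classInner u v = 0 → u ≠ v ∧ u ≠ -v := fun hu huv =>
    ⟨fun e => by rw [← e, hu.inner_self] at huv; exact one_ne_zero huv, fun e => by
      have h1 := hu.inner_self
      nth_rewrite 2 [e] at h1
      rw [inner_neg_right, huv, neg_zero] at h1
      exact zero_ne_one h1⟩
  rcases hca.inner_cases hb with e | e | e
  swap; · exact e
  swap
  · -- `conj a = -b`
    exfalso
    have hcb' : Cfsg.conjFun b = -a + -b - (-a + -b) + (Cfsg.conjFun a - (b - a)) := by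
      rw [← h]; abel
    have h2 := hcb.inner_self
    rw [show Cfsg.conjFun b = a + ((-2 : ℂ) • b) by rw [hcb', e]; module] at h2
    simp only [classInner_add_left, classInner_add_right, classInner_smul_left,
      classInner_smul_right, hab, hba, ha.inner_self, hb.inner_self] at h2
    norm_num at h2
  -- `conj a ⊥ b`
  exfalso
  have h1 : Cfsg.classInner (Cfsg.conjFun a) (b - a) = 1 := by
    rw [← h, classInner_sub_right, hca.inner_self, hcab, sub_zero]
  rw [classInner_sub_right, e, zero_sub, neg_eq_iff_eq_neg] at h1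
  rcases hca.inner_cases ha with e' | e' | e'
  · rw [e'] at h1; norm_num at h1
  · rw [e', ha.inner_self] at h1; norm_num at h1
  · have := congrFun e' 1
    rcases ha with hi | hi
    · obtain ⟨k, hk, hk1⟩ := irr_one_pos hi
      rw [Cfsg.conjFun, Pi.neg_apply, hk1, map_natCast] at this
      exact hk.ne' (by exact_mod_cast self_eq_neg.1 this)
    · obtain ⟨k, hk, hk1⟩ := irr_one_pos hi
      rw [Pi.neg_apply, neg_eq_iff_eq_neg] at hk1
      rw [Cfsg.conjFun, Pi.neg_apply, hk1, map_neg, map_natCast, neg_neg] at this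
      exact hk.ne' (by exact_mod_cast neg_eq_self.1 this)

theorem conjFun_family (hW : Cfsg.IsSelfNormalizingCyclic W₁ W₂)
    (hodd : Odd (Nat.card ↥(W₁ ⊔ W₂))) {η : (↥(W₁ ⊔ W₂) →* ℂˣ) → G → ℂ}
    (hη : Cfsg.IsCyclicTIFamily W₁ W₂ η) (ω : ↥(W₁ ⊔ W₂) →* ℂˣ) :
    Cfsg.conjFun (η ω) = η ω⁻¹ := by
  refine eq_family hW hodd hη (isSIrr_conjFun (hη.irr_or_neg ω)) _ fun w h1 h2 => ?_
  rw [Cfsg.conjFun, hη.eq_on ω w h1 h2, MonoidHom.inv_apply, Units.val_inv_eq_inv_val,
    Complex.inv_eq_conj (linear_norm_eq_one ω w)]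

/-- A signed irreducible `a ⊥ conj a` with `a - conj a = 0` on `W - W₁ ∪ W₂` is orthogonal to the
family. -/
theorem inner_family_eq_zero (hW : Cfsg.IsSelfNormalizingCyclic W₁ W₂)
    (hodd : Odd (Nat.card ↥(W₁ ⊔ W₂))) {η : (↥(W₁ ⊔ W₂) →* ℂˣ) → G → ℂ}
    (hη : Cfsg.IsCyclicTIFamily W₁ W₂ η) {a : G → ℂ} (ha : IsSIrr a)
    (horth : Cfsg.classInner a (Cfsg.conjFun a) = 0)
    (hV : ∀ w : ↥(W₁ ⊔ W₂), (w : G) ∉ W₁ → (w : G) ∉ W₂ → a w = Cfsg.conjFun a w)
    (ω : ↥(W₁ ⊔ W₂) →* ℂˣ) : Cfsg.classInner a (η ω) = 0 := by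
  by_contra hne
  obtain ⟨s, hs0, rfl⟩ : ∃ s : ℤ, (s : ℂ) ≠ 0 ∧ a = (s : ℂ) • η ω := by
    rcases (ha.inner_cases (hη.irr_or_neg ω)).resolve_left hne with e | e
    · exact ⟨1, by simp, by simp [e]⟩
    · exact ⟨-1, by simp, by simp [e]⟩
  have hc : Cfsg.conjFun ((s : ℂ) • η ω) = (s : ℂ) • η ω⁻¹ := by
    rw [← conjFun_family hW hodd hη ω]; funext g; simp [Cfsg.conjFun]
  rw [hc] at horth hV
  have hsq : ∀ w : ↥(W₁ ⊔ W₂), (w : G) ∉ W₁ → (w : G) ∉ W₂ → ω w = 1 := fun w h1 h2 => by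
    have h := hV w h1 h2
    simp only [Pi.smul_apply, smul_eq_mul, hη.eq_on _ w h1 h2] at h
    have h' : ω w = (ω w)⁻¹ := by
      rw [← MonoidHom.inv_apply]; exact Units.ext (mul_left_cancel₀ hs0 h)
    obtain ⟨k, hk⟩ := hodd
    have h2' : ω w ^ 2 = 1 := by rw [pow_two]; nth_rewrite 1 [h']; exact inv_mul_cancel _
    have h3 : ω w ^ (2 * k + 1) = 1 := by rw [← map_pow, ← hk, pow_card_eq_one', map_one]
    rwa [pow_succ, pow_mul, h2', one_pow, one_mul] at h3
  have hS := split_of hW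
  have hsq' : ∀ x : ↥(W₁ ⊔ W₂), x ≠ 1 → x * x ≠ 1 := fun x hx e => hx (by
    obtain ⟨k, hk⟩ := hodd
    have h3 : x ^ (2 * k + 1) = 1 := by rw [← hk, pow_card_eq_one']
    rwa [pow_succ, pow_mul, pow_two, e, one_pow, one_mul] at h3)
  have hzero : ∀ u v : ↥(W₁ ⊔ W₂), (u : G) ∈ W₁ → (v : G) ∈ W₂ → u ≠ 1 → v ≠ 1 →
      ω (u * v) = 1 := fun u v hu hv hu1 hv1 => by
    refine hsq _ (fun h => hv1 ?_) (fun h => hu1 ?_) <;> apply Subtype.ext
    · have : (v : G) ∈ W₁ ⊓ W₂ := ⟨by simpa using W₁.mul_mem (W₁.inv_mem hu) h, hv⟩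
      rwa [hS.disj, Subgroup.mem_bot] at this
    · have : (u : G) ∈ W₁ ⊓ W₂ := ⟨hu, by simpa using W₂.mul_mem h (W₂.inv_mem hv)⟩
      rwa [hS.disj, Subgroup.mem_bot] at this
  obtain ⟨a₀, ha₀, ha₀1⟩ := exists_mem_ne_one hW.1
  obtain ⟨b₀, hb₀, hb₀1⟩ := exists_mem_ne_one hW.2.1
  set A : ↥(W₁ ⊔ W₂) := ⟨a₀, Subgroup.mem_sup_left ha₀⟩
  set B : ↥(W₁ ⊔ W₂) := ⟨b₀, Subgroup.mem_sup_right hb₀⟩
  have hA : A ≠ 1 := fun e => ha₀1 (congrArg Subtype.val e)
  have hB : B ≠ 1 := fun e => hb₀1 (congrArg Subtype.val e)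
  have hω : ω = 1 := MonoidHom.ext fun w => by
    obtain ⟨u, v, hu, hv, rfl⟩ := hS.exists_mul w
    have hu1 : ω u = 1 := by
      by_cases hu0 : u = 1
      · rw [hu0, map_one]
      · have h1 := hzero (u * u) B (W₁.mul_mem hu hu) hb₀ (hsq' u hu0) hB
        have h2 := hzero u B hu hb₀ hu0 hB
        rw [map_mul, map_mul, mul_assoc, ← map_mul ω u B, h2, mul_one] at h1
        exact h1
    have hv1 : ω v = 1 := by
      by_cases hv0 : v = 1
      · rw [hv0, map_one]
      · have h1 := hzero A (v * v) ha₀ (W₂.mul_mem hv hv) hA (hsq' v hv0)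
        have h2 := hzero A v ha₀ hv hA hv0
        rw [map_mul, map_mul, ← mul_assoc, ← map_mul ω A v, h2, one_mul] at h1
        exact h1
    simp [hu1, hv1]
  rw [hω, show (1 : ↥(W₁ ⊔ W₂) →* ℂˣ)⁻¹ = 1 from MonoidHom.ext fun _ => by simp] at horth
  rw [hω] at ha
  rw [ha.inner_self] at horth
  exact one_ne_zero horth

/-- Two signed irreducibles whose non-real differences are orthogonal are orthogonal. -/
theorem inner_eq_zero_of_diff {a b : G → ℂ} (ha : IsSIrr a) (hb : IsSIrr b)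
    (ha' : Cfsg.classInner a (Cfsg.conjFun a) = 0) (hb' : Cfsg.classInner b (Cfsg.conjFun b) = 0)
    (h : Cfsg.classInner (a - Cfsg.conjFun a) (b - Cfsg.conjFun b) = 0) :
    Cfsg.classInner a b = 0 := by
  have ha'' : Cfsg.classInner (Cfsg.conjFun a) a = 0 := Coherence.inner_comm_zero ha'
  have hca := (isSIrr_conjFun ha).inner_self
  rcases ha.inner_cases hb with e | e | e
  · exact e
  · subst e
    simp only [classInner_sub_left, classInner_sub_right, ha.inner_self, ha', ha'', hca] at h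
    norm_num at h
  · have eb : b = -a := by rw [e, neg_neg]
    have ec : Cfsg.conjFun b = -Cfsg.conjFun a := by rw [eb]; funext g; simp [Cfsg.conjFun]
    rw [ec, eb] at h
    simp only [classInner_sub_left, classInner_sub_right, inner_neg_right, ha.inner_self, ha', ha'',
      hca] at h
    norm_num at h

end Cfsg.Agent.OddChar.TypeP.Tools
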