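import Cfsg.Agent.OddChar.Lattice
import Cfsg.Agent.OddChar.Signed
import Cfsg.Agent.S0161

/-!
# Real virtual characters of a group of odd order

The only real irreducible character is the trivial one, so the inner product of two real virtual
characters is congruent mod `2` to the product of their multiplicities of `1`.
-/

set_option autoImplicit false
set_option linter.style.haveILetI false

namespace Cfsg.Agent.OddChar.TypeP.Tools

open Cfsg.Agent.Characters
open scoped ComplexConjugate

universe u

variable {G : Type u} [Group G] [Fintype G]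

/-- A function with real values. -/
def IsReal (X : G → ℂ) : Prop := ∀ g, conj (X g) = X g

theorem classInner_conj_of_real {X : G → ℂ} (hX : IsReal X) (φ : G → ℂ) :
    Cfsg.classInner X (fun g => conj (φ g)) = conj (Cfsg.classInner X φ) := by
  rw [← classInner_conj_conj X φ]
  congr 1
  · exact (funext hX).symm

/-- The inner product of real virtual characters mod `2`. -/
theorem even_inner_sub (hodd : Odd (Nat.card G)) {X X' : G → ℂ}
    (hX : Cfsg.IsGeneralizedCharacter G X) (hX' : Cfsg.IsGeneralizedCharacter G X')
    (hr : IsReal X) (hr' : IsReal X') :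
    ∃ m x x' : ℤ, Cfsg.classInner X (fun _ => 1) = (x : ℂ) ∧
      Cfsg.classInner X' (fun _ => 1) = (x' : ℂ) ∧
      Cfsg.classInner X X' = ((x * x' + 2 * m : ℤ) : ℂ) := by
  classical
  haveI := Fintype.ofFinite (Cfsg.IrrCharacter G)
  let o : Cfsg.IrrCharacter G := ⟨fun _ => 1, isIrrCharacter_one⟩
  let bar : Cfsg.IrrCharacter G → Cfsg.IrrCharacter G := fun χ =>
    ⟨fun g => conj ((χ : G → ℂ) g), isIrrCharacter_conj χ.2⟩
  let e := Fintype.equivFin (Cfsg.IrrCharacter G)
  let S : Finset (Cfsg.IrrCharacter G) := Finset.univ.filter fun χ => e χ < e (bar χ)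
  refine ⟨∑ χ ∈ S, Lattice.coeff X χ * Lattice.coeff X' χ, Lattice.coeff X o, Lattice.coeff X' o,
    Lattice.coeff_spec hX o, Lattice.coeff_spec hX' o, ?_⟩
  · rw [Lattice.inner_eq_sum hX hX']
    congr 1
    rw [← Finset.add_sum_erase _ _ (Finset.mem_univ o)]
    congr 1
    have hbb : ∀ χ, bar (bar χ) = χ := fun χ => Subtype.ext (funext fun g => Complex.conj_conj _)
    have hfix : ∀ χ, bar χ = χ → χ = o := fun χ h => Subtype.ext (S0161.result hodd χ fun g =>
      Complex.conj_eq_iff_im.1 (congrFun (congrArg Subtype.val h) g))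
    have hco : ∀ {Y : G → ℂ}, Cfsg.IsGeneralizedCharacter G Y → IsReal Y → ∀ χ,
        Lattice.coeff Y (bar χ) = Lattice.coeff Y χ := fun hY hYr χ => by
      apply Lattice.coeff_eq_of_inner
      rw [show ((bar χ : Cfsg.IrrCharacter G) : G → ℂ) = fun g => conj ((χ : G → ℂ) g) from rfl,
        classInner_conj_of_real hYr, Lattice.coeff_spec hY χ, map_intCast]
    let S' : Finset (Cfsg.IrrCharacter G) := Finset.univ.filter fun χ => e (bar χ) < e χ
    have hobar : bar o = o := Subtype.ext (funext fun g => map_one _)
    have hsplit : Finset.univ.erase o = S ∪ S' := by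
      ext χ
      simp only [S, S', Finset.mem_erase, Finset.mem_univ, and_true, Finset.mem_union,
        Finset.mem_filter, true_and]
      refine ⟨fun hχ => lt_or_gt_of_ne fun h => hχ (hfix χ (e.injective h).symm), ?_⟩
      rintro h rfl
      simp [hobar] at h
    have hdisj : Disjoint S S' := Finset.disjoint_left.2 fun χ h h' =>
      lt_asymm (Finset.mem_filter.1 h).2 (Finset.mem_filter.1 h').2
    rw [hsplit, Finset.sum_union hdisj, two_mul]
    congr 1
    exact Finset.sum_equiv ⟨bar, bar, hbb, hbb⟩
      (fun χ => by simp [S, S', hbb]) (fun χ _ => by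
        show _ = Lattice.coeff X (bar χ) * Lattice.coeff X' (bar χ)
        rw [hco hX hr, hco hX' hr'])

end Cfsg.Agent.OddChar.TypeP.Tools
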