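import Cfsg.Agent.OddChar.TypeP.Tools.Orth
import Cfsg.Agent.OddChar.TypeP.Tools.Conj
import Cfsg.Agent.OddChar.TypeP.Tools.Parity
import Cfsg.Agent.OddChar.TypeOne.Gap.TypeI
import Cfsg.Agent.OddChar.Coherence.Irr
import Cfsg.Agent.S1540
import Cfsg.Agent.S1542

/-!
# The coherent family of a maximal subgroup of type I
-/

set_option autoImplicit false
set_option linter.unusedSectionVars false
set_option linter.style.haveILetI false

namespace Cfsg.Agent.OddChar.TypeP.Tools

open Cfsg Subgroup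
open Cfsg.Agent.OddLocal
open Cfsg.Agent.Characters Cfsg.Agent.OddChar.Signed Cfsg.Agent.OddChar.Isometry

universe u

variable {G : Type u} [Group G] [Fintype G] {L : Subgroup G} [Fintype L]

/-- The characters of `L` induced from the non-principal irreducible characters of `L_F`. -/
def famI (L : Subgroup G) [Fintype L] : Set (↥L → ℂ) := inducedIrrAbove (fittingHall L) ⊥

/-- The Dade map of `A(L)`. -/
noncomputable def tauI (L : Subgroup G) : (↥L → ℂ) → G → ℂ :=
  dadeIsometry (typeA L) L (supportR L)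

open Classical in
/-- The members as a finite set. -/
noncomputable def memI (L : Subgroup G) [Fintype L] : Finset (↥L → ℂ) :=
  haveI := Fintype.ofFinite (IrrCharacter L)
  (Finset.univ.image fun χ : IrrCharacter L => (χ : ↥L → ℂ)).filter (· ∈ famI L)

/-- The degree of a member divided by `[L : L_F]`. -/
noncomputable def wI (L : Subgroup G) (φ : ↥L → ℂ) : ℕ :=
  ⌊(φ 1).re / ((fittingHall L).index : ℝ)⌋₊

/-- `τ(1_{L_F}^L - λ)`. -/
noncomputable def YI (L : Subgroup G) [Fintype L] (lam : ↥L → ℂ) : G → ℂ :=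
  tauI L (indFun (fittingHall L) (fun _ => 1) - lam)

/-- A coherent extension and a member of least degree. -/
structure LCtx (L : Subgroup G) [Fintype L] (τ₁ : (↥L → ℂ) → G → ℂ) (lam : ↥L → ℂ) : Prop where
  hG : IsMinSimpleOddOrder G
  hL : IsCoatom L
  hκ : kappa L = ∅
  iso : IsLinearIsometryOn (zspan (famI L)) τ₁
  agree : ∀ α ∈ zspanOn (famI L) {1}ᶜ, τ₁ α = tauI L α
  lam_mem : lam ∈ famI L
  lam_deg : wI L lam = 1

theorem mem_fittingHall_iff (hG : IsMinSimpleOddOrder G) (hL : IsCoatom L) (hκ : kappa L = ∅)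
    {x : L} : x ∈ fittingHall L ↔ (x : G) ∈ sigmaCore L := by
  rw [TypeOne.Gap.fittingHall_eq hG hL hκ, mem_subgroupOf]

theorem centralizer_le_fittingHall (hG : IsMinSimpleOddOrder G) (hL : IsCoatom L)
    (hκ : kappa L = ∅) (h : L) (hh : h ∈ fittingHall L) (hh1 : h ≠ 1) :
    centralizer ({h} : Set L) ≤ fittingHall L := fun c hc => by
  rw [mem_fittingHall_iff hG hL hκ] at hh ⊢
  exact TypeOne.Gap.frob hG hL hκ c.2 hh (fun e => hh1 (Subtype.ext e))
    (congrArg Subtype.val (mem_centralizer_singleton_iff.1 hc))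

theorem fittingHall_normal (hG : IsMinSimpleOddOrder G) (hL : IsCoatom L) (hκ : kappa L = ∅) :
    (fittingHall L).Normal := by
  rw [TypeOne.Gap.fittingHall_eq hG hL hκ]
  exact (normal_subgroupOf_iff_le_normalizer (Sigma.sigmaCore_le L)).2
    (Sigma.le_normalizer_sigmaCore L)

theorem mem_typeA_of_mem_fittingHall (hG : IsMinSimpleOddOrder G) (hL : IsCoatom L)
    (hκ : kappa L = ∅) {x : L} (hx : x ∈ fittingHall L) (hx1 : x ≠ 1) : (x : G) ∈ typeA L := by
  rw [typeA_eq_core hG hL hκ]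
  exact ⟨(mem_fittingHall_iff hG hL hκ).1 hx, fun e => hx1 (Subtype.ext e)⟩

theorem exists_of_mem_famI {φ : ↥L → ℂ} (hφ : φ ∈ famI L) :
    ∃ θ : fittingHall L → ℂ, IsIrrCharacter (fittingHall L) θ ∧ θ ≠ (fun _ => 1) ∧
      φ = indFun (fittingHall L) θ := by
  obtain ⟨θ, hθ, h1, -, e⟩ := hφ
  exact ⟨θ, hθ, h1, e⟩

theorem degree_famI {φ : ↥L → ℂ} (hφ : φ ∈ famI L) :
    0 < wI L φ ∧ φ 1 = (wI L φ : ℂ) * ((fittingHall L).index : ℂ) := by
  obtain ⟨θ, hθ, -, rfl⟩ := exists_of_mem_famI hφ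
  obtain ⟨k, hk, hk1⟩ := irr_one_pos hθ
  have e : indFun (fittingHall L) θ 1 = (k : ℂ) * ((fittingHall L).index : ℂ) := by
    rw [indFun_one, hk1, mul_comm]
  have hw : wI L (indFun (fittingHall L) θ) = k := by
    rw [wI, e, ← Nat.cast_mul, Complex.natCast_re, Nat.cast_mul, mul_div_cancel_right₀,
      Nat.floor_natCast]
    exact Nat.cast_ne_zero.2 Subgroup.index_ne_zero_of_finite
  rw [hw]
  exact ⟨hk, e⟩

theorem isGen_famI {α : ↥L → ℂ} (hα : α ∈ zspan (famI L)) : IsGeneralizedCharacter L α := by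
  refine Submodule.span_induction (fun x hx => ?_) isGen_zero (fun x y _ _ => isGen_add)
    (fun k x _ hx => ?_) hα
  · obtain ⟨θ, hθ, -, rfl⟩ := exists_of_mem_famI hx
    exact isGen_of_isCharacter (isCharacter_indFun _ (isCharacter_of_isIrr hθ))
  · rw [← Int.cast_smul_eq_zsmul ℂ k x]; exact isGen_intSmul hx k

theorem vanish_off_famI (hG : IsMinSimpleOddOrder G) (hL : IsCoatom L) (hκ : kappa L = ∅)
    {α : ↥L → ℂ} (hα : α ∈ zspan (famI L)) {y : L} (hy : y ∉ fittingHall L) : α y = 0 := by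
  haveI := fittingHall_normal hG hL hκ
  refine Submodule.span_induction (p := fun f _ => f y = 0) ?_ rfl ?_ ?_ hα
  · intro χ hχ
    obtain ⟨θ, -, -, rfl⟩ := exists_of_mem_famI hχ
    exact Induce.indFun_apply_normal_notMem _ θ hy
  · intro a b _ _ ha hb; rw [Pi.add_apply, ha, hb, add_zero]
  · intro c a _ ha; rw [Pi.smul_apply, ha, smul_zero]

theorem supp_famI (hG : IsMinSimpleOddOrder G) (hL : IsCoatom L) (hκ : kappa L = ∅)
    {α : ↥L → ℂ} (hα : α ∈ zspanOn (famI L) {1}ᶜ) (x : L) (hx : (x : G) ∉ typeA L) : α x = 0 := by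
  by_cases h1 : x = 1
  · rw [h1]; exact apply_one_eq_zero hα
  · exact vanish_off_famI hG hL hκ hα.1 fun h => hx (mem_typeA_of_mem_fittingHall hG hL hκ h h1)

theorem irr_famI (hG : IsMinSimpleOddOrder G) (hL : IsCoatom L) (hκ : kappa L = ∅) {φ : ↥L → ℂ}
    (hφ : φ ∈ famI L) : IsIrrCharacter L φ := by
  haveI := fittingHall_normal hG hL hκ
  obtain ⟨θ, hθ, h1, rfl⟩ := exists_of_mem_famI hφ
  exact Coherence.Frobenius.isIrr_ind _ (centralizer_le_fittingHall hG hL hκ) hθ h1

theorem mem_memI (hG : IsMinSimpleOddOrder G) (hL : IsCoatom L) (hκ : kappa L = ∅)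
    {φ : ↥L → ℂ} : φ ∈ memI L ↔ φ ∈ famI L := by
  classical
  haveI := Fintype.ofFinite (IrrCharacter L)
  simp only [memI, Finset.mem_filter, Finset.mem_image, Finset.mem_univ, true_and]
  exact ⟨And.right, fun h => ⟨⟨⟨φ, irr_famI hG hL hκ h⟩, rfl⟩, h⟩⟩

open Classical in
/-- `[L : L_F] ∑ w² = |L_F| - 1`. -/
theorem sum_sq_wI (hG : IsMinSimpleOddOrder G) (hL : IsCoatom L) (hκ : kappa L = ∅) :
    (fittingHall L).index * (∑ φ ∈ memI L, wI L φ ^ 2) + 1 = Nat.card (fittingHall L) := by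
  haveI := fittingHall_normal hG hL hκ
  haveI : Fintype (fittingHall L) := Fintype.ofFinite _
  haveI := Fintype.ofFinite (IrrCharacter (fittingHall L))
  set H := fittingHall L with hH
  have hC := centralizer_le_fittingHall hG hL hκ
  have hsum := sum_degree_sq (G := H)
  rw [← Finset.add_sum_erase _ _ (Finset.mem_univ (trivIrr H))] at hsum
  have htriv : (trivIrr H : H → ℂ) = fun _ => 1 := rfl
  set T := (Finset.univ : Finset (IrrCharacter H)).erase (trivIrr H) with hT
  have hmem : ∀ θ : IrrCharacter H, θ ∈ T ↔ (θ : H → ℂ) ≠ fun _ => 1 := fun θ => by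
    rw [hT, Finset.mem_erase, ← htriv]
    exact ⟨fun h e => h.1 (Subtype.ext e), fun h => ⟨fun e => h (congrArg Subtype.val e),
      Finset.mem_univ _⟩⟩
  have hmap : ∀ θ ∈ T, indFun H (θ : H → ℂ) ∈ memI L := fun θ hθ =>
    (mem_memI hG hL hκ).2 ⟨θ, θ.2, (hmem θ).1 hθ,
      fun a ha => by rw [show a = 1 from Subtype.ext (mem_bot.1 ha)], rfl⟩
  rw [← Finset.sum_fiberwise_of_maps_to hmap] at hsum
  have hfib : ∀ φ ∈ memI L, ∑ θ ∈ T.filter (fun θ : IrrCharacter H => indFun H (θ : H → ℂ) = φ),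
      (θ : H → ℂ) 1 ^ 2 = ((H.index * wI L φ ^ 2 : ℕ) : ℂ) := fun φ hφ => by
    obtain ⟨θ, hθ, h1, rfl⟩ := exists_of_mem_famI ((mem_memI hG hL hκ).1 hφ)
    have hd := (degree_famI ((mem_memI hG hL hκ).1 hφ)).2
    rw [indFun_one] at hd
    rw [Finset.sum_congr rfl (g := fun _ => (wI L (indFun H θ) : ℂ) ^ 2) fun η hη => by
      have he := congrFun (Finset.mem_filter.1 hη).2 1
      rw [indFun_one, indFun_one, hd, mul_comm (wI L _ : ℂ)] at he
      rw [mul_left_cancel₀ (Nat.cast_ne_zero.2 Subgroup.index_ne_zero_of_finite) he],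
      Finset.sum_const, nsmul_eq_mul]
    rw [show (T.filter fun η : IrrCharacter H => indFun H (η : H → ℂ) = indFun H θ) =
        Finset.univ.filter fun η : IrrCharacter H => (η : H → ℂ) ≠ (fun _ => 1) ∧
          indFun H (η : H → ℂ) = indFun H θ from by ext η; simp [hmem η],
      Coherence.Frobenius.card_fibre H hC hθ h1]
    push_cast; ring
  rw [Finset.sum_congr rfl hfib, htriv] at hsum
  have : ((H.index * (∑ φ ∈ memI L, wI L φ ^ 2) + 1 : ℕ) : ℂ) = (Nat.card H : ℂ) := by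
    rw [← hsum]; push_cast; rw [Finset.mul_sum]; ring
  exact_mod_cast this

/-- There is an `LCtx`. -/
theorem exists_lctx (hG : IsMinSimpleOddOrder G) (hL : IsCoatom L) (hκ : kappa L = ∅) :
    ∃ τ₁ lam, LCtx L τ₁ lam := by
  have hI := TypeOne.Gap.typeI_of_kappa hG hL hκ
  obtain ⟨-, -, τ₁, hτ, hagree⟩ := S1542.result hG L hL hI (S1540.result hG L hL hI)
  have hH1 : fittingHall L ≠ ⊥ := hI.1.2.2.1
  haveI := fittingHall_normal hG hL hκ
  haveI : Nontrivial (fittingHall L) := (nontrivial_iff_ne_bot _).2 hH1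
  haveI : Group.IsNilpotent (fittingHall L) :=
    Coherence.Frobenius.nilpotent _ (centralizer_le_fittingHall hG hL hκ) hI.1.2.2.2.1
  haveI : Group.IsSolvable (fittingHall L) := inferInstance
  obtain ⟨f, hf⟩ : ∃ f : fittingHall L →* ℂˣ, f ≠ 1 := by
    obtain ⟨g, hg⟩ : ∃ g, g ∉ _root_.commutator (fittingHall L) := by
      by_contra h
      push Not at h
      exact (Group.IsSolvable.commutator_lt_top_of_nontrivial (G := fittingHall L)).ne
        (eq_top_iff.2 fun x _ => h x)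
    have hg' : (Abelianization.of g : Abelianization (fittingHall L)) ≠ 1 := fun e =>
      hg ((QuotientGroup.eq_one_iff g).1 e)
    haveI : Finite (Abelianization (fittingHall L)) :=
      Finite.of_surjective _ (QuotientGroup.mk_surjective (s := _root_.commutator (fittingHall L)))
    obtain ⟨ψ, hψ⟩ := CommGroup.exists_apply_ne_one_of_hasEnoughRootsOfUnity _ ℂ hg'
    exact ⟨ψ.comp Abelianization.of, fun e => hψ (DFunLike.congr_fun e g)⟩
  have hirr : IsIrrCharacter (fittingHall L) (fun x => (f x : ℂ)) := isIrrCharacter_linear f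
  have hne : (fun x => (f x : ℂ)) ≠ fun _ => 1 := fun e =>
    hf (MonoidHom.ext fun x => Units.ext (congrFun e x))
  have hmem : indFun (fittingHall L) (fun x => (f x : ℂ)) ∈ famI L :=
    ⟨_, hirr, hne, fun a ha => by rw [show a = 1 from Subtype.ext (mem_bot.1 ha)], rfl⟩
  refine ⟨τ₁, _, hG, hL, hκ, hτ, hagree, hmem, ?_⟩
  have h := (degree_famI hmem).2
  rw [indFun_one, map_one, Units.val_one, mul_one] at h
  exact_mod_cast (mul_right_cancel₀ (Nat.cast_ne_zero.2 Subgroup.index_ne_zero_of_finite)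
    ((one_mul _).trans h)).symm

end Cfsg.Agent.OddChar.TypeP.Tools
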