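import Cfsg.Agent.OddChar.TypeP.Tools.Grid

/-!
# The same family read from the other side
-/

set_option autoImplicit false
set_option linter.unusedSectionVars false

namespace Cfsg.Agent.OddChar.TypeP.Tools

open Cfsg.Agent.Characters

universe u

variable {G : Type u} [Group G] {W₁ W₂ : Subgroup G}

/-- A linear character of `W₁ ⊔ W₂` read on `W₂ ⊔ W₁`. -/
def swapDual (ω : ↥(W₂ ⊔ W₁) →* ℂˣ) : ↥(W₁ ⊔ W₂) →* ℂˣ :=
  ω.comp (MulEquiv.subgroupCongr (sup_comm W₁ W₂)).toMonoidHom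

theorem swapDual_apply (ω : ↥(W₂ ⊔ W₁) →* ℂˣ) (w : ↥(W₁ ⊔ W₂)) :
    swapDual ω w = ω ⟨w, sup_comm W₁ W₂ ▸ w.2⟩ := rfl

theorem swapDual_one : swapDual (1 : ↥(W₂ ⊔ W₁) →* ℂˣ) = 1 := rfl

theorem swapDual_mul (a b : ↥(W₂ ⊔ W₁) →* ℂˣ) : swapDual (a * b) = swapDual a * swapDual b := rfl

theorem swapDual_swapDual (ω : ↥(W₂ ⊔ W₁) →* ℂˣ) : swapDual (swapDual ω) = ω := rfl

theorem swapDual_injective : Function.Injective (swapDual : (↥(W₂ ⊔ W₁) →* ℂˣ) → _) :=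
  fun a b h => by rw [← swapDual_swapDual a, h, swapDual_swapDual]

theorem swapDual_mem_leftSet {ω : ↥(W₂ ⊔ W₁) →* ℂˣ} :
    swapDual ω ∈ leftSet W₁ W₂ ↔ ω ∈ rightSet W₂ W₁ :=
  ⟨fun h w hw => h ⟨w, sup_comm W₂ W₁ ▸ w.2⟩ hw, fun h _ hw => h _ hw⟩

theorem swapDual_mem_rightSet {ω : ↥(W₂ ⊔ W₁) →* ℂˣ} :
    swapDual ω ∈ rightSet W₁ W₂ ↔ ω ∈ leftSet W₂ W₁ :=
  ⟨fun h w hw => h ⟨w, sup_comm W₂ W₁ ▸ w.2⟩ hw, fun h _ hw => h _ hw⟩

theorem indFun_congr [Fintype G] {K K' : Subgroup G} (h : K = K') (β : K' → ℂ) :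
    Cfsg.indFun K (fun w : K => β ⟨w, h ▸ w.2⟩) = Cfsg.indFun K' β := by
  subst h; rfl

/-- The cyclic TI family read from the other side. -/
theorem isCyclicTIFamily_swap [Fintype G] {η : (↥(W₁ ⊔ W₂) →* ℂˣ) → G → ℂ}
    (hη : Cfsg.IsCyclicTIFamily W₁ W₂ η) :
    Cfsg.IsCyclicTIFamily W₂ W₁ (fun ω => η (swapDual ω)) where
  irr_or_neg ω := hη.irr_or_neg _
  orthonormal ω ω' := by
    show Cfsg.classInner (η (swapDual ω)) (η (swapDual ω')) = _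
    rw [hη.orthonormal]
    by_cases e : ω = ω'
    · rw [if_pos e, if_pos (congrArg swapDual e)]
    · rw [if_neg e, if_neg fun h => e (swapDual_injective h)]
  map_one := hη.map_one
  eq_on ω w h1 h2 := hη.eq_on (swapDual ω) ⟨w, sup_comm W₂ W₁ ▸ w.2⟩ h2 h1
  induced_eq φ ψ h1 h2 hφ hψ := by
    have h := hη.induced_eq (swapDual ψ) (swapDual φ) (fun e => h2 (swapDual_injective e))
      (fun e => h1 (swapDual_injective e)) (fun w hw => hψ _ hw) (fun w hw => hφ _ hw)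
    rw [← indFun_congr (sup_comm W₁ W₂).symm] at h
    have e : swapDual ψ * swapDual φ = swapDual (φ * ψ) := by
      rw [← swapDual_mul]
      exact congrArg swapDual (MonoidHom.ext fun w => mul_comm (ψ w) (φ w))
    rw [e] at h
    funext g
    have hg := congrFun h g
    rw [show Cfsg.indFun (W₂ ⊔ W₁)
        (fun w => 1 - (φ w : ℂ) - (ψ w : ℂ) + (φ w : ℂ) * (ψ w : ℂ)) g =
      1 - η (swapDual ψ) g - η (swapDual φ) g + η (swapDual (φ * ψ)) g from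
        (congrArg (fun β => Cfsg.indFun (W₂ ⊔ W₁) β g) (funext fun w => by
          show _ = (1 - (ψ w : ℂ) - (φ w : ℂ) + (ψ w : ℂ) * (φ w : ℂ)); ring)).trans hg]
    ring

end Cfsg.Agent.OddChar.TypeP.Tools
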