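import Cfsg.Agent.OddChar.TypeP.Tools.CalS
import Cfsg.Agent.OddChar.TypeP.Tools.Swap
import Cfsg.Agent.OddChar.TypeP.Tools.Grid
import Cfsg.Agent.OddChar.TypeP.Subcoherent
import Cfsg.Agent.OddChar.TypeP.Noncoherent.Mu

/-!
# Column differences and constancy of coefficients
-/

set_option autoImplicit false
set_option linter.unusedSectionVars false
set_option linter.style.haveILetI false

namespace Cfsg.Agent.OddChar.TypeP.Tools

open Cfsg Subgroup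
open Cfsg.Agent.Characters

universe u

variable {G : Type u} [Group G] [Fintype G] {M W₁ U W₂ : Subgroup G} [Fintype M]
  {μ : (↥(W₁ ⊔ W₂) →* ℂˣ) → ↥M → ℂ} {δ : (↥(W₁ ⊔ W₂) →* ℂˣ) → ℂ}

/-- With `|W₂|` prime the differences of the columns lie in the domain of `τ`, and go to differences
of columns of `η`. -/
theorem col_sub (hG : IsMinSimpleOddOrder G) (hM : IsCoatom M) (hP : IsTypePWith M W₁ U W₂)
    (hp : (Nat.card W₂).Prime) (hμ : MuData M W₁ W₂ μ δ) {η : (↥(W₁ ⊔ W₂) →* ℂˣ) → G → ℂ}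
    (hη : IsCyclicTIFamily W₁ W₂ η) {j k : ↥(W₁ ⊔ W₂) →* ℂˣ} (hj : j ∈ rightSet W₁ W₂)
    (hj1 : j ≠ 1) (hk : k ∈ rightSet W₁ W₂) (hk1 : k ≠ 1) :
    colSum μ j - colSum μ k ∈ zspanOn (calS M) {1}ᶜ ∧
      tau M (colSum μ j - colSum μ k) = δ j • (colSum η j - colSum η k) := by
  classical
  haveI := Fintype.ofFinite (leftSet W₁ W₂)
  obtain ⟨d, ε, n, hc⟩ := Noncoherent.exists_muConst hG.1 hP hp hμ
  have h1 : (1 : ↥(W₁ ⊔ W₂) →* ℂˣ) ∈ leftSet W₁ W₂ := one_mem_leftSet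
  have hdeg : μ j 1 = μ k 1 := by
    have e := (hc.degree 1 h1 j hj hj1).trans (hc.degree 1 h1 k hk hk1).symm
    rwa [one_mul j, one_mul k] at e
  have hδ : δ j = δ k := by
    have e := (hc.delta 1 h1 j hj hj1).trans (hc.delta 1 h1 k hk hk1).symm
    rwa [one_mul j, one_mul k] at e
  refine ⟨Isometry.mem_zspanOn_compl_one (Submodule.sub_mem _
    (Isometry.mem_zS (hμ.col_mem hG hP hj hj1)) (Isometry.mem_zS (hμ.col_mem hG hP hk hk1))) ?_, ?_⟩
  · rw [Pi.sub_apply, hμ.col_apply_derived hG hP j (x := (1 : M)) (one_mem _),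
      hμ.col_apply_derived hG hP k (x := (1 : M)) (one_mem _), hdeg, sub_self]
  · rw [colSum_eq_sum, colSum_eq_sum, colSum_eq_sum, colSum_eq_sum, ← Finset.sum_sub_distrib,
      tau_sum, ← Finset.sum_sub_distrib, Finset.smul_sum]
    exact Finset.sum_congr rfl fun i _ =>
      rowDiff hG M W₁ U W₂ hM hP η hη μ δ hμ _ i.2 j hj k hk hj1 hk1 hδ hdeg

/-- Coefficients of a class function orthogonal to `τ` of the column differences are constant along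
`j ≠ 0`. -/
theorem const_of_orth_tau (hG : IsMinSimpleOddOrder G) (hM : IsCoatom M)
    (hP : IsTypePWith M W₁ U W₂) (hp : (Nat.card W₂).Prime)
    {η : (↥(W₁ ⊔ W₂) →* ℂˣ) → G → ℂ} (hη : IsCyclicTIFamily W₁ W₂ η) {X : G → ℂ}
    (hX : IsClassFunction G X)
    (hV : ∀ w : ↥(W₁ ⊔ W₂), (w : G) ∉ W₁ → (w : G) ∉ W₂ → X w = 0)
    {a : (↥(W₁ ⊔ W₂) →* ℂˣ) → ℤ} (ha : ∀ ω, classInner X (η ω) = (a ω : ℂ))
    (horth : ∀ α ∈ zspanOn (calS M) {1}ᶜ, classInner X (tau M α) = 0) :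
    ∃ c : ℤ, ∀ j ∈ rightSet W₁ W₂, j ≠ 1 → a j = c := by
  classical
  obtain ⟨μ, δ, hμ⟩ := mu hG M W₁ U W₂ hM hP
  refine const_of_colSum hη hP.selfNormalizing hX hV ha fun j hj k hk hj1 hk1 => ?_
  obtain ⟨hmem, e⟩ := col_sub hG hM hP hp hμ hη hj hj1 hk hk1
  have h := horth _ hmem
  rw [e, classInner_smul_right, classInner_sub_right, mul_eq_zero] at h
  rcases h with h | h
  · exfalso
    rcases hμ.sign j with s | s <;> rw [s] at h <;> norm_num at h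
  · exact sub_eq_zero.1 h

/-- The same along `i ≠ 0`, through the partner. -/
theorem const_of_orth_tau_partner {T V : Subgroup G} [Fintype T] (hG : IsMinSimpleOddOrder G)
    (hT : IsCoatom T) (hTP : IsTypePWith T W₂ V W₁) (hq : (Nat.card W₁).Prime)
    {η : (↥(W₁ ⊔ W₂) →* ℂˣ) → G → ℂ} (hη : IsCyclicTIFamily W₁ W₂ η) {X : G → ℂ}
    (hX : IsClassFunction G X)
    (hV : ∀ w : ↥(W₁ ⊔ W₂), (w : G) ∉ W₁ → (w : G) ∉ W₂ → X w = 0)
    {a : (↥(W₁ ⊔ W₂) →* ℂˣ) → ℤ} (ha : ∀ ω, classInner X (η ω) = (a ω : ℂ))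
    (horth : ∀ α ∈ zspanOn (calS T) {1}ᶜ, classInner X (tau T α) = 0) :
    ∃ r : ℤ, ∀ i ∈ leftSet W₁ W₂, i ≠ 1 → a i = r := by
  obtain ⟨r, hr⟩ := const_of_orth_tau hG hT hTP hq (isCyclicTIFamily_swap hη) hX
    (fun w h1 h2 => hV ⟨w, sup_comm W₂ W₁ ▸ w.2⟩ h2 h1)
    (a := fun ω => a (swapDual ω)) (fun ω => ha (swapDual ω)) horth
  refine ⟨r, fun i hi hi1 => ?_⟩
  have h := hr (swapDual i) (swapDual_mem_rightSet.2 hi) fun e => hi1 (by
    rw [← swapDual_swapDual i, e, swapDual_one])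
  replace h : a (swapDual (swapDual i)) = r := h
  rwa [swapDual_swapDual] at h

end Cfsg.Agent.OddChar.TypeP.Tools
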