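import Cfsg.Agent.OddChar.TypeP.Tools.LFacts
import Cfsg.Agent.OddChar.TypeP.Tools.Const

/-!
# `Y = τ(1_H^L - λ)` against a pair of maximal subgroups of type P
-/

set_option autoImplicit false
set_option linter.unusedSectionVars false
set_option linter.style.haveILetI false

namespace Cfsg.Agent.OddChar.TypeP.Tools

open Cfsg Subgroup
open Cfsg.Agent.Characters Cfsg.Agent.OddChar.Signed Cfsg.Agent.OddChar.Isometry

universe u

variable {G : Type u} [Group G] [Fintype G] {L S T W₁ W₂ U V : Subgroup G}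

/-- A pair of maximal subgroups of type P sharing `W`, with both cyclic factors of prime order, and a
family `η`. -/
structure Duo (S T W₁ W₂ U V : Subgroup G) (η : (↥(W₁ ⊔ W₂) →* ℂˣ) → G → ℂ) : Prop where
  hG : IsMinSimpleOddOrder G
  hS : IsCoatom S
  hT : IsCoatom T
  hSP : IsTypePWith S W₁ U W₂
  hTP : IsTypePWith T W₂ V W₁
  hq : (Nat.card W₁).Prime
  hp : (Nat.card W₂).Prime
  hη : IsCyclicTIFamily W₁ W₂ η

theorem Duo.hW {η : (↥(W₁ ⊔ W₂) →* ℂˣ) → G → ℂ} (d : Duo S T W₁ W₂ U V η) :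
    IsSelfNormalizingCyclic W₁ W₂ := d.hSP.selfNormalizing

theorem Duo.odd_W {η : (↥(W₁ ⊔ W₂) →* ℂˣ) → G → ℂ} (d : Duo S T W₁ W₂ U V η) :
    Odd (Nat.card ↥(W₁ ⊔ W₂)) := odd_subgroup d.hG _

theorem Duo.swap {η : (↥(W₁ ⊔ W₂) →* ℂˣ) → G → ℂ} (d : Duo S T W₁ W₂ U V η) :
    Duo T S W₂ W₁ V U (fun ω => η (swapDual ω)) :=
  ⟨d.hG, d.hT, d.hS, d.hTP, d.hSP, d.hp, d.hq, isCyclicTIFamily_swap d.hη⟩

/-- The map of `A(L)` vanishes on the conjugates of `W`. -/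
theorem tauI_apply_W (hG : IsMinSimpleOddOrder G) (hL : IsCoatom L) (hκ : kappa L = ∅) [Fintype L]
    (hS : IsCoatom S) (hP : IsTypePWith S W₁ U W₂) (α : ↥L → ℂ) {w : G} (hw : w ∈ W₁ ⊔ W₂) :
    tauI L α w = 0 := by
  refine Dade.apply_eq_zero fun a ha x u hu e => ?_
  exact notMem_tilde_of_mem_W hG hL hκ hS hP hw x
    (OddLocal.SupportR.mem_tilde.2 ⟨a, ha, u, hu, 1, by rw [e]; group⟩)

namespace LCtx

variable [Fintype L] {τ₁ : (↥L → ℂ) → G → ℂ} {lam : ↥L → ℂ}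
  {η : (↥(W₁ ⊔ W₂) →* ℂˣ) → G → ℂ}

/-- The images of the family are orthogonal to `η`. -/
theorem inner_eta (c : LCtx L τ₁ lam) (hS : IsCoatom S) (hP : IsTypePWith S W₁ U W₂)
    (hη : IsCyclicTIFamily W₁ W₂ η) {φ : ↥L → ℂ} (hφ : φ ∈ famI L) (ω : ↥(W₁ ⊔ W₂) →* ℂˣ) :
    classInner (τ₁ φ) (η ω) = 0 := by
  refine inner_family_eq_zero hP.selfNormalizing (odd_subgroup c.hG _) hη (c.sirr hφ)
    (c.image_orth_conj hφ) (fun w _ _ => ?_) ω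
  have h := congrFun (c.image_sub_conj hφ) (w : G)
  rw [tauI_apply_W c.hG c.hL c.hκ hS hP _ w.2, Pi.sub_apply, sub_eq_zero] at h
  rw [h, c.conj_image hφ]

theorem Y_vanish (c : LCtx L τ₁ lam) (hS : IsCoatom S) (hP : IsTypePWith S W₁ U W₂) {w : G}
    (hw : w ∈ W₁ ⊔ W₂) : YI L lam w = 0 :=
  tauI_apply_W c.hG c.hL c.hκ hS hP _ hw

theorem inner_Y_tau (c : LCtx L τ₁ lam) (hS : IsCoatom S) (hP : IsTypePWith S W₁ U W₂) [Fintype S]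
    {α : ↥S → ℂ} (hα : α ∈ zspan (calS S)) : classInner (YI L lam) (tau S α) = 0 :=
  c.inner_Y (isClassFunction_tau c.hG hS (isClassFunction_of_mem_calS hα)) fun _ ha =>
    rho_tau_eq_zero c.hG c.hL c.hκ hS hP (isClassFunction_of_mem_calS hα)
      (cosetSumZero_calS c.hG hS hP hα) ha

/-- The coefficients of `Y` on `η`. -/
theorem exists_coef_Y (c : LCtx L τ₁ lam) (d : Duo S T W₁ W₂ U V η) :
    ∃ (a : (↥(W₁ ⊔ W₂) →* ℂˣ) → ℤ) (r s : ℤ),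
      (∀ ω, classInner (YI L lam) (η ω) = (a ω : ℂ)) ∧ a 1 = 1 ∧
      (∀ i ∈ leftSet W₁ W₂, ∀ j ∈ rightSet W₁ W₂, a (i * j) = a i + a j - a 1) ∧
      (∀ i ∈ leftSet W₁ W₂, i ≠ 1 → a i = r) ∧ (∀ j ∈ rightSet W₁ W₂, j ≠ 1 → a j = s) := by
  haveI : Fintype S := Fintype.ofFinite _
  haveI : Fintype T := Fintype.ofFinite _
  obtain ⟨a, ha⟩ := exists_coef d.hη c.gen_Y
  have hV : ∀ w : ↥(W₁ ⊔ W₂), (w : G) ∉ W₁ → (w : G) ∉ W₂ → YI L lam w = 0 := fun w _ _ =>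
    c.Y_vanish d.hS d.hSP w.2
  obtain ⟨s, hs⟩ := const_of_orth_tau d.hG d.hS d.hSP d.hp d.hη c.class_Y hV ha fun α hα =>
    c.inner_Y_tau d.hS d.hSP hα.1
  obtain ⟨r, hr⟩ := const_of_orth_tau_partner d.hG d.hT d.hTP d.hq d.hη c.class_Y hV ha
    fun α hα => c.inner_Y_tau d.hT d.hTP hα.1
  refine ⟨a, r, s, ha, ?_, fun i hi j hj => coef_grid d.hη d.hW c.class_Y hV ha hi hj, hr, hs⟩
  have h := ha 1
  rw [d.hη.map_one, c.Y_one] at h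
  exact_mod_cast h.symm

end LCtx

/-- `Σ a²` in terms of `r, s`, with `a 1 = 1`. -/
def eSq (q p r s : ℤ) : ℤ :=
  1 + (q - 1) * r ^ 2 + (p - 1) * s ^ 2 + (q - 1) * (p - 1) * (r + s - 1) ^ 2

namespace LCtx

variable [Fintype L] {τ₁ : (↥L → ℂ) → G → ℂ} {lam : ↥L → ℂ}
  {η : (↥(W₁ ⊔ W₂) →* ℂˣ) → G → ℂ}

open Classical in
/-- Bessel for `Y`: the `η`-part, the part on `τ₁(famI L)` and any further orthogonal family fit in
`e + 1`; if nothing is left, `Y` is their combination. -/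
theorem budget (c : LCtx L τ₁ lam) (d : Duo S T W₁ W₂ U V η)
    [Fintype (↥(W₁ ⊔ W₂) →* ℂˣ)]
    {a : (↥(W₁ ⊔ W₂) →* ℂˣ) → ℤ} (ha : ∀ ω, classInner (YI L lam) (η ω) = (a ω : ℂ)) {r s : ℤ}
    (h1 : a 1 = 1)
    (hgrid : ∀ i ∈ leftSet W₁ W₂, ∀ j ∈ rightSet W₁ W₂, a (i * j) = a i + a j - a 1)
    (hr : ∀ i ∈ leftSet W₁ W₂, i ≠ 1 → a i = r) (hs : ∀ j ∈ rightSet W₁ W₂, j ≠ 1 → a j = s)
    {y : ℤ} (hy : classInner (YI L lam) (τ₁ lam) = (y : ℂ))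
    {ι : Type*} (t : Finset ι) (f : ι → G → ℂ) (n : ι → ℕ) (hn : ∀ k ∈ t, 0 < n k)
    (horth : ∀ k ∈ t, ∀ l ∈ t, classInner (f k) (f l) = if k = l then (n k : ℂ) else 0)
    (hηf : ∀ k ∈ t, ∀ ω, classInner (η ω) (f k) = 0)
    (hLf : ∀ k ∈ t, ∀ φ ∈ famI L, classInner (τ₁ φ) (f k) = 0) {u : ι → ℤ}
    (hu : ∀ k ∈ t, classInner (YI L lam) (f k) = (u k : ℂ)) :
    ((eSq (Nat.card W₁) (Nat.card W₂) r s + y ^ 2 +
          (((∑ φ ∈ memI L, wI L φ ^ 2 : ℕ) : ℤ) - 1) * (y + 1) ^ 2 : ℤ) : ℝ) +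
        ∑ k ∈ t, (u k : ℝ) ^ 2 / (n k : ℝ) ≤ ((fittingHall L).index : ℝ) + 1 ∧
      (((fittingHall L).index : ℝ) + 1 ≤
          ((eSq (Nat.card W₁) (Nat.card W₂) r s + y ^ 2 +
            (((∑ φ ∈ memI L, wI L φ ^ 2 : ℕ) : ℤ) - 1) * (y + 1) ^ 2 : ℤ) : ℝ) +
            ∑ k ∈ t, (u k : ℝ) ^ 2 / (n k : ℝ) →
        YI L lam = (∑ ω, (a ω : ℂ) • η ω) +
          (∑ φ ∈ memI L,
            ((if φ = lam then y else wI L φ * (y + 1) : ℤ) : ℂ) • τ₁ φ) +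
          ∑ k ∈ t, ((u k : ℂ) / (n k : ℂ)) • f k) := by
  set v : (↥L → ℂ) → ℤ := fun φ => if φ = lam then y else wI L φ * (y + 1) with hv_def
  have hv : ∀ φ ∈ memI L, classInner (YI L lam) (τ₁ φ) = (v φ : ℂ) := fun φ hφ => by
    by_cases e : φ = lam
    · simp only [hv_def, if_pos e]; rw [e, hy]
    · simp only [hv_def, if_neg e]; exact c.Y_coef hy (c.mem.1 hφ) e
  let F : (↥L → ℂ) ⊕ ι → G → ℂ := Sum.elim τ₁ f
  let N : (↥L → ℂ) ⊕ ι → ℕ := Sum.elim (fun _ => 1) n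
  let X : (↥L → ℂ) ⊕ ι → ℤ := Sum.elim v u
  let s' : Finset ((↥L → ℂ) ⊕ ι) := (memI L).disjSum t
  have hmem : ∀ {φ : ↥L → ℂ}, (Sum.inl φ : (↥L → ℂ) ⊕ ι) ∈ s' → φ ∈ famI L := fun h =>
    c.mem.1 (Finset.inl_mem_disjSum.1 h)
  have hmem' : ∀ {k : ι}, (Sum.inr k : (↥L → ℂ) ⊕ ι) ∈ s' → k ∈ t := fun h =>
    Finset.inr_mem_disjSum.1 h
  have hN : ∀ i ∈ s', 0 < N i := by
    rintro (φ | k) hi
    · exact one_pos
    · exact hn k (hmem' hi)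
  have hF : ∀ i ∈ s', ∀ j ∈ s', classInner (F i) (F j) = if i = j then (N i : ℂ) else 0 := by
    rintro (φ | k) hi (ψ | l) hj
    · simp only [F, N, Sum.elim_inl, Sum.inl.injEq, Nat.cast_one]
      exact c.inner_images (hmem hi) (hmem hj)
    · simpa [F] using hLf l (hmem' hj) φ (hmem hi)
    · simpa [F] using Coherence.inner_comm_zero (hLf k (hmem' hi) ψ (hmem hj))
    · simp only [F, N, Sum.elim_inr, Sum.inr.injEq]
      exact horth k (hmem' hi) l (hmem' hj)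
  have hηF : ∀ i ∈ s', ∀ ω, classInner (η ω) (F i) = 0 := by
    rintro (φ | k) hi ω
    · exact Coherence.inner_comm_zero (c.inner_eta d.hS d.hSP d.hη (hmem hi) ω)
    · exact hηf k (hmem' hi) ω
  have hU : ∀ i ∈ s', classInner (YI L lam) (F i) = (X i : ℂ) := by
    rintro (φ | k) hi
    · exact hv φ (Finset.inl_mem_disjSum.1 hi)
    · exact hu k (hmem' hi)
  obtain ⟨hle, heq⟩ := norm_bound d.hη s' F N hN hF hηF hU ha
  have hsum : ((∑ ω, a ω ^ 2 : ℤ) : ℝ) + ∑ i ∈ s', (X i : ℝ) ^ 2 / (N i : ℝ) =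
      ((eSq (Nat.card W₁) (Nat.card W₂) r s + y ^ 2 +
          (((∑ φ ∈ memI L, wI L φ ^ 2 : ℕ) : ℤ) - 1) * (y + 1) ^ 2 : ℤ) : ℝ) +
        ∑ k ∈ t, (u k : ℝ) ^ 2 / (n k : ℝ) := by
    have e1 : ∑ ω, a ω ^ 2 = eSq (Nat.card W₁) (Nat.card W₂) r s := by
      rw [sum_sq_const d.hW hgrid hr hs, h1, eSq]; ring
    have e2 := c.sum_coef_sq hy hv
    rw [Finset.sum_disjSum, ← add_assoc]
    simp only [X, N, Sum.elim_inl, Sum.elim_inr, Nat.cast_one, div_one]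
    rw [e1, add_assoc (eSq _ _ r s), ← e2]
    push_cast
    ring
  have hnorm : (classInner (YI L lam) (YI L lam)).re = ((fittingHall L).index : ℝ) + 1 := by
    rw [c.norm_Y]; simp
  rw [hsum, hnorm] at hle
  refine ⟨hle, fun h => ?_⟩
  rw [heq (by rw [hsum, hnorm]; exact h), Finset.sum_disjSum, add_assoc]
  simp [F, X, N, hv_def]

end LCtx

end Cfsg.Agent.OddChar.TypeP.Tools
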