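import Cfsg.Agent.OddChar.TypeP.ChiefBasic
import Cfsg.Agent.OddChar.TypeP.Chief
import Cfsg.Agent.OddLocal.KappaDecomp
import Cfsg.Agent.Lib.Coprime.Commutator
import Cfsg.Agent.OddChar.CyclicTI.Duals

/-!
# The subgroup `S_F C W₁` and its linear characters trivial on `C W₁`
-/

set_option autoImplicit false
set_option linter.unusedSectionVars false
set_option linter.style.haveILetI false

namespace Cfsg.Agent.OddChar.TypeP.Tools

open Cfsg Subgroup
open Cfsg.Agent.OddLocal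
open scoped commutatorElement

universe u

variable {G : Type u} [Group G]

/-- `C_U(S_F)`. -/
abbrev centU (S U : Subgroup G) : Subgroup G :=
  U ⊓ centralizer ((fittingHallOf S : Subgroup G) : Set G)

/-- `S_F C`. -/
abbrev coreC (S U : Subgroup G) : Subgroup G := fittingHallOf S ⊔ centU S U

/-- `S_F C W₁`. -/
abbrev baseC (S W₁ U : Subgroup G) : Subgroup G := coreC S U ⊔ W₁

/-- `[S_F, W₁] C W₁`. -/
abbrev kerC (S W₁ U : Subgroup G) : Subgroup G := ⁅fittingHallOf S, W₁⁆ ⊔ (centU S U ⊔ W₁)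

/-- Hypotheses for `Γ`: `S_F` elementary abelian of order `p ^ q`, `U ≠ 1` abelian. -/
structure GHyp (S W₁ U W₂ : Subgroup G) : Prop where
  hG : IsMinSimpleOddOrder G
  hS : IsCoatom S
  hP : IsTypePWith S W₁ U W₂
  hq : (Nat.card W₁).Prime
  hp : (Nat.card W₂).Prime
  hel : IsElementaryAbelian (Nat.card W₂) (fittingHallOf S)
  hcard : Nat.card (fittingHallOf S) = Nat.card W₂ ^ Nat.card W₁
  hU : U ≠ ⊥
  hab : IsMulCommutative U

variable [Finite G] {S W₁ U W₂ : Subgroup G}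

namespace GHyp

variable (g : GHyp S W₁ U W₂)
include g

theorem commute_H {a b : G} (ha : a ∈ fittingHallOf S) (hb : b ∈ fittingHallOf S) : Commute a b :=
  congrArg Subtype.val (g.hel.1.is_comm.comm ⟨a, ha⟩ ⟨b, hb⟩)

theorem commute_U {a b : G} (ha : a ∈ U) (hb : b ∈ U) : Commute a b :=
  congrArg Subtype.val (g.hab.is_comm.comm ⟨a, ha⟩ ⟨b, hb⟩)

theorem commute_C {c a : G} (hc : c ∈ centU S U) (ha : a ∈ fittingHallOf S) : Commute a c :=
  mem_centralizer_iff.mp (mem_inf.mp hc).2 a ha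

theorem conj_H {x a : G} (hx : x ∈ S) (ha : a ∈ fittingHallOf S) : x * a * x⁻¹ ∈ fittingHallOf S :=
  (mem_normalizer_iff.mp (M_le_normalizer_H S hx) a).mp ha

theorem le_normalizer_centU : S ≤ normalizer (centU S U : Set G) := by
  refine M_le_of_parts g.hP ?_ ?_ ?_
  · refine fun y hy => mem_normalizer_fintype fun x hx => ?_
    rw [(g.commute_C hx hy).eq, mul_inv_cancel_right]
    exact hx
  · refine fun v hv => mem_normalizer_fintype fun x hx => ?_
    rw [(g.commute_U hv (mem_inf.mp hx).1).eq, mul_inv_cancel_right]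
    exact hx
  · refine fun w hw => mem_normalizer_fintype fun x hx => mem_inf.mpr
      ⟨(mem_normalizer_iff.mp (g.hP.U_normal hw) x).mp (mem_inf.mp hx).1, ?_⟩
    refine mem_centralizer_iff.mpr fun a ha => ?_
    have hb : w⁻¹ * a * w ∈ fittingHallOf S := by
      simpa using g.conj_H (S.inv_mem (W₁_le_M g.hP hw)) ha
    calc a * (w * x * w⁻¹) = w * ((w⁻¹ * a * w) * x) * w⁻¹ := by group
      _ = w * (x * (w⁻¹ * a * w)) * w⁻¹ := by rw [(g.commute_C hx hb).eq]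
      _ = w * x * w⁻¹ * a := by group

theorem conj_C {x c : G} (hx : x ∈ S) (hc : c ∈ centU S U) : x * c * x⁻¹ ∈ centU S U :=
  (mem_normalizer_iff.mp (g.le_normalizer_centU hx) c).mp hc

theorem centU_le_S : centU S U ≤ S := inf_le_left.trans (U_le_M g.hP)

theorem coreC_le_derived : coreC S U ≤ ⁅S, S⁆ :=
  sup_le (H_le_derived g.hP) (inf_le_left.trans g.hP.U_compl.2.1)

theorem coreC_le_S : coreC S U ≤ S := sup_le (H_le_M S) g.centU_le_S

theorem baseC_le_S : baseC S W₁ U ≤ S := sup_le g.coreC_le_S (W₁_le_M g.hP)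

theorem exists_coreC {x : G} (hx : x ∈ coreC S U) :
    ∃ y ∈ fittingHallOf S, ∃ c ∈ centU S U, x = y * c :=
  KappaDecomp.exists_mul_sup (g.centU_le_S.trans (M_le_normalizer_H S)) hx

theorem le_normalizer_coreC : S ≤ normalizer (coreC S U : Set G) := fun x hx =>
  mem_normalizer_fintype fun a ha => by
    obtain ⟨y, hy, c, hc, rfl⟩ := g.exists_coreC ha
    rw [show x * (y * c) * x⁻¹ = x * y * x⁻¹ * (x * c * x⁻¹) by group]
    exact mul_mem_sup (g.conj_H hx hy) (g.conj_C hx hc)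

theorem exists_base {x : G} (hx : x ∈ baseC S W₁ U) :
    ∃ a ∈ coreC S U, ∃ w ∈ W₁, x = a * w :=
  KappaDecomp.exists_mul_sup ((W₁_le_M g.hP).trans g.le_normalizer_coreC) hx

/-- `N ∩ S' = S_F C`. -/
theorem mem_coreC {x : G} (hx : x ∈ baseC S W₁ U) (hd : x ∈ ⁅S, S⁆) : x ∈ coreC S U := by
  obtain ⟨a, ha, w, hw, rfl⟩ := g.exists_base hx
  have : w ∈ ⁅S, S⁆ ⊓ W₁ := mem_inf.mpr ⟨by
    simpa using mul_mem (inv_mem (g.coreC_le_derived ha)) hd, hw⟩
  rw [g.hP.W₁_compl.2.2.1, mem_bot] at this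
  rwa [this, mul_one]

theorem notMem_derived {a w : G} (ha : a ∈ coreC S U) (hw : w ∈ W₁) (hw1 : w ≠ 1) :
    a * w ∉ ⁅S, S⁆ := fun hd => hw1 (by
  have : w ∈ ⁅S, S⁆ ⊓ W₁ := mem_inf.mpr ⟨by
    simpa using mul_mem (inv_mem (g.coreC_le_derived ha)) hd, hw⟩
  rwa [g.hP.W₁_compl.2.2.1, mem_bot] at this)

theorem eq_one_of_mul {y c : G} (hy : y ∈ fittingHallOf S) (hc : c ∈ U) (h : y * c = 1) :
    y = 1 ∧ c = 1 := by
  have hc1 : c ∈ fittingHallOf S ⊓ U := mem_inf.mpr ⟨by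
    rw [eq_inv_of_mul_eq_one_right h]; exact inv_mem hy, hc⟩
  rw [g.hP.U_compl.2.2.1, mem_bot] at hc1
  exact ⟨by simpa [hc1] using h, hc1⟩

theorem mem_centU_of_mem_coreC {x : G} (hx : x ∈ coreC S U) (hxU : x ∈ U) : x ∈ centU S U := by
  obtain ⟨y, hy, c, hc, rfl⟩ := g.exists_coreC hx
  have hy1 : y ∈ fittingHallOf S ⊓ U := mem_inf.mpr ⟨hy, by
    simpa using mul_mem hxU (inv_mem (mem_inf.mp hc).1)⟩
  rw [g.hP.U_compl.2.2.1, mem_bot] at hy1
  rwa [hy1, one_mul]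

/-- An element of `U` moving an element of `N - S_F C` into `N` lies in `C`. -/
theorem mem_centU_of_conj {u n : G} (hu : u ∈ U) (hn : n ∈ baseC S W₁ U) (hnd : n ∉ ⁅S, S⁆)
    (hc : u⁻¹ * n * u ∈ baseC S W₁ U) : u ∈ centU S U := by
  obtain ⟨a, ha, w, hw, rfl⟩ := g.exists_base hn
  have hw1 : w ≠ 1 := fun e => hnd (by rw [e, mul_one]; exact g.coreC_le_derived ha)
  have huS : u ∈ S := U_le_M g.hP hu
  have ha' : u⁻¹ * a * u ∈ coreC S U := by
    simpa using (mem_normalizer_iff.mp (g.le_normalizer_coreC (S.inv_mem huS)) a).mp ha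
  have h1 : u⁻¹ * (w * u * w⁻¹) ∈ baseC S W₁ U := by
    rw [show u⁻¹ * (w * u * w⁻¹) = (u⁻¹ * a * u)⁻¹ * (u⁻¹ * (a * w) * u) * w⁻¹ by group]
    exact mul_mem (mul_mem (inv_mem (mem_sup_left ha')) hc) (inv_mem (mem_sup_right hw))
  have hzU : u⁻¹ * (w * u * w⁻¹) ∈ U :=
    mul_mem (inv_mem hu) ((mem_normalizer_iff.mp (g.hP.U_normal hw) u).mp hu)
  have hzC := g.mem_centU_of_mem_coreC (g.mem_coreC h1 (g.hP.U_compl.2.1 hzU)) hzU
  have hN := mem_normalizer_iff.mp (g.le_normalizer_centU (W₁_le_M g.hP hw))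
  have huniq : ∀ x ∈ U, ∀ y ∈ U, x⁻¹ * (w * x * w⁻¹) = y⁻¹ * (w * y * w⁻¹) → x = y := by
    intro x hx y hy e
    have h : w * (x * y⁻¹) = (x * y⁻¹) * w := by
      calc w * (x * y⁻¹) = x * (x⁻¹ * (w * x * w⁻¹)) * (w * y⁻¹) := by group
        _ = x * (y⁻¹ * (w * y * w⁻¹)) * (w * y⁻¹) := by rw [e]
        _ = _ := by group
    exact mul_inv_eq_one.mp (W₁_fpf g.hP w hw hw1 _ (mul_mem hx (inv_mem hy)) h)
  let φ : centU S U → centU S U := fun x => x⁻¹ * ⟨w * x * w⁻¹, (hN x).mp x.2⟩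
  have hφ : Function.Injective φ := fun x y e => Subtype.ext
    (huniq _ (mem_inf.mp x.2).1 _ (mem_inf.mp y.2).1 (congrArg Subtype.val e))
  obtain ⟨c, hc'⟩ := Finite.surjective_of_injective hφ ⟨_, hzC⟩
  rw [← huniq _ (mem_inf.mp c.2).1 _ hu (congrArg Subtype.val hc')]
  exact c.2

/-- An element of `S` moving an element of `N - S_F C` into `N` lies in `N`. -/
theorem mem_base_of_conj {x n : G} (hx : x ∈ S) (hn : n ∈ baseC S W₁ U) (hnd : n ∉ ⁅S, S⁆)
    (hc : x⁻¹ * n * x ∈ baseC S W₁ U) : x ∈ baseC S W₁ U := by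
  obtain ⟨d, hd, v, hv, rfl⟩ := g.hP.W₁_compl.2.2.2 x hx
  obtain ⟨y, hy, u, hu, rfl⟩ := g.hP.U_compl.2.2.2 d hd
  have hyN : y ∈ baseC S W₁ U := mem_sup_left (mem_sup_left hy)
  have hvN : v ∈ baseC S W₁ U := mem_sup_right hv
  refine mul_mem (mul_mem hyN (mem_sup_left (mem_sup_right
    (g.mem_centU_of_conj hu (n := y⁻¹ * n * y) (mul_mem (mul_mem (inv_mem hyN) hn) hyN) ?_ ?_)))) hvN
  · intro hd'
    have hyd := H_le_derived g.hP hy
    refine hnd ?_
    simpa [mul_assoc] using mul_mem (mul_mem hyd hd') (inv_mem hyd)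
  · rw [show u⁻¹ * (y⁻¹ * n * y) * u = v * ((y * u * v)⁻¹ * n * (y * u * v)) * v⁻¹ by group]
    exact mul_mem (mul_mem hvN hc) (inv_mem hvN)

theorem card_coreC :
    Nat.card ↥(coreC S U) = Nat.card (fittingHallOf S) * Nat.card ↥(centU S U) :=
  Coprime.card_sup_of_disjoint (g.centU_le_S.trans (M_le_normalizer_H S))
    (disjoint_iff.mpr (le_bot_iff.mp ((inf_le_inf_left _ inf_le_left).trans
      g.hP.U_compl.2.2.1.le)))

theorem card_baseC : Nat.card ↥(baseC S W₁ U) = Nat.card ↥(coreC S U) * Nat.card W₁ :=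
  Coprime.card_sup_of_disjoint ((W₁_le_M g.hP).trans g.le_normalizer_coreC)
    (disjoint_iff.mpr (le_bot_iff.mp ((inf_le_inf_right _ g.coreC_le_derived).trans
      g.hP.W₁_compl.2.2.1.le)))

theorem card_S :
    Nat.card S = (centU S U).relIndex U * Nat.card ↥(baseC S W₁ U) := by
  rw [card_M g.hP, card_derived g.hP, g.card_baseC, g.card_coreC,
    ← card_mul_relIndex (show centU S U ≤ U from inf_le_left)]
  ring

theorem W₂_commute {a : G} (ha : a ∈ W₂) {k : G} (hk : k ∈ kerC S W₁ U) : Commute a k := by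
  have h : kerC S W₁ U ≤ centralizer ({a} : Set G) := by
    refine sup_le (commutator_le.mpr fun y hy w hw => ?_) (sup_le ?_ ?_)
    · refine mem_centralizer_singleton_iff.mpr ((g.commute_H (W₂_le_H g.hP ha) ?_).symm.eq)
      rw [commutatorElement_def, show y * w * y⁻¹ * w⁻¹ = y * (w * y⁻¹ * w⁻¹) by group]
      exact mul_mem hy (g.conj_H (W₁_le_M g.hP hw) (inv_mem hy))
    · exact fun c hc => mem_centralizer_singleton_iff.mpr (g.commute_C hc (W₂_le_H g.hP ha)).symm.eq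
    · exact fun w hw => mem_centralizer_singleton_iff.mpr (g.hP.selfNormalizing.2.2.2.1 w hw a ha)
  exact (mem_centralizer_singleton_iff.mp (h hk)).symm

theorem coprime_W₁_H : (Nat.card W₁).Coprime (Nat.card (fittingHallOf S)) :=
  ((coprime_H g.hP).coprime_dvd_right (dvd_mul_left _ _)).symm

theorem comm_le_H : ⁅fittingHallOf S, W₁⁆ ≤ fittingHallOf S :=
  Coprime.commutator_le_of_le_normalizer ((W₁_le_M g.hP).trans (M_le_normalizer_H S))

theorem kerC_inf_W₂ : kerC S W₁ U ⊓ W₂ = ⊥ := by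
  rw [eq_bot_iff]
  rintro a ⟨hk, ha⟩
  have hW₁N : centU S U ⊔ W₁ ≤ normalizer ((⁅fittingHallOf S, W₁⁆ : Subgroup G) : Set G) := by
    refine sup_le (fun c hc => mem_normalizer_fintype fun z hz => ?_)
      (normalizer_commutator_ge_right _ _)
    rw [← (g.commute_C hc (g.comm_le_H hz)).eq, mul_inv_cancel_right]
    exact hz
  obtain ⟨z, hz, b, hb, rfl⟩ := KappaDecomp.exists_mul_sup hW₁N hk
  obtain ⟨c, hc, w, hw, rfl⟩ := KappaDecomp.exists_mul_sup
    ((W₁_le_M g.hP).trans g.le_normalizer_centU) hb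
  have haH := W₂_le_H g.hP ha
  have hw1 : w = 1 := by
    by_contra h
    refine g.notMem_derived (mul_mem_sup (g.comm_le_H hz) hc) hw h ?_
    rw [mul_assoc]
    exact H_le_derived g.hP haH
  subst hw1
  rw [mul_one] at ha haH ⊢
  have hc1 : c ∈ fittingHallOf S ⊓ U := mem_inf.mpr ⟨by
    simpa using mul_mem (inv_mem (g.comm_le_H hz)) haH, (mem_inf.mp hc).1⟩
  rw [g.hP.U_compl.2.2.1, mem_bot] at hc1
  subst hc1
  rw [mul_one] at ha ⊢
  have := g.hel.1
  rw [← Coprime.inf_centralizer_inf_commutator (A := W₁) (V := fittingHallOf S)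
    ((W₁_le_M g.hP).trans (M_le_normalizer_H S)) g.coprime_W₁_H]
  exact mem_inf.mpr ⟨(H_inf_centralizer_W₁ g.hP).ge ha, hz⟩

theorem baseC_eq : baseC S W₁ U = kerC S W₁ U ⊔ W₂ := by
  refine le_antisymm (sup_le (sup_le ?_ ?_) ?_) (sup_le (sup_le ?_ (sup_le ?_ le_sup_right)) ?_)
  · refine le_of_eq_of_le (Coprime.commutator_sup_inf_centralizer (A := W₁)
      ((W₁_le_M g.hP).trans (M_le_normalizer_H S)) g.coprime_W₁_H
      (Or.inl (by have := g.hP.W₁_cyclic; infer_instance))).symm ?_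
    rw [H_inf_centralizer_W₁ g.hP]
    exact sup_le_sup_right le_sup_left _
  · exact le_sup_of_le_left (le_sup_of_le_right le_sup_left)
  · exact le_sup_of_le_left (le_sup_of_le_right le_sup_right)
  · exact g.comm_le_H.trans (le_sup_of_le_left le_sup_left)
  · exact le_sup_of_le_left le_sup_right
  · exact (W₂_le_H g.hP).trans (le_sup_of_le_left le_sup_left)

theorem exists_ker_mul {n : G} (hn : n ∈ baseC S W₁ U) :
    ∃ a : W₂, ∃ k ∈ kerC S W₁ U, n = k * a := by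
  rw [g.baseC_eq] at hn
  obtain ⟨k, hk, a, ha, e⟩ := KappaDecomp.exists_mul_sup (A := kerC S W₁ U) (B := W₂)
    (fun a ha => mem_normalizer_fintype fun k hk => by
      rwa [(g.W₂_commute ha hk).eq, mul_inv_cancel_right]) hn
  exact ⟨⟨a, ha⟩, k, hk, e⟩

/-- The `W₂`-component. -/
noncomputable def proj {n : G} (hn : n ∈ baseC S W₁ U) : W₂ := (g.exists_ker_mul hn).choose

theorem proj_eq {n k : G} (hn : n ∈ baseC S W₁ U) (hk : k ∈ kerC S W₁ U) (a : W₂)
    (e : n = k * a) : g.proj hn = a := by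
  obtain ⟨k', hk', e'⟩ := (g.exists_ker_mul hn).choose_spec
  have h : (g.proj hn : G) * (a : G)⁻¹ ∈ kerC S W₁ U ⊓ W₂ := by
    refine mem_inf.mpr ⟨?_, mul_mem (g.proj hn).2 (inv_mem a.2)⟩
    have e2 : k * (a : G) = k' * (g.proj hn : G) := e.symm.trans e'
    rw [show (g.proj hn : G) * (a : G)⁻¹ = k'⁻¹ * k by
      calc (g.proj hn : G) * (a : G)⁻¹ = k'⁻¹ * (k' * (g.proj hn : G)) * (a : G)⁻¹ := by group
        _ = k'⁻¹ * (k * a) * (a : G)⁻¹ := by rw [e2]
        _ = _ := by group]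
    exact mul_mem (inv_mem hk') hk
  rw [g.kerC_inf_W₂, mem_bot, mul_inv_eq_one] at h
  exact Subtype.ext h

/-- The character of `N` induced by `j` along the projection to `W₂`. -/
noncomputable def lamC (j : ↥(W₁ ⊔ W₂) →* ℂˣ) : ↥((baseC S W₁ U).subgroupOf S) →* ℂˣ :=
  MonoidHom.mk' (fun n => j (inclusion le_sup_right (g.proj (mem_subgroupOf.mp n.2))))
    fun n n' => by
      obtain ⟨a, k, hk, e⟩ := g.exists_ker_mul (mem_subgroupOf.mp n.2)
      obtain ⟨a', k', hk', e'⟩ := g.exists_ker_mul (mem_subgroupOf.mp n'.2)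
      rw [← map_mul, ← map_mul, g.proj_eq _ hk a e, g.proj_eq _ hk' a' e',
        g.proj_eq (mem_subgroupOf.mp (n * n').2) (mul_mem hk hk') (a * a')]
      show (((n : ↥S) : G)) * ((n' : ↥S) : G) = k * k' * ((a : G) * a')
      rw [e, e', show k * k' * ((a : G) * a') = k * (k' * a) * a' by group,
        ← (g.W₂_commute a.2 hk').eq]
      group

theorem lamC_apply (j : ↥(W₁ ⊔ W₂) →* ℂˣ) (n : ↥((baseC S W₁ U).subgroupOf S)) {k : G}
    (hk : k ∈ kerC S W₁ U) (a : W₂) (e : ((n : ↥S) : G) = k * a) :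
    g.lamC j n = j (inclusion le_sup_right a) := by
  show j (inclusion le_sup_right (g.proj _)) = _
  rw [g.proj_eq _ hk a e]

theorem lamC_W₂ (j : ↥(W₁ ⊔ W₂) →* ℂˣ) (n : ↥((baseC S W₁ U).subgroupOf S))
    (h : ((n : ↥S) : G) ∈ W₂) : g.lamC j n = j ⟨_, mem_sup_right h⟩ :=
  g.lamC_apply j n (k := 1) (one_mem _) ⟨_, h⟩ (one_mul _).symm

theorem lamC_eq_one (j : ↥(W₁ ⊔ W₂) →* ℂˣ) (n : ↥((baseC S W₁ U).subgroupOf S))
    (h : ((n : ↥S) : G) ∈ kerC S W₁ U) : g.lamC j n = 1 := by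
  rw [g.lamC_apply j n h 1 (by simp), map_one, map_one]

/-- `S_F` is a minimal normal subgroup of `S`. -/
theorem minimal {R : Subgroup G} (hR : R ≤ fittingHallOf S) (hn : S ≤ normalizer (R : Set G)) :
    R = ⊥ ∨ R = fittingHallOf S := by
  obtain ⟨H₀, C, r, hc⟩ := chiefStatement_proof g.hG S W₁ U W₂ g.hS g.hP g.hU g.hq
  have hr : r = Nat.card W₂ := by
    refine (Nat.prime_dvd_prime_iff_eq hc.prime g.hp).mp
      (hc.prime.dvd_of_dvd_pow (n := Nat.card W₁) ?_)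
    rw [← g.hcard, hc.card]
    exact (dvd_pow_self r g.hq.ne_zero).mul_left _
  have h0 : H₀ = ⊥ := by
    refine card_eq_one.mp ?_
    have h := hc.card
    rw [g.hcard, hr] at h
    exact (Nat.mul_eq_right (pow_ne_zero _ g.hp.ne_zero)).mp h.symm
  rcases hc.minimal R hn (h0 ▸ bot_le) hR with e | e
  · exact Or.inl (e.trans h0)
  · exact Or.inr e

end GHyp

end Cfsg.Agent.OddChar.TypeP.Tools
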