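import Cfsg.Agent.OddChar.TypeP.Tools.Orth

/-!
# The members of `calS M`: supports and coset sums
-/

set_option autoImplicit false
set_option linter.unusedSectionVars false
set_option linter.style.haveILetI false

namespace Cfsg.Agent.OddChar.TypeP.Tools

open Cfsg Subgroup
open Cfsg.Agent.OddLocal
open Cfsg.Agent.Characters
open Cfsg.Agent.CharTheory.IndBasic (extendByZero_of_mem extendByZero_of_notMem)

universe u

section Average

variable {X : Type u} [Group X] [Finite X]

/-- An irreducible character nontrivial on a normal subgroup sums to zero on its cosets. -/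
theorem sum_mul_eq_zero_of_irr (N : Subgroup X) [N.Normal] [Fintype N] {θ : X → ℂ}
    (hθ : IsIrrCharacter X θ) (hN : ∃ n ∈ N, θ n ≠ θ 1) (x : X) :
    ∑ n : N, θ ((n : X) * x) = 0 := by
  have h : CharTheory.Average.avg N θ = 0 := by
    refine (CharTheory.Average.avg_irr N hθ).resolve_left fun e => ?_
    obtain ⟨n, hn, hne⟩ := hN
    refine hne ?_
    rw [← e]
    simpa using CharTheory.Average.avg_mul_left N θ ⟨n, hn⟩ 1
  have := congrFun h x
  rw [CharTheory.Average.avg, Pi.zero_apply, mul_eq_zero] at this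
  exact this.resolve_left (inv_ne_zero (Nat.cast_ne_zero.2 Nat.card_pos.ne'))

end Average

variable {G : Type u} [Group G] [Fintype G] {M W₁ U W₂ : Subgroup G} [Fintype M]

/-- A member of `calS M` comes from a character of `M'` nontrivial on `M_s`. -/
theorem exists_of_mem_calS {φ : ↥M → ℂ} (h : φ ∈ calS M) :
    ∃ θ : derivedIn M → ℂ, IsIrrCharacter (derivedIn M) θ ∧
      (∃ n : derivedIn M, ((n : M) : G) ∈ typeCore M ∧ θ n ≠ θ 1) ∧
      φ = indFun (derivedIn M) θ := by
  obtain ⟨⟨θ, hθ, h1, -, rfl⟩, hnot⟩ := h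
  refine ⟨θ, hθ, ?_, rfl⟩
  by_contra hn
  push Not at hn
  exact hnot ⟨θ, hθ, h1, fun a ha => hn a (mem_subgroupOf.1 ha), rfl⟩

theorem isGen_of_mem_calS {α : ↥M → ℂ} (hα : α ∈ zspan (calS M)) :
    IsGeneralizedCharacter M α := by
  refine Submodule.span_induction (fun x hx => ?_) isGen_zero (fun x y _ _ => isGen_add)
    (fun k x _ hx => ?_) hα
  · obtain ⟨θ, hθ, -, rfl⟩ := exists_of_mem_calS hx
    exact isGen_of_isCharacter (isCharacter_indFun _ (isCharacter_of_isIrr hθ))
  · rw [← Int.cast_smul_eq_zsmul ℂ k x]; exact isGen_intSmul hx k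

theorem isClassFunction_of_mem_calS {α : ↥M → ℂ} (hα : α ∈ zspan (calS M)) :
    IsClassFunction M α := isGen_isClassFunction (isGen_of_mem_calS hα)

theorem eq_zero_of_notMem_derived {α : ↥M → ℂ} (hα : α ∈ zspan (calS M)) {x : M}
    (hx : (x : G) ∉ ⁅M, M⁆) : α x = 0 := by
  refine Submodule.span_induction (p := fun f _ => f x = 0) ?_ rfl ?_ ?_ hα
  · intro φ hφ
    obtain ⟨θ, -, -, rfl⟩ := exists_of_mem_calS hφ
    haveI : (derivedIn M).Normal := derivedIn_normal M
    exact Induce.indFun_apply_normal_notMem _ θ fun h => hx (mem_subgroupOf.1 h)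
  · intro a b _ _ ha hb; rw [Pi.add_apply, ha, hb, add_zero]
  · intro c a _ ha; rw [Pi.smul_apply, ha, smul_zero]

/-- Combinations of `calS M` vanish outside `A(M) ∪ {1}`. -/
theorem eq_zero_of_notMem_typeA (hG : IsMinSimpleOddOrder G) (hM : IsCoatom M)
    (hP : IsTypePWith M W₁ U W₂) {α : ↥M → ℂ} (hα : α ∈ zspan (calS M)) {x : M} (hx1 : x ≠ 1)
    (hx : (x : G) ∉ typeA M) : α x = 0 := by
  by_cases hd : (x : G) ∈ ⁅M, M⁆
  swap
  · exact eq_zero_of_notMem_derived hα hd
  refine Submodule.span_induction (p := fun f _ => f x = 0) ?_ rfl ?_ ?_ hα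
  · intro φ hφ
    obtain ⟨θ, hθ, ⟨n, hn, hne⟩, rfl⟩ := exists_of_mem_calS hφ
    haveI : (derivedIn M).Normal := derivedIn_normal M
    haveI := typeCore_normal hP
    set N : Subgroup (derivedIn M) := ((typeCore M).subgroupOf M).subgroupOf (derivedIn M)
    haveI : N.Normal := Subgroup.normal_subgroupOf
    refine Induce.indFun_eq_zero _ θ x fun z => ?_
    by_cases hz : z⁻¹ * x * z ∈ derivedIn M
    swap
    · exact extendByZero_of_notMem _ θ hz
    rw [extendByZero_of_mem _ θ hz]
    refine apply_eq_zero_of_inf_centralizer (N := N) hθ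
      ⟨n, by simpa [N, mem_subgroupOf] using hn, hne⟩ ((eq_bot_iff_forall _).2 fun v hv => ?_)
    obtain ⟨hv1, hv2⟩ := mem_inf.1 hv
    have hvc : ((v : M) : G) ∈ typeCore M := mem_subgroupOf.1 (mem_subgroupOf.1 hv1)
    by_contra hne1
    refine hx ((mem_typeA_iff hG hM hP).2 ⟨hd, fun e => hx1 (Subtype.ext e),
      (z : G) * ((v : M) : G) * (z : G)⁻¹, ?_, ?_, ?_⟩)
    · exact mem_subgroupOf.1
        (((typeCore_normal hP).conj_mem (v : M) (mem_subgroupOf.2 hvc) z) :)
    · exact fun e => hne1 (Subtype.ext (Subtype.ext (conj_eq_one_iff.1 e)))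
    · have e := congrArg (fun t : derivedIn M => (((t : M)) : G)) (mem_centralizer_singleton_iff.1 hv2)
      simp only [Subgroup.coe_mul, InvMemClass.coe_inv] at e
      calc (x : G) * ((z : G) * ((v : M) : G) * (z : G)⁻¹)
          = (z : G) * (((z : G)⁻¹ * x * z) * ((v : M) : G)) * (z : G)⁻¹ := by group
        _ = (z : G) * (((v : M) : G) * ((z : G)⁻¹ * x * z)) * (z : G)⁻¹ := by rw [e]
        _ = _ := by group
  · intro a b _ _ ha hb; rw [Pi.add_apply, ha, hb, add_zero]
  · intro c a _ ha; rw [Pi.smul_apply, ha, smul_zero]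

/-- Combinations of `calS M` of degree zero live on `A(M)`. -/
theorem supp_calS (hG : IsMinSimpleOddOrder G) (hM : IsCoatom M) (hP : IsTypePWith M W₁ U W₂)
    {α : ↥M → ℂ} (hα : α ∈ zspanOn (calS M) {1}ᶜ) (x : M) (hx : (x : G) ∉ typeA M) : α x = 0 := by
  by_cases h1 : x = 1
  · rw [h1]; exact Isometry.apply_one_eq_zero hα
  · exact eq_zero_of_notMem_typeA hG hM hP hα.1 h1 hx

theorem supp_calS₀ (hG : IsMinSimpleOddOrder G) (hM : IsCoatom M) (hP : IsTypePWith M W₁ U W₂)
    {α : ↥M → ℂ} (hα : α ∈ zspanOn (calS M) {1}ᶜ) (x : M) (hx : (x : G) ∉ typeA0 M) : α x = 0 :=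
  supp_calS hG hM hP hα x fun h => hx (Or.inl h)

/-- A class function whose sums over the cosets of `M_s` vanish has vanishing centraliser sums. -/
theorem cosetSumZero_of_core (hG : IsMinSimpleOddOrder G) (hM : IsCoatom M) {β : ↥M → ℂ}
    (hβ : IsClassFunction M β)
    (h : ∀ a : M, (a : G) ∈ typeA M → (a : G) ∉ sigmaCore M →
      ∑ᶠ n ∈ (((sigmaCore M).subgroupOf M : Subgroup M) : Set M), β (n * a) = 0) :
    CosetSumZero M β := by
  classical
  intro a ha hns hcop
  have haM : a ∈ M := by rw [TypeOne.Gap.typeA_eq hG hM] at ha; exact ha.1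
  have hK := Sigma.sigmaCore_le M
  set K := (sigmaCore M).subgroupOf M with hKdef
  have hcop' : (orderOf (⟨a, haM⟩ : M)).Coprime (Nat.card K) := by
    rwa [← orderOf_coe, Nat.card_congr (subgroupOfEquivOfLe hK).toEquiv]
  have hn : (⟨a, haM⟩ : M) ∈ normalizer (K : Set M) := by
    haveI : K.Normal := (normal_subgroupOf_iff_le_normalizer hK).2 (Sigma.le_normalizer_sigmaCore M)
    exact Induce.conj_mem_of_normal K _
  have key := Dade.sum_coset K _ hn hcop' β fun x z => hβ x z
  have h0 := h ⟨a, haM⟩ ha hns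
  rw [finsum_mem_eq_finite_toFinset_sum _ (Set.toFinite _)] at h0
  rw [Finset.sum_congr (s₂ := Finset.univ.filter fun k => k ∈ K)
    (by ext; simp) (fun _ _ => rfl)] at h0
  rw [h0, mul_zero, eq_comm, mul_eq_zero] at key
  have key' := key.resolve_left (Nat.cast_ne_zero.2 Nat.card_pos.ne')
  rw [finsum_mem_eq_finite_toFinset_sum _ (Set.toFinite _), ← key']
  have hle : ∀ r : G, r ∈ sigmaCore M ⊓ centralizer ({a} : Set G) → r ∈ M := fun r hr =>
    hK (mem_inf.1 hr).1
  refine Finset.sum_bij' (fun r hr => (⟨r, hle r (by rwa [Set.Finite.mem_toFinset] at hr)⟩ : M))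
    (fun c _ => (c : G)) ?_ ?_ (fun _ _ => rfl) (fun _ _ => rfl) ?_
  · intro r hr
    rw [Set.Finite.mem_toFinset, SetLike.mem_coe, mem_inf, mem_centralizer_singleton_iff] at hr
    simp only [Finset.mem_filter, Finset.mem_univ, true_and, mem_inf,
      mem_centralizer_singleton_iff, hKdef, mem_subgroupOf]
    exact ⟨hr.1, Subtype.ext hr.2⟩
  · intro c hc
    simp only [Finset.mem_filter, Finset.mem_univ, true_and, mem_inf,
      mem_centralizer_singleton_iff, hKdef, mem_subgroupOf] at hc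
    rw [Set.Finite.mem_toFinset, SetLike.mem_coe, mem_inf, mem_centralizer_singleton_iff]
    exact ⟨hc.1, congrArg Subtype.val hc.2⟩
  · intro r hr
    rw [Set.Finite.mem_toFinset, SetLike.mem_coe, mem_inf, mem_centralizer_singleton_iff] at hr
    rw [extendByZero_of_mem M β (mul_mem haM (hK hr.1))]
    exact congrArg β (Subtype.ext hr.2.symm)

/-- Combinations of `calS M` have vanishing centraliser sums. -/
theorem cosetSumZero_calS (hG : IsMinSimpleOddOrder G) (hM : IsCoatom M)
    (hP : IsTypePWith M W₁ U W₂) {α : ↥M → ℂ} (hα : α ∈ zspan (calS M)) : CosetSumZero M α := by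
  classical
  refine cosetSumZero_of_core hG hM (isClassFunction_of_mem_calS hα) fun a ha _ => ?_
  have had : (a : G) ∈ ⁅M, M⁆ := ((mem_typeA_iff hG hM hP).1 ha).1
  rw [← OddLocal.Types.typeCore_eq hG hM]
  refine Submodule.span_induction
    (p := fun f _ => ∑ᶠ n ∈ (((typeCore M).subgroupOf M : Subgroup M) : Set M), f (n * a) = 0)
    ?_ (by simp) ?_ ?_ hα
  · intro φ hφ
    obtain ⟨θ, hθ, ⟨n, hn, hne⟩, rfl⟩ := exists_of_mem_calS hφ
    haveI : (derivedIn M).Normal := derivedIn_normal M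
    haveI := typeCore_normal hP
    set N₀ := (typeCore M).subgroupOf M with hN₀
    set N : Subgroup (derivedIn M) := N₀.subgroupOf (derivedIn M)
    haveI : N.Normal := Subgroup.normal_subgroupOf
    rw [finsum_mem_eq_finite_toFinset_sum _ (Set.toFinite _)]
    simp only [indFun, ← Finset.mul_sum]
    refine mul_eq_zero_of_right _ ?_
    rw [Finset.sum_comm]
    refine Finset.sum_eq_zero fun z _ => ?_
    have hy : z⁻¹ * a * z ∈ derivedIn M := by
      simpa using (derivedIn_normal M).conj_mem a (mem_subgroupOf.2 had) z⁻¹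
    have hN₀le : N₀ ≤ derivedIn M := fun t ht =>
      mem_subgroupOf.2 (typeCore_le_derived hP (mem_subgroupOf.1 ht))
    rw [← sum_mul_eq_zero_of_irr N hθ ⟨n, by simpa [N, N₀, mem_subgroupOf] using hn, hne⟩
      ⟨_, hy⟩]
    refine Finset.sum_bij' (fun t ht => (⟨⟨z⁻¹ * t * z, hN₀le (by
        simpa using (typeCore_normal hP).conj_mem t (by rwa [Set.Finite.mem_toFinset] at ht) z⁻¹)⟩,
        mem_subgroupOf.2 (by
          simpa using (typeCore_normal hP).conj_mem t (by rwa [Set.Finite.mem_toFinset] at ht) z⁻¹)⟩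
          : N))
      (fun t _ => z * ((t : derivedIn M) : M) * z⁻¹) ?_ ?_ ?_ ?_ ?_
    · exact fun _ _ => Finset.mem_univ _
    · intro t _
      rw [Set.Finite.mem_toFinset]
      exact (typeCore_normal hP).conj_mem _ (mem_subgroupOf.1 t.2) z
    · intro t _; show z * (z⁻¹ * t * z) * z⁻¹ = t; group
    · intro t _; exact Subtype.ext (Subtype.ext (show z⁻¹ * (z * _ * z⁻¹) * z = _ by group))
    · intro t ht
      have ht' : t ∈ N₀ := by rwa [Set.Finite.mem_toFinset] at ht
      have e : z⁻¹ * (t * a) * z = z⁻¹ * t * z * (z⁻¹ * a * z) := by group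
      have hm : z⁻¹ * (t * a) * z ∈ derivedIn M := by
        rw [e]; exact mul_mem (hN₀le (by simpa using (typeCore_normal hP).conj_mem t ht' z⁻¹)) hy
      rw [extendByZero_of_mem _ θ hm]
      exact congrArg θ (Subtype.ext e)
  · intro f g _ _ hf hg
    simp only [Pi.add_apply]
    rw [finsum_mem_add_distrib (Set.toFinite _), hf, hg, add_zero]
  · intro c f _ hf
    simp only [Pi.smul_apply]
    rw [finsum_mem_eq_finite_toFinset_sum _ (Set.toFinite _), ← Finset.smul_sum,
      ← finsum_mem_eq_finite_toFinset_sum, hf, smul_zero]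

end Cfsg.Agent.OddChar.TypeP.Tools
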