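import Cfsg.Agent.OddChar.TypeP.Tools.LData
import Cfsg.Agent.OddChar.TypeP.SibleyPrime.Basic

/-!
# What is used about `τ₁ λ` and `Y = τ(1_H^L - λ)`
-/

set_option autoImplicit false
set_option linter.unusedSectionVars false
set_option linter.style.haveILetI false

namespace Cfsg.Agent.OddChar.TypeP.Tools

open Cfsg Subgroup
open Cfsg.Agent.OddLocal
open Cfsg.Agent.Characters Cfsg.Agent.OddChar.Signed Cfsg.Agent.OddChar.Isometry
open scoped ComplexConjugate

universe u

variable {G : Type u} [Group G] [Fintype G]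

theorem dade_conjFun (A : Set G) (L : Subgroup G) (R : G → Subgroup G) (α : L → ℂ) :
    dadeIsometry A L R (Cfsg.conjFun α) = Cfsg.conjFun (dadeIsometry A L R α) := by
  funext g
  simp only [dadeIsometry, Cfsg.conjFun]
  split_ifs <;> simp

theorem conjFun_add (a b : G → ℂ) : Cfsg.conjFun (a + b) = Cfsg.conjFun a + Cfsg.conjFun b := by
  funext g; simp [Cfsg.conjFun]

theorem dade_sub (A : Set G) (L : Subgroup G) (R : G → Subgroup G) (α β : L → ℂ) :
    dadeIsometry A L R (α - β) = dadeIsometry A L R α - dadeIsometry A L R β := by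
  funext g
  simp only [Pi.sub_apply, dadeIsometry]
  split_ifs <;> simp

variable {L : Subgroup G} [Fintype L] {τ₁ : (↥L → ℂ) → G → ℂ} {lam : ↥L → ℂ}

namespace LCtx

variable (c : LCtx L τ₁ lam)
include c

theorem dadeI : DadeHypothesis (typeA L) L (supportR L) :=
  (DadeSets.main c.hG c.hL _ (Or.inr (Or.inl rfl))).2

theorem irr {φ : ↥L → ℂ} (hφ : φ ∈ famI L) : IsIrrCharacter L φ := irr_famI c.hG c.hL c.hκ hφ

theorem sirr {φ : ↥L → ℂ} (hφ : φ ∈ famI L) : IsSIrr (τ₁ φ) :=
  Coherence.isSIrr_image (fun _ h => c.irr h) c.iso hφ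

theorem inner_images {φ ψ : ↥L → ℂ} (hφ : φ ∈ famI L) (hψ : ψ ∈ famI L) [Decidable (φ = ψ)] :
    classInner (τ₁ φ) (τ₁ ψ) = if φ = ψ then 1 else 0 := by
  rw [c.iso.2.2.1 _ (mem_zS hφ) _ (mem_zS hψ)]
  exact Coherence.irr_orth (fun _ h => c.irr h) hφ hψ

theorem conj_mem {φ : ↥L → ℂ} (hφ : φ ∈ famI L) : Cfsg.conjFun φ ∈ famI L := by
  haveI : Fintype (fittingHall L) := Fintype.ofFinite _
  obtain ⟨θ, hθ, h1, rfl⟩ := exists_of_mem_famI hφ
  refine ⟨fun a => conj (θ a), isIrrCharacter_conj hθ, fun e => h1 ?_, ?_, ?_⟩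
  · funext a
    have := congrFun e a
    simpa using congrArg conj this
  · intro a ha; rw [show a = 1 from Subtype.ext (mem_bot.1 ha)]
  · funext g
    simp only [Cfsg.conjFun, indFun, map_mul, map_inv₀, map_natCast, map_sum]
    refine congrArg _ (Finset.sum_congr rfl fun x _ => ?_)
    by_cases hx : x⁻¹ * g * x ∈ fittingHall L
    · rw [CharTheory.IndBasic.extendByZero_of_mem _ _ hx,
        CharTheory.IndBasic.extendByZero_of_mem _ _ hx]
    · rw [CharTheory.IndBasic.extendByZero_of_notMem _ _ hx,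
        CharTheory.IndBasic.extendByZero_of_notMem _ _ hx, map_zero]

theorem conj_orth {φ : ↥L → ℂ} (hφ : φ ∈ famI L) : classInner (Cfsg.conjFun φ) φ = 0 := by
  haveI := fittingHall_normal c.hG c.hL c.hκ
  exact SibleyPrime.conj_orth L _ (c.hG.1.of_dvd_nat (card_subgroup_dvd_card L)) hφ

theorem wI_conj {φ : ↥L → ℂ} : wI L (Cfsg.conjFun φ) = wI L φ := by
  simp [wI, Cfsg.conjFun]

theorem diff_mem {φ : ↥L → ℂ} (hφ : φ ∈ famI L) :
    φ - (wI L φ : ℤ) • lam ∈ zspanOn (famI L) {1}ᶜ := by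
  refine mem_zspanOn_compl_one (Submodule.sub_mem _ (mem_zS hφ)
    (Submodule.smul_mem _ _ (mem_zS c.lam_mem))) ?_
  rw [Pi.sub_apply, Pi.smul_apply, (degree_famI hφ).2, (degree_famI c.lam_mem).2, c.lam_deg,
    zsmul_eq_mul, Int.cast_natCast, Nat.cast_one, one_mul, sub_self]

theorem supp {α : ↥L → ℂ} (hα : α ∈ zspanOn (famI L) {1}ᶜ) :
    ∀ x : L, (x : G) ∉ typeA L → α x = 0 := supp_famI c.hG c.hL c.hκ hα

theorem image_diff {φ : ↥L → ℂ} (hφ : φ ∈ famI L) :
    τ₁ φ - (wI L φ : ℤ) • τ₁ lam = tauI L (φ - (wI L φ : ℤ) • lam) := by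
  rw [← c.agree _ (c.diff_mem hφ),
    map_sub' (M := zS (famI L)) c.iso (mem_zS hφ) (Submodule.smul_mem _ _ (mem_zS c.lam_mem)),
    c.iso.2.1 _ (mem_zS c.lam_mem)]

theorem image_sub_conj {φ : ↥L → ℂ} (hφ : φ ∈ famI L) :
    τ₁ φ - τ₁ (Cfsg.conjFun φ) = tauI L (φ - Cfsg.conjFun φ) := by
  rw [← c.agree _ ?_, map_sub' (M := zS (famI L)) c.iso (mem_zS hφ) (mem_zS (c.conj_mem hφ))]
  refine mem_zspanOn_compl_one (Submodule.sub_mem _ (mem_zS hφ) (mem_zS (c.conj_mem hφ))) ?_
  rw [Pi.sub_apply, (degree_famI hφ).2, (degree_famI (c.conj_mem hφ)).2, c.wI_conj, sub_self]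

/-- `τ₁` commutes with conjugation. -/
theorem conj_image {φ : ↥L → ℂ} (hφ : φ ∈ famI L) :
    Cfsg.conjFun (τ₁ φ) = τ₁ (Cfsg.conjFun φ) := by
  classical
  refine conjFun_eq_of_sub (c.sirr hφ) (c.sirr (c.conj_mem hφ)) ?_ ?_
  · rw [c.inner_images hφ (c.conj_mem hφ), if_neg]
    intro e
    have h := c.conj_orth hφ
    rw [← e, classInner_isIrr_self (c.irr hφ)] at h
    exact one_ne_zero h
  · have h2 : τ₁ (Cfsg.conjFun φ) - τ₁ φ = tauI L (Cfsg.conjFun φ - φ) := by
      rw [tauI, dade_sub, ← neg_sub (τ₁ φ), c.image_sub_conj hφ, tauI, dade_sub]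
      abel
    rw [h2, c.image_sub_conj hφ, tauI, ← dade_conjFun]
    congr 1
    funext x
    simp [Cfsg.conjFun]

theorem image_orth_conj {φ : ↥L → ℂ} (hφ : φ ∈ famI L) :
    classInner (τ₁ φ) (Cfsg.conjFun (τ₁ φ)) = 0 := by
  rw [c.conj_image hφ, c.iso.2.2.1 _ (mem_zS hφ) _ (mem_zS (c.conj_mem hφ))]
  exact Coherence.inner_comm_zero (c.conj_orth hφ)

theorem inner_image_one {φ : ↥L → ℂ} (hφ : φ ∈ famI L) :
    classInner (τ₁ φ) (fun _ => 1) = 0 := by
  rcases (c.sirr hφ).inner_cases (Or.inl isIrrCharacter_one : IsSIrr (fun _ : G => (1 : ℂ))) with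
    e | e | e
  · exact e
  all_goals
    have h := c.image_orth_conj hφ
    have hs := (c.sirr hφ).inner_self
    have hr : Cfsg.conjFun (τ₁ φ) = τ₁ φ := by rw [e]; funext g; simp [Cfsg.conjFun]
    rw [hr, hs] at h
    exact absurd h one_ne_zero

/-- Against a class function averaging to zero on `A(L)` the family is proportional to its degree. -/
theorem inner_image {X : G → ℂ} (hX : IsClassFunction G X)
    (hρ : ∀ a ∈ typeA L, TypeOne.Gap.rho (supportR L) X a = 0) {φ : ↥L → ℂ} (hφ : φ ∈ famI L) :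
    classInner (τ₁ φ) X = (wI L φ : ℂ) * classInner (τ₁ lam) X := by
  have h0 : classInner (τ₁ φ - (wI L φ : ℤ) • τ₁ lam) X = 0 := by
    rw [c.image_diff hφ, tauI, TypeOne.Gap.inner_rho c.dadeI
      (isGen_isClassFunction (isGen_famI (c.diff_mem hφ).1)) (c.supp (c.diff_mem hφ)) hX,
      classInner_def, Finset.sum_eq_zero, mul_zero]
    intro x _
    by_cases hx : (x : G) ∈ typeA L
    · rw [hρ _ hx, map_zero, mul_zero]
    · rw [c.supp (c.diff_mem hφ) x hx, zero_mul]
  rw [classInner_sub_left, Coherence.inner_smul_int_left, sub_eq_zero, Int.cast_natCast] at h0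
  exact h0

theorem base_supp (x : L) (hx : (x : G) ∉ typeA L) :
    (indFun (fittingHall L) (fun _ => 1) - lam) x = 0 := by
  haveI := fittingHall_normal c.hG c.hL c.hκ
  by_cases h1 : x = 1
  · rw [h1, Pi.sub_apply, indFun_one, (degree_famI c.lam_mem).2, c.lam_deg, Nat.cast_one, one_mul,
      mul_one, sub_self]
  · have hn : x ∉ fittingHall L := fun h =>
      hx (mem_typeA_of_mem_fittingHall c.hG c.hL c.hκ h h1)
    rw [Pi.sub_apply, Induce.indFun_apply_normal_notMem _ _ hn,
      vanish_off_famI c.hG c.hL c.hκ (mem_zS c.lam_mem) hn, sub_zero]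

theorem base_gen : IsGeneralizedCharacter L (indFun (fittingHall L) (fun _ => 1) - lam) :=
  isGen_sub (isGen_of_isCharacter (isCharacter_indFun _ isCharacter_one))
    (isGen_famI (mem_zS c.lam_mem))

theorem gen_Y : IsGeneralizedCharacter G (YI L lam) :=
  S1501.result _ L _ c.dadeI _ c.base_gen c.base_supp

theorem class_Y : IsClassFunction G (YI L lam) := isGen_isClassFunction c.gen_Y

/-- `Y` is orthogonal to what averages to zero on `A(L)`. -/
theorem inner_Y {X : G → ℂ} (hX : IsClassFunction G X)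
    (hρ : ∀ a ∈ typeA L, TypeOne.Gap.rho (supportR L) X a = 0) :
    classInner (YI L lam) X = 0 := by
  rw [YI, tauI, TypeOne.Gap.inner_rho c.dadeI (isGen_isClassFunction c.base_gen) c.base_supp hX,
    classInner_def, Finset.sum_eq_zero, mul_zero]
  intro x _
  by_cases hx : (x : G) ∈ typeA L
  · rw [hρ _ hx, map_zero, mul_zero]
  · rw [c.base_supp x hx, zero_mul]

theorem inner_base {φ : ↥L → ℂ} (hφ : φ ∈ famI L) :
    classInner (indFun (fittingHall L) (fun _ => 1)) φ = 0 := by
  haveI := fittingHall_normal c.hG c.hL c.hκ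
  haveI : Fintype (fittingHall L) := Fintype.ofFinite _
  rw [frobenius_reciprocity _ _ (char_isClassFunction (isCharacter_of_isIrr (c.irr hφ)))]
  obtain ⟨θ, hθ, h1, rfl⟩ := exists_of_mem_famI hφ
  exact Coherence.inner_comm_zero (Coherence.inner_res_one _ hθ h1)

theorem inner_base_one : classInner (indFun (fittingHall L) (fun _ => 1)) (fun _ => 1) = 1 := by
  haveI : Fintype (fittingHall L) := Fintype.ofFinite _
  rw [frobenius_reciprocity _ _ (fun _ _ => rfl)]
  exact classInner_isIrr_self isIrrCharacter_one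

theorem Y_one : classInner (YI L lam) (fun _ => 1) = 1 := by
  classical
  rw [YI, tauI, TypeOne.Gap.inner_rho c.dadeI (isGen_isClassFunction c.base_gen) c.base_supp
    (fun _ _ => rfl), show (fun a : L => TypeOne.Gap.rho (supportR L) (fun _ : G => (1 : ℂ)) (a : G)) =
      fun _ => 1 from funext fun a => TypeOne.Gap.rho_const fun _ _ => rfl,
    classInner_sub_left, c.inner_base_one]
  have hl : lam ≠ fun _ => 1 := fun e => by
    have h := c.conj_orth c.lam_mem
    rw [e, show Cfsg.conjFun (fun _ : L => (1 : ℂ)) = fun _ => 1 from funext fun _ => map_one _,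
      classInner_isIrr_self isIrrCharacter_one] at h
    exact one_ne_zero h
  rw [classInner_isIrr_ne (c.irr c.lam_mem) isIrrCharacter_one hl, sub_zero]

theorem norm_Y : classInner (YI L lam) (YI L lam) = ((fittingHall L).index : ℂ) + 1 := by
  haveI := fittingHall_normal c.hG c.hL c.hκ
  haveI : Fintype (fittingHall L) := Fintype.ofFinite _
  have hcl := isGen_isClassFunction c.base_gen
  rw [YI, tauI, (S1500.result _ L _ c.dadeI _ hcl c.base_supp).1 _ hcl c.base_supp,
    classInner_sub_left, classInner_sub_right, classInner_sub_right, c.inner_base c.lam_mem,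
    Coherence.inner_comm_zero (c.inner_base c.lam_mem), classInner_isIrr_self (c.irr c.lam_mem),
    frobenius_reciprocity _ _ (indFun_isClassFunction _ _), classInner_def]
  have : ∀ y : fittingHall L, indFun (fittingHall L) (fun _ => (1 : ℂ)) y =
      ((fittingHall L).index : ℂ) := fun y => by
    rw [Induce.indFun_apply_normal, Finset.sum_const, Finset.card_univ, nsmul_eq_mul, mul_one,
      ← Nat.card_eq_fintype_card, ← Subgroup.card_mul_index (fittingHall L), Nat.cast_mul,
      inv_mul_cancel_left₀ (Nat.cast_ne_zero.2 Nat.card_pos.ne')]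
  rw [Finset.sum_congr rfl fun y _ => by rw [this y, Complex.conj_natCast, one_mul], Finset.sum_const,
    Finset.card_univ, nsmul_eq_mul, ← Nat.card_eq_fintype_card,
    inv_mul_cancel_left₀ (Nat.cast_ne_zero.2 Nat.card_pos.ne')]
  ring

/-- The coefficients of `Y` on the family. -/
theorem Y_coef {y : ℤ} (hy : classInner (YI L lam) (τ₁ lam) = (y : ℂ)) {φ : ↥L → ℂ}
    (hφ : φ ∈ famI L) (hne : φ ≠ lam) :
    classInner (YI L lam) (τ₁ φ) = ((wI L φ * (y + 1) : ℤ) : ℂ) := by
  classical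
  have h : classInner (YI L lam) (τ₁ φ - (wI L φ : ℤ) • τ₁ lam) = (wI L φ : ℂ) := by
    rw [c.image_diff hφ, YI, tauI, (S1500.result _ L _ c.dadeI _ (isGen_isClassFunction c.base_gen)
      c.base_supp).1 _ (isGen_isClassFunction (isGen_famI (c.diff_mem hφ).1)) (c.supp (c.diff_mem hφ))]
    simp only [classInner_sub_left, classInner_sub_right, Coherence.inner_smul_int_right,
      c.inner_base hφ, c.inner_base c.lam_mem,
      classInner_isIrr_ne (c.irr c.lam_mem) (c.irr hφ) (Ne.symm hne),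
      classInner_isIrr_self (c.irr c.lam_mem)]
    push_cast; ring
  rw [classInner_sub_right, Coherence.inner_smul_int_right, hy] at h
  push_cast at h ⊢
  linear_combination h

/-- `Z = Y + τ₁ λ` is real. -/
theorem Z_real : IsReal (YI L lam + τ₁ lam) := by
  haveI := fittingHall_normal c.hG c.hL c.hκ
  have hb : Cfsg.conjFun (indFun (fittingHall L) (fun _ : fittingHall L => (1 : ℂ))) =
      indFun (fittingHall L) (fun _ => 1) := by
    funext g
    by_cases hg : g ∈ fittingHall L
    · simp only [Cfsg.conjFun, indFun, map_mul, map_inv₀, map_natCast, map_sum]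
      refine congrArg _ (Finset.sum_congr rfl fun x _ => ?_)
      by_cases hx : x⁻¹ * g * x ∈ fittingHall L
      · rw [CharTheory.IndBasic.extendByZero_of_mem _ _ hx, map_one]
      · rw [CharTheory.IndBasic.extendByZero_of_notMem _ _ hx, map_zero]
    · rw [Cfsg.conjFun, Induce.indFun_apply_normal_notMem _ _ hg, map_zero]
  have h : Cfsg.conjFun (YI L lam + τ₁ lam) = YI L lam + τ₁ lam := by
    have e := c.image_sub_conj c.lam_mem
    rw [conjFun_add, c.conj_image c.lam_mem, YI, tauI, ← dade_conjFun, conjFun_sub, hb, dade_sub,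
      dade_sub]
    rw [tauI, dade_sub] at e
    calc dadeIsometry (typeA L) L (supportR L) (indFun (fittingHall L) fun _ => 1) -
          dadeIsometry (typeA L) L (supportR L) (Cfsg.conjFun lam) + τ₁ (Cfsg.conjFun lam)
        = dadeIsometry (typeA L) L (supportR L) (indFun (fittingHall L) fun _ => 1) +
          (dadeIsometry (typeA L) L (supportR L) lam -
            dadeIsometry (typeA L) L (supportR L) (Cfsg.conjFun lam)) -
          dadeIsometry (typeA L) L (supportR L) lam + τ₁ (Cfsg.conjFun lam) := by abel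
      _ = _ := by rw [← e]; abel
  exact fun g => congrFun h g

theorem gen_Z : IsGeneralizedCharacter G (YI L lam + τ₁ lam) :=
  isGen_add c.gen_Y (c.iso.2.2.2 _ (mem_zS c.lam_mem))

theorem Z_one : classInner (YI L lam + τ₁ lam) (fun _ => 1) = 1 := by
  rw [classInner_add_left, c.Y_one, c.inner_image_one c.lam_mem, add_zero]

theorem inj {φ ψ : ↥L → ℂ} (hφ : φ ∈ famI L) (hψ : ψ ∈ famI L) (e : τ₁ φ = τ₁ ψ) : φ = ψ := by
  classical
  by_contra hne
  have h := c.inner_images hφ hψ
  rw [if_neg hne, e, (c.sirr hψ).inner_self] at h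
  exact one_ne_zero h

theorem mem {φ : ↥L → ℂ} : φ ∈ memI L ↔ φ ∈ famI L := mem_memI c.hG c.hL c.hκ

/-- The squared coefficients of `Y` on the family. -/
theorem sum_coef_sq {y : ℤ} (hy : classInner (YI L lam) (τ₁ lam) = (y : ℂ))
    {v : (↥L → ℂ) → ℤ} (hv : ∀ φ ∈ memI L, classInner (YI L lam) (τ₁ φ) = (v φ : ℂ)) :
    ∑ φ ∈ memI L, v φ ^ 2 =
      y ^ 2 + (((∑ φ ∈ memI L, wI L φ ^ 2 : ℕ) : ℤ) - 1) * (y + 1) ^ 2 := by
  classical
  have hl : lam ∈ memI L := c.mem.2 c.lam_mem
  have hvl : v lam = y := by have := (hv lam hl).symm.trans hy; exact_mod_cast this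
  rw [← Finset.add_sum_erase _ _ hl, hvl, Finset.sum_congr rfl
    (g := fun φ => ((wI L φ : ℤ) ^ 2) * (y + 1) ^ 2) fun φ hφ => by
      obtain ⟨hne, hm⟩ := Finset.mem_erase.1 hφ
      have := (hv φ hm).symm.trans (c.Y_coef hy (c.mem.1 hm) hne)
      rw [show v φ = wI L φ * (y + 1) by exact_mod_cast this, mul_pow]]
  rw [← Finset.sum_mul, ← Finset.add_sum_erase (s := memI L) (fun φ => wI L φ ^ 2) hl, c.lam_deg]
  push_cast
  ring

end LCtx

end Cfsg.Agent.OddChar.TypeP.Tools
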