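import Cfsg.Agent.OddChar.TypeP.Tools.GammaChar
import Cfsg.Agent.OddChar.TypeP.Tools.CalS
import Cfsg.Agent.OddChar.TypeP.Tools.LFacts
import Cfsg.Agent.OddChar.TypeP.RowDiff
import Cfsg.Agent.S1501

/-!
# `Γ j = Ind 1 - μ j` on the maximal subgroup and `τ (Γ j)` on the group
-/

set_option autoImplicit false
set_option linter.unusedSectionVars false
set_option linter.style.haveILetI false

namespace Cfsg.Agent.OddChar.TypeP.Tools

open Cfsg Subgroup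
open Cfsg.Agent.OddLocal Cfsg.Agent.Characters
open Cfsg.Agent.CharTheory.IndBasic (extendByZero_of_mem extendByZero_of_notMem)
open scoped ComplexConjugate

universe u

variable {G : Type u} [Group G] [Fintype G] {S W₁ U W₂ : Subgroup G} [Fintype S]

namespace GHyp

variable (g : GHyp S W₁ U W₂) {j : ↥(W₁ ⊔ W₂) →* ℂˣ}
include g

theorem W_le_base : W₁ ⊔ W₂ ≤ baseC S W₁ U :=
  sup_le le_sup_right (g.W₂_le_coreC.trans le_sup_left)

theorem muC_apply_W (hj : j ∈ rightSet W₁ W₂) {w : ↥S} (hw : (w : G) ∈ W₁ ⊔ W₂)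
    (h2 : (w : G) ∉ W₂) : g.muC j w = (j ⟨w, hw⟩ : ℂ) := by
  rw [muC, g.ind_out (g.lamC j) ⟨w, mem_subgroupOf.mpr (g.W_le_base hw)⟩
    fun hd => h2 (mem_W₂_of_mem_derived g.hG g.hP hw hd)]
  congr 1
  obtain ⟨a, b, ha, hb, e⟩ := (CyclicTI.split_of g.hP.selfNormalizing).exists_mul ⟨w, hw⟩
  rw [g.lamC_apply j _ (k := (a : G)) (mem_sup_right (mem_sup_right ha)) ⟨b, hb⟩
    (congrArg Subtype.val e), e, map_mul, hj a ha, one_mul]
  rfl

theorem indOne_out {x : ↥S} (hx : x ∈ baseCIn S W₁ U) (hd : (x : G) ∉ ⁅S, S⁆) :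
    indN (1 : ↥(baseCIn S W₁ U) →* ℂˣ) x = 1 := by
  rw [g.ind_out 1 ⟨x, hx⟩ hd, MonoidHom.one_apply, Units.val_one]

/-- `Γ j = 1 - j` on `W - W₂`. -/
theorem gam_apply_W (hj : j ∈ rightSet W₁ W₂) {w : ↥S} (hw : (w : G) ∈ W₁ ⊔ W₂)
    (h2 : (w : G) ∉ W₂) : g.gam j w = 1 - (j ⟨w, hw⟩ : ℂ) := by
  rw [gam, Pi.sub_apply, g.muC_apply_W hj hw h2,
    g.indOne_out (mem_subgroupOf.mpr (g.W_le_base hw))
      fun hd => h2 (mem_W₂_of_mem_derived g.hG g.hP hw hd)]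

/-- `μ j = Ind λ j`, of degree `[U : C]` and sign `1`. -/
theorem mu_eq (hj : j ∈ rightSet W₁ W₂) (hj1 : j ≠ 1)
    {μ : (↥(W₁ ⊔ W₂) →* ℂˣ) → ↥S → ℂ} {δ : (↥(W₁ ⊔ W₂) →* ℂˣ) → ℂ}
    (hμ : MuData S W₁ W₂ μ δ) : μ j = g.muC j ∧ δ j = 1 := by
  obtain ⟨a, ha, ha1⟩ := CyclicTI.exists_mem_ne_one g.hP.W₁_ne
  have hdisj : ∀ {y : G}, y ∈ W₁ → y ∈ W₂ → y = 1 := fun {y} h1 h2 => by
    have : y ∈ W₁ ⊓ W₂ := ⟨h1, h2⟩
    rwa [g.hP.selfNormalizing.2.2.1, mem_bot] at this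
  have ha2 : a ∉ W₂ := fun e => ha1 (hdisj ha e)
  set a' : ↥(W₁ ⊔ W₂) := ⟨a, mem_sup_left ha⟩
  set aS : ↥S := ⟨a, W₁_le g.hP ha⟩
  obtain ⟨ω, hω⟩ : ∃ ω, g.muC j = μ ω := by
    by_contra hn
    push Not at hn
    have h := hμ.vanish _ (g.isIrr_muC hj hj1) hn aS (mem_sup_left ha) ha2
    rw [g.muC_apply_W hj (mem_sup_left ha) ha2] at h
    exact Units.ne_zero _ h
  have hv : ∀ w : ↥(W₁ ⊔ W₂), (w : G) ∉ W₂ → (j w : ℂ) = δ ω * (ω w : ℂ) := fun w hw => by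
    have h := hμ.eq_on ω ⟨w, W_le g.hP w.2⟩ w.2 hw
    rwa [← hω, g.muC_apply_W hj w.2 hw] at h
  have haa : ((a' * a' : ↥(W₁ ⊔ W₂)) : G) ∉ W₂ := fun e => by
    have h2 := hdisj (W₁.mul_mem ha ha) e
    have ho : orderOf a ∣ 2 := orderOf_dvd_of_pow_eq_one (by rw [pow_two]; exact h2)
    have hodd : Odd (orderOf a) := g.hG.1.of_dvd_nat (orderOf_dvd_natCard a)
    rcases (Nat.dvd_prime Nat.prime_two).1 ho with h3 | h3
    · exact ha1 (orderOf_eq_one_iff.1 h3)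
    · rw [h3] at hodd; exact absurd hodd (by decide)
  have e1 := hv a' ha2
  have e2 := hv (a' * a') haa
  rw [map_mul, map_mul, Units.val_mul, Units.val_mul] at e2
  rw [show j a' = 1 from hj a' ha, Units.val_one] at e1 e2
  have hd : δ ω = 1 := by
    rcases hμ.sign ω with e | e
    · exact e
    · exfalso
      rw [e] at e1 e2
      have : (ω a' : ℂ) = -1 := by linear_combination e1
      rw [this] at e2
      norm_num at e2
  have hωj : ω = j := by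
    refine MonoidHom.ext fun w => Units.ext ?_
    rw [hd, one_mul] at e1
    by_cases hw : (w : G) ∈ W₂
    · have h3 : ((w * a' : ↥(W₁ ⊔ W₂)) : G) ∉ W₂ := fun e =>
        ha2 (by simpa [a'] using W₂.mul_mem (W₂.inv_mem hw) e)
      have := hv (w * a') h3
      rw [hd, one_mul, map_mul, map_mul, Units.val_mul, Units.val_mul, ← e1, mul_one,
        show j a' = 1 from hj a' ha, Units.val_one, mul_one] at this
      exact this.symm
    · simpa [hd] using (hv w hw).symm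
  subst hωj
  exact ⟨hω.symm, hd⟩

theorem mu_one (hj : j ∈ rightSet W₁ W₂) (hj1 : j ≠ 1)
    {μ : (↥(W₁ ⊔ W₂) →* ℂˣ) → ↥S → ℂ} {δ : (↥(W₁ ⊔ W₂) →* ℂˣ) → ℂ}
    (hμ : MuData S W₁ W₂ μ δ) : μ j 1 = ((centU S U).relIndex U : ℂ) := by
  rw [(g.mu_eq hj hj1 hμ).1, g.muC_one]

theorem classFun_gam (j : ↥(W₁ ⊔ W₂) →* ℂˣ) : IsClassFunction ↥S (g.gam j) :=
  isGen_isClassFunction (g.isGen_gam j)

theorem gam_eq_zero (j : ↥(W₁ ⊔ W₂) →* ℂˣ) {x : ↥S} (hd : (x : G) ∈ ⁅S, S⁆)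
    (hx : (x : G) ∉ coreC S U) : g.gam j x = 0 := by
  rw [gam, Pi.sub_apply, muC, g.ind_derived _ hd fun h => hx (mem_subgroupOf.mp h),
    g.ind_derived _ hd fun h => hx (mem_subgroupOf.mp h), sub_zero]

theorem gam_core (j : ↥(W₁ ⊔ W₂) →* ℂˣ) {k : ↥S} (hk : k ∈ coreCIn S U) :
    g.gam j k = (Nat.card ↥(baseCIn S W₁ U) : ℂ)⁻¹ * ∑ x : ↥S,
      (1 - (g.lamC j ⟨x⁻¹ * k * x, coreCIn_le_baseCIn (g.conj_coreIn hk)⟩ : ℂ)) := by
  rw [gam, Pi.sub_apply, muC, g.ind_core _ hk, g.ind_core _ hk, ← mul_sub, ← Finset.sum_sub_distrib]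
  simp

/-- `Γ` vanishes on `C`. -/
theorem gam_centU (j : ↥(W₁ ⊔ W₂) →* ℂˣ) {c : ↥S} (hc : (c : G) ∈ centU S U) : g.gam j c = 0 := by
  have hk : c ∈ coreCIn S U := mem_subgroupOf.mpr (mem_sup_right hc)
  rw [g.gam_core j hk, Finset.sum_eq_zero fun x _ => ?_, mul_zero]
  rw [g.lamC_eq_one j _ (mem_sup_right (mem_sup_left ?_)), Units.val_one, sub_self]
  simpa using g.conj_C (S.inv_mem x.2) hc

/-- `∑ Γ (c y) = [U : C] |S_F|` over `y ∈ S_F`, for `c ∈ C`. -/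
theorem sum_coset (hj : j ∈ rightSet W₁ W₂) (hj1 : j ≠ 1) {c : G} (hc : c ∈ centU S U) :
    ∑ᶠ y ∈ (fittingHallOf S : Set G), Cfsg.extendByZero S (g.gam j) (c * y) =
      ((centU S U).relIndex U : ℂ) * (Nat.card (fittingHallOf S) : ℂ) := by
  classical
  haveI : Fintype ↥(fittingHallOf S) := Fintype.ofFinite _
  rw [← finsum_set_coe_eq_finsum_mem]
  show ∑ᶠ y : ↥(fittingHallOf S), Cfsg.extendByZero S (g.gam j) (c * (y : G)) = _
  rw [finsum_eq_sum_of_fintype]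
  have hcS := g.centU_le_S hc
  have hyS : ∀ y : ↥(fittingHallOf S), (y : G) ∈ S := fun y => H_le_M S y.2
  set c' : ↥S := ⟨c, hcS⟩
  let ι : ↥(fittingHallOf S) →* ↥S := Subgroup.inclusion (H_le_M S)
  have hmem : ∀ y : ↥(fittingHallOf S), c' * ι y ∈ coreCIn S U := fun y =>
    mem_subgroupOf.mpr (mul_mem (mem_sup_right hc) (mem_sup_left y.2))
  let θ : ↥S → ↥(fittingHallOf S) →* ℂˣ := fun x =>
    MonoidHom.mk' (fun y => g.lamC j ⟨x⁻¹ * ι y * x, coreCIn_le_baseCIn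
      (g.conj_coreIn (mem_subgroupOf.mpr (mem_sup_left y.2)))⟩) fun a b => by
      rw [← map_mul]
      refine congrArg _ (Subtype.ext ?_)
      show x⁻¹ * ι (a * b) * x = x⁻¹ * ι a * x * (x⁻¹ * ι b * x)
      rw [map_mul]; group
  have hθ : ∀ x, θ x ≠ 1 := fun x e => by
    obtain ⟨b, hb⟩ := g.exists_ne hj hj1
    refine hb ?_
    rw [← g.lamC_inW₂ j b]
    have hm : ((x : G) * (b : G) * (x : G)⁻¹) ∈ fittingHallOf S :=
      g.conj_H x.2 (W₂_le_H g.hP b.2)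
    refine Eq.trans (congrArg _ (Subtype.ext (Subtype.ext ?_))) (DFunLike.congr_fun e ⟨_, hm⟩)
    show (b : G) = (x : G)⁻¹ * ((x : G) * (b : G) * (x : G)⁻¹) * (x : G)
    group
  have hval : ∀ y : ↥(fittingHallOf S), Cfsg.extendByZero S (g.gam j) (c * y) =
      (Nat.card ↥(baseCIn S W₁ U) : ℂ)⁻¹ * ∑ x : ↥S, (1 - (θ x y : ℂ)) := fun y => by
    rw [extendByZero_of_mem S (g.gam j) (mul_mem hcS (hyS y))]
    rw [show (⟨c * y, mul_mem hcS (hyS y)⟩ : ↥S) = c' * ι y from rfl, g.gam_core j (hmem y)]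
    refine congrArg _ (Finset.sum_congr rfl fun x _ => ?_)
    have hc1 : x⁻¹ * c' * x ∈ baseCIn S W₁ U := coreCIn_le_baseCIn
      (g.conj_coreIn (mem_subgroupOf.mpr (mem_sup_right hc)))
    have hy1 : x⁻¹ * ι y * x ∈ baseCIn S W₁ U := coreCIn_le_baseCIn
      (g.conj_coreIn (mem_subgroupOf.mpr (mem_sup_left y.2)))
    rw [show (⟨x⁻¹ * (c' * ι y) * x, coreCIn_le_baseCIn (g.conj_coreIn (hmem y))⟩ :
        ↥(baseCIn S W₁ U)) = ⟨_, hc1⟩ * ⟨_, hy1⟩ from Subtype.ext (by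
          show x⁻¹ * (c' * ι y) * x = x⁻¹ * c' * x * (x⁻¹ * ι y * x); group),
      map_mul, g.lamC_eq_one j ⟨_, hc1⟩ (mem_sup_right (mem_sup_left (by
        simpa [c'] using g.conj_C (S.inv_mem x.2) hc))), one_mul]
    rfl
  rw [Finset.sum_congr rfl fun y _ => hval y, ← Finset.mul_sum, Finset.sum_comm,
    Finset.sum_congr rfl (g := fun _ => (Nat.card (fittingHallOf S) : ℂ)) fun x _ => by
      rw [Finset.sum_sub_distrib, sum_char, if_neg (hθ x), Finset.sum_const, Finset.card_univ,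
        nsmul_eq_mul, mul_one, sub_zero, Nat.card_eq_fintype_card],
    Finset.sum_const, Finset.card_univ, nsmul_eq_mul, ← Nat.card_eq_fintype_card, g.card_S,
    ← g.card_baseIn, Nat.cast_mul, ← mul_assoc, mul_comm ((centU S U).relIndex U : ℂ), ← mul_assoc,
    inv_mul_cancel₀ g.natCard_baseCIn_ne, one_mul]

/-- Where `Γ` is not zero. -/
theorem gam_supp_derived (j : ↥(W₁ ⊔ W₂) →* ℂˣ) {x : ↥S} (hd : (x : G) ∈ ⁅S, S⁆)
    (h : g.gam j x ≠ 0) : (x : G) ∈ coreC S U ∧ x ≠ 1 ∧ (x : G) ∈ typeA S := by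
  have hx : (x : G) ∈ coreC S U := by
    by_contra hn
    exact h (g.gam_eq_zero j hd hn)
  have h1 : x ≠ 1 := fun e => h (by rw [e, g.gam_one])
  refine ⟨hx, h1, (mem_typeA_iff g.hG g.hS g.hP).2 ⟨hd, fun e => h1 (Subtype.ext e), ?_⟩⟩
  obtain ⟨y, hy, c, hc, e⟩ := g.exists_coreC hx
  obtain ⟨z, hz, hz1⟩ := CyclicTI.exists_mem_ne_one g.hP.selfNormalizing.2.1
  have hzH := W₂_le_H g.hP hz
  refine ⟨z, fittingHallOf_le_typeCore g.hP hzH, hz1, ?_⟩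
  rw [e]
  exact ((g.commute_H hy hzH).mul_left (g.commute_C hc hzH).symm).eq

theorem gam_supp (hj : j ∈ rightSet W₁ W₂) (x : ↥S) (hx : (x : G) ∉ typeA0 S) : g.gam j x = 0 := by
  by_contra h
  by_cases hd : (x : G) ∈ ⁅S, S⁆
  · exact hx (Or.inl (g.gam_supp_derived j hd h).2.2)
  obtain ⟨m, hm, hm2⟩ := exists_conj_W g.hG g.hP hd
  by_cases hm1 : ((m * x * m⁻¹ : ↥S) : G) ∈ W₁
  · refine h ?_
    rw [← g.classFun_gam j x m, g.gam_apply_W hj hm hm2, hj ⟨_, hm⟩ hm1, Units.val_one, sub_self]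
  · exact hx (mem_typeA0_of_conj g.hG g.hS g.hP (m := m) (x := (x : G)) hm hm1 hm2)

/-- For `C = 1` the sums of `Γ` over the centralisers in `S_σ` vanish. -/
theorem cosetSumZero_gam (j : ↥(W₁ ⊔ W₂) →* ℂˣ) (hC : centU S U = ⊥) :
    CosetSumZero S (g.gam j) := by
  intro a ha hns _
  refine finsum_mem_eq_zero_of_forall_eq_zero fun r hr => ?_
  by_contra h
  have hA := ha
  rw [mem_typeA_iff g.hG g.hS g.hP] at hA
  have hrS : r ∈ S := Sigma.sigmaCore_le S (mem_inf.mp hr).1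
  have haS : a ∈ S := commutator_le_self S hA.1
  rw [extendByZero_of_mem S (g.gam j) (mul_mem haS hrS)] at h
  have hd : a * r ∈ ⁅S, S⁆ :=
    mul_mem hA.1 (Sigma.sigmaCore_le_commutator g.hG g.hS (mem_inf.mp hr).1)
  have hmem := (g.gam_supp_derived j (x := ⟨a * r, mul_mem haS hrS⟩) hd h).1
  rw [coreC, hC, sup_bot_eq] at hmem
  have hcore : a * r ∈ sigmaCore S :=
    (Types.typeCore_eq g.hG g.hS) ▸ fittingHallOf_le_typeCore g.hP hmem
  exact hns (by simpa using mul_mem hcore (inv_mem (mem_inf.mp hr).1))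

/-- `X = τ (Γ j)`. -/
noncomputable def tauGam (j : ↥(W₁ ⊔ W₂) →* ℂˣ) : G → ℂ := tau S (g.gam j)

theorem isGen_tauGam (hj : j ∈ rightSet W₁ W₂) : IsGeneralizedCharacter G (g.tauGam j) :=
  Dade.isGen (dadeHyp g.hG g.hS) (g.isGen_gam j) (g.gam_supp hj)

theorem inner_tauGam_self (hj : j ∈ rightSet W₁ W₂) (hj1 : j ≠ 1) :
    classInner (g.tauGam j) (g.tauGam j) =
      2 + (((centU S U).relIndex U : ℂ) - 1) / (Nat.card W₁ : ℂ) := by
  rw [tauGam, inner_tau g.hG g.hS (g.classFun_gam j) (g.gam_supp hj) (g.classFun_gam j)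
    (g.gam_supp hj), g.inner_gam_self hj hj1]

theorem inner_tauGam_one (hj : j ∈ rightSet W₁ W₂) (hj1 : j ≠ 1) :
    classInner (g.tauGam j) (fun _ => 1) = 1 := by
  rw [tauGam, inner_tau_one g.hG g.hS (g.classFun_gam j) (g.gam_supp hj), g.inner_gam_one hj hj1]

theorem tauGam_apply_W (hj : j ∈ rightSet W₁ W₂) (w : ↥(W₁ ⊔ W₂)) (h1 : (w : G) ∉ W₁)
    (h2 : (w : G) ∉ W₂) : g.tauGam j w = 1 - (j w : ℂ) := by
  rw [tauGam, tau_apply_W g.hG g.hS g.hP (g.classFun_gam j) w h1 h2, g.gam_apply_W hj w.2 h2]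

theorem conj_gam (hj : j ∈ rightSet W₁ W₂) (hj1 : j ≠ 1) :
    Cfsg.conjFun (g.gam j) = g.gam j⁻¹ := by
  have hc : ∀ φ : ↥(baseCIn S W₁ U) →* ℂˣ, Cfsg.conjFun (indN φ) = indN φ⁻¹ := fun φ => by
    funext x
    simp only [Cfsg.conjFun, indN, indFun, map_mul, map_inv₀, map_natCast, map_sum]
    refine congrArg _ (Finset.sum_congr rfl fun z _ => ?_)
    by_cases hz : z⁻¹ * x * z ∈ baseCIn S W₁ U
    · rw [extendByZero_of_mem _ _ hz, extendByZero_of_mem _ _ hz, conj_unit]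
      rfl
    · rw [extendByZero_of_notMem _ _ hz, extendByZero_of_notMem _ _ hz, map_zero]
  have hl : (g.lamC j)⁻¹ = g.lamC j⁻¹ := MonoidHom.ext fun n => by
    obtain ⟨a, k, hk, e⟩ := g.exists_ker_mul (mem_subgroupOf.mp n.2)
    rw [MonoidHom.inv_apply, g.lamC_apply j n hk a e, g.lamC_apply j⁻¹ n hk a e]
    rfl
  rw [gam, conjFun_sub, muC, hc, hc, hl, show (1 : ↥(baseCIn S W₁ U) →* ℂˣ)⁻¹ = 1 from
    MonoidHom.ext fun _ => inv_one]
  rfl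

/-- `τ Γ j + η j` is real. -/
theorem tauGam_add_eta_real (hj : j ∈ rightSet W₁ W₂) (hj1 : j ≠ 1)
    {η : (↥(W₁ ⊔ W₂) →* ℂˣ) → G → ℂ} (hη : IsCyclicTIFamily W₁ W₂ η) :
    IsReal (g.tauGam j + η j) := by
  obtain ⟨μ, δ, hμ⟩ := mu g.hG S W₁ U W₂ g.hS g.hP
  have hji : j⁻¹ ∈ rightSet W₁ W₂ := fun w hw => by rw [MonoidHom.inv_apply, hj w hw, inv_one]
  have hji1 : j⁻¹ ≠ 1 := fun e => hj1 (MonoidHom.ext fun w => by
    simpa using DFunLike.congr_fun e w)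
  obtain ⟨e1, d1⟩ := g.mu_eq hj hj1 hμ
  obtain ⟨e2, d2⟩ := g.mu_eq hji hji1 hμ
  have hr := rowDiff g.hG S W₁ U W₂ g.hS g.hP η hη μ δ hμ 1 Tools.one_mem_leftSet j hj j⁻¹ hji hj1
    hji1 (d1.trans d2.symm) (by rw [e1, e2, g.muC_one, g.muC_one])
  have h1 : ∀ k : ↥(W₁ ⊔ W₂) →* ℂˣ, (1 : ↥(W₁ ⊔ W₂) →* ℂˣ) * k = k := fun k => one_mul k
  rw [h1, h1, e1, e2, d1, one_smul] at hr
  have hdiff : g.gam j⁻¹ - g.gam j = g.muC j - g.muC j⁻¹ := by simp [gam]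
  have htau : g.tauGam j⁻¹ - g.tauGam j = η j - η j⁻¹ := by
    rw [tauGam, tauGam, tau, ← dade_sub, hdiff]
    exact hr
  have h : Cfsg.conjFun (g.tauGam j + η j) = g.tauGam j + η j := by
    rw [conjFun_add, conjFun_family g.hP.selfNormalizing (odd_subgroup g.hG _) hη]
    rw [show Cfsg.conjFun (g.tauGam j) = g.tauGam j⁻¹ by
      rw [tauGam, tauGam, tau, ← dade_conjFun, g.conj_gam hj hj1]]
    rw [← sub_eq_zero, add_sub_add_comm, htau]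
    abel
  exact fun x => congrFun h x

end GHyp

end Cfsg.Agent.OddChar.TypeP.Tools
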