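import Cfsg.Agent.OddChar.TypeP.Tools.Budget
import Cfsg.Agent.OddChar.TypeP.ColumnImage
import Cfsg.Agent.OddChar.TypeP.CoreCoherence.Final

/-!
# A coherent extension on the characters of `M` non-trivial on `M_F`
-/

set_option autoImplicit false
set_option linter.unusedSectionVars false
set_option linter.style.haveILetI false

namespace Cfsg.Agent.OddChar.TypeP.Tools

open Cfsg Subgroup
open Cfsg.Agent.Characters Cfsg.Agent.OddChar.Signed Cfsg.Agent.OddChar.Isometry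

universe u

variable {G : Type u} [Group G] [Fintype G] {M W₁ U W₂ : Subgroup G}

theorem derivedIn_normal' (M : Subgroup G) : (derivedIn M).Normal :=
  (normal_subgroupOf_iff_le_normalizer (TypeP.commutator_le_self M)).2
    (OddLocal.Coprime.le_normalizer_commutator_self le_normalizer)

/-- The set `S(1)` lies in `calS M`. -/
theorem calSH_subset [Fintype M] (hP : IsTypePWith M W₁ U W₂) (X : Subgroup G) :
    calSH M X ⊆ calS M := fun φ hφ => by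
  haveI := derivedIn_normal' M
  refine ⟨Coherence.above_mono (derivedIn M) bot_le hφ.1, fun h => hφ.2 ?_⟩
  refine Coherence.above_mono (derivedIn M) ?_ h
  exact fun x hx => fittingHallOf_le_typeCore hP hx

theorem calSH_conj [Fintype M] (X : Subgroup G) {φ : ↥M → ℂ} (h : φ ∈ calSH M X) :
    Cfsg.conjFun φ ∈ calSH M X := by
  haveI := derivedIn_normal' M
  refine ⟨Coherence.above_conj (derivedIn M) _ h.1, fun h' => h.2 ?_⟩
  have := Coherence.above_conj (derivedIn M) _ h'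
  rwa [Coherence.conjFun_conjFun] at this

/-- A coherent extension of `τ` on `S(1)`. -/
structure SCtx (M W₁ U W₂ : Subgroup G) [Fintype M] (τ₁ : (↥M → ℂ) → G → ℂ) : Prop where
  hG : IsMinSimpleOddOrder G
  hM : IsCoatom M
  hP : IsTypePWith M W₁ U W₂
  iso : IsLinearIsometryOn (zspan (calSH M ⊥)) τ₁
  agree : ∀ α ∈ zspanOn (calSH M ⊥) {1}ᶜ, τ₁ α = tau M α

/-- `S(1)` is coherent when `M_F` is the chief factor and `U` is abelian modulo it. -/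
theorem exists_sctx [Fintype M] (hG : IsMinSimpleOddOrder G) (hM : IsCoatom M)
    (hP : IsTypePWith M W₁ U W₂) (hq : (Nat.card W₁).Prime) {H₀ C : Subgroup G} {r : ℕ}
    (d : ChiefData M W₁ U W₂ H₀ C r) (hH₀ : H₀ = ⊥) (hC : ⁅C, C⁆ = ⊥) :
    ∃ τ₁, SCtx M W₁ U W₂ τ₁ := by
  obtain ⟨-, τ₁, h1, h2⟩ := CoreCoherence.coreCoherence_proof hG M W₁ U W₂ H₀ C r hM hP hq d
  rw [hH₀, hC, sup_idem] at h1 h2
  exact ⟨τ₁, hG, hM, hP, h1, h2⟩

namespace SCtx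

variable [Fintype M] {τ₁ : (↥M → ℂ) → G → ℂ}

theorem mem_calS (c : SCtx M W₁ U W₂ τ₁) {φ : ↥M → ℂ} (h : φ ∈ calSH M ⊥) : φ ∈ calS M :=
  calSH_subset c.hP ⊥ h

theorem zspan_le (c : SCtx M W₁ U W₂ τ₁) {α : ↥M → ℂ} (h : α ∈ zspan (calSH M ⊥)) :
    α ∈ zspan (calS M) :=
  Submodule.span_mono (calSH_subset c.hP ⊥) h

theorem zspanOn_le (c : SCtx M W₁ U W₂ τ₁) {α : ↥M → ℂ} (h : α ∈ zspanOn (calSH M ⊥) {1}ᶜ) :
    α ∈ zspanOn (calS M) {1}ᶜ :=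
  ⟨c.zspan_le h.1, h.2⟩

theorem sirr (c : SCtx M W₁ U W₂ τ₁) {ψ : ↥M → ℂ} (hψ : ψ ∈ calSH M ⊥)
    (hi : IsIrrCharacter M ψ) : IsSIrr (τ₁ ψ) := by
  refine isSIrr_of_norm_one (c.iso.2.2.2 _ (mem_zS hψ)) ?_
  rw [c.iso.2.2.1 _ (mem_zS hψ) _ (mem_zS hψ), classInner_isIrr_self hi]

theorem conj_orth (c : SCtx M W₁ U W₂ τ₁) {ψ : ↥M → ℂ} (hψ : ψ ∈ calSH M ⊥) :
    classInner (Cfsg.conjFun ψ) ψ = 0 := by
  haveI := derivedIn_normal' M
  exact SibleyPrime.conj_orth M _ (c.hG.1.of_dvd_nat (card_subgroup_dvd_card M))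
    (c.mem_calS hψ).1

theorem conj_one (c : SCtx M W₁ U W₂ τ₁) {φ : ↥M → ℂ} (hφ : φ ∈ calSH M ⊥) :
    Cfsg.conjFun φ 1 = φ 1 := by
  obtain ⟨θ, hθ, -, -, rfl⟩ := hφ.1
  obtain ⟨k, -, hk⟩ := irr_one_pos hθ
  show starRingEnd ℂ _ = _
  rw [indFun_one, hk, map_mul, Complex.conj_natCast, Complex.conj_natCast]

theorem image_sub_conj (c : SCtx M W₁ U W₂ τ₁) {ψ : ↥M → ℂ} (hψ : ψ ∈ calSH M ⊥) :
    τ₁ ψ - τ₁ (Cfsg.conjFun ψ) = tau M (ψ - Cfsg.conjFun ψ) := by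
  have hm := calSH_conj ⊥ hψ
  rw [← c.agree _ ?_, map_sub' (M := zS (calSH M ⊥)) c.iso (mem_zS hψ) (mem_zS hm)]
  refine mem_zspanOn_compl_one (Submodule.sub_mem _ (mem_zS hψ) (mem_zS hm)) ?_
  rw [Pi.sub_apply, c.conj_one hψ, sub_self]

/-- `τ₁` commutes with conjugation on irreducible members. -/
theorem conj_image (c : SCtx M W₁ U W₂ τ₁) {ψ : ↥M → ℂ} (hψ : ψ ∈ calSH M ⊥)
    (hi : IsIrrCharacter M ψ) : Cfsg.conjFun (τ₁ ψ) = τ₁ (Cfsg.conjFun ψ) := by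
  have hm := calSH_conj ⊥ hψ
  refine conjFun_eq_of_sub (c.sirr hψ hi) (c.sirr hm (isIrrCharacter_conj hi)) ?_ ?_
  · rw [c.iso.2.2.1 _ (mem_zS hψ) _ (mem_zS hm)]
    exact Coherence.inner_comm_zero (c.conj_orth hψ)
  · have h2 : τ₁ (Cfsg.conjFun ψ) - τ₁ ψ = tau M (Cfsg.conjFun ψ - ψ) := by
      rw [← neg_sub (τ₁ ψ), c.image_sub_conj hψ, tau_sub, tau_sub]
      abel
    rw [h2, c.image_sub_conj hψ]
    show Cfsg.conjFun (dadeIsometry _ _ _ _) = dadeIsometry _ _ _ _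
    rw [← dade_conjFun]
    congr 1
    funext x
    simp [Cfsg.conjFun]

theorem image_orth_conj (c : SCtx M W₁ U W₂ τ₁) {ψ : ↥M → ℂ} (hψ : ψ ∈ calSH M ⊥)
    (hi : IsIrrCharacter M ψ) : classInner (τ₁ ψ) (Cfsg.conjFun (τ₁ ψ)) = 0 := by
  rw [c.conj_image hψ hi, c.iso.2.2.1 _ (mem_zS hψ) _ (mem_zS (calSH_conj ⊥ hψ))]
  exact Coherence.inner_comm_zero (c.conj_orth hψ)

theorem diff_conj_mem (c : SCtx M W₁ U W₂ τ₁) {ψ : ↥M → ℂ} (hψ : ψ ∈ calSH M ⊥) :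
    ψ - Cfsg.conjFun ψ ∈ zspanOn (calS M) {1}ᶜ :=
  c.zspanOn_le (mem_zspanOn_compl_one
    (Submodule.sub_mem _ (mem_zS hψ) (mem_zS (calSH_conj ⊥ hψ)))
    (by rw [Pi.sub_apply, c.conj_one hψ, sub_self]))

/-- Irreducible members go to characters orthogonal to `η`. -/
theorem inner_eta (c : SCtx M W₁ U W₂ τ₁) {η : (↥(W₁ ⊔ W₂) →* ℂˣ) → G → ℂ}
    (hη : IsCyclicTIFamily W₁ W₂ η) {ψ : ↥M → ℂ} (hψ : ψ ∈ calSH M ⊥)
    (hi : IsIrrCharacter M ψ) (ω : ↥(W₁ ⊔ W₂) →* ℂˣ) : classInner (τ₁ ψ) (η ω) = 0 := by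
  obtain ⟨μ, δ, hμ⟩ := mu c.hG M W₁ U W₂ c.hM c.hP
  refine inner_family_eq_zero c.hP.selfNormalizing (odd_subgroup c.hG _) hη (c.sirr hψ hi)
    (c.image_orth_conj hψ hi) (fun w h1 h2 => ?_) ω
  have h := congrFun (c.image_sub_conj hψ) (w : G)
  rw [tau_calS_vanish_V hμ c.hG c.hM c.hP (c.diff_conj_mem hψ) w h1 h2, Pi.sub_apply,
    sub_eq_zero] at h
  rw [h, c.conj_image hψ hi]

/-- Irreducible members go to characters orthogonal to the coherent family of a type I subgroup. -/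
theorem inner_famI (c : SCtx M W₁ U W₂ τ₁) {L : Subgroup G} [Fintype L]
    {τL : (↥L → ℂ) → G → ℂ} {lam : ↥L → ℂ} (cL : LCtx L τL lam) {φ : ↥L → ℂ} (hφ : φ ∈ famI L)
    {ψ : ↥M → ℂ} (hψ : ψ ∈ calSH M ⊥) (hi : IsIrrCharacter M ψ) :
    classInner (τL φ) (τ₁ ψ) = 0 := by
  refine inner_eq_zero_of_diff (cL.sirr hφ) (c.sirr hψ hi) (cL.image_orth_conj hφ)
    (c.image_orth_conj hψ hi) ?_
  rw [c.conj_image hψ hi, cL.conj_image hφ, c.image_sub_conj hψ, cL.image_sub_conj hφ, tauI]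
  have hmem : φ - Cfsg.conjFun φ ∈ zspanOn (famI L) {1}ᶜ := by
    refine mem_zspanOn_compl_one (Submodule.sub_mem _ (mem_zS hφ) (mem_zS (cL.conj_mem hφ))) ?_
    rw [Pi.sub_apply, (degree_famI hφ).2, (degree_famI (cL.conj_mem hφ)).2, cL.wI_conj, sub_self]
  exact inner_tau_IP cL.hG cL.hL cL.hκ c.hM c.hP (isGen_isClassFunction (isGen_famI hmem.1))
    (cL.supp hmem) (isClassFunction_of_mem_calS (c.diff_conj_mem hψ).1)
    (cosetSumZero_calS c.hG c.hM c.hP (c.diff_conj_mem hψ).1)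

/-- The columns are members. -/
theorem col_mem (c : SCtx M W₁ U W₂ τ₁) {μ : (↥(W₁ ⊔ W₂) →* ℂˣ) → ↥M → ℂ}
    {δ : (↥(W₁ ⊔ W₂) →* ℂˣ) → ℂ} (hμ : MuData M W₁ W₂ μ δ) {j : ↥(W₁ ⊔ W₂) →* ℂˣ}
    (hj : j ∈ rightSet W₁ W₂) (hj1 : j ≠ 1) : colSum μ j ∈ calSH M ⊥ := by
  haveI := derivedIn_normal' M
  have h := hμ.col_mem c.hG c.hP hj hj1
  refine ⟨?_, fun hab => ?_⟩
  · rw [bot_subgroupOf]; exact h.1
  · have hnl : j ∉ leftSet W₁ W₂ := fun hl => hj1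
      (((CyclicTI.split_of c.hP.selfNormalizing).mul_inj hl one_mem_leftSet one_mem_rightSet hj
        ((mul_one j).trans (one_mul j).symm)).1)
    obtain ⟨n, hn, hne⟩ := hμ.exists_ne_apply_one c.hP hnl
    have hnH : (n : G) ∈ fittingHallOf M := (mem_inf.mp (c.hP.W₂_le hn)).1
    have hd : (n : G) ∈ ⁅M, M⁆ := W₂_le_derived c.hP hn
    obtain ⟨θ, hθ, -, hker, e⟩ := hab
    have hHM : ∀ x : M, (⟨(x * n * x⁻¹ : M), (derivedIn_normal' M).conj_mem n hd x⟩ :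
        derivedIn M) ∈ ((fittingHallOf M).subgroupOf M).subgroupOf (derivedIn M) := fun x => by
      show ((x * n * x⁻¹ : M) : G) ∈ fittingHallOf M
      obtain ⟨y, hy, ey⟩ := hnH
      exact ⟨x * y * x⁻¹, (inferInstance : (fittingHall ↥M).Normal).conj_mem y hy x,
        by simp [← ey]⟩
    have h1 := congrFun e n
    rw [hμ.col_apply_derived c.hG c.hP j hd] at h1
    have h2 := congrFun e 1
    rw [hμ.col_apply_derived c.hG c.hP j (x := (1 : M)) (one_mem _)] at h2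
    have h3 : indFun (derivedIn M) θ n = indFun (derivedIn M) θ 1 := by
      simp only [Cfsg.indFun]
      refine congrArg _ (Finset.sum_congr rfl fun x _ => ?_)
      have hx : x⁻¹ * n * x ∈ derivedIn M := by
        simpa using (derivedIn_normal' M).conj_mem n hd x⁻¹
      have h1' : x⁻¹ * 1 * x ∈ derivedIn M := by simp
      rw [CharTheory.IndBasic.extendByZero_of_mem _ _ hx,
        CharTheory.IndBasic.extendByZero_of_mem _ _ h1']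
      have := hHM x⁻¹
      simp only [inv_inv] at this
      rw [hker ⟨_, hx⟩ this]
      congr 1
      exact Subtype.ext (by simp)
    rw [h3, ← h2] at h1
    exact hne (mul_left_cancel₀ (Nat.cast_ne_zero.2 Nat.card_pos.ne') h1)

/-- With an irreducible member the columns go to signed columns of `η`. -/
theorem col_image (c : SCtx M W₁ U W₂ τ₁) {η : (↥(W₁ ⊔ W₂) →* ℂˣ) → G → ℂ}
    (hη : IsCyclicTIFamily W₁ W₂ η) {μ : (↥(W₁ ⊔ W₂) →* ℂˣ) → ↥M → ℂ}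
    {δ : (↥(W₁ ⊔ W₂) →* ℂˣ) → ℂ} (hμ : MuData M W₁ W₂ μ δ) {j : ↥(W₁ ⊔ W₂) →* ℂˣ}
    (hj : j ∈ rightSet W₁ W₂) (hj1 : j ≠ 1) {ψ : ↥M → ℂ} (hψ : ψ ∈ calSH M ⊥)
    (hi : IsIrrCharacter M ψ) :
    ∃ (ε : ℤ) (k : ↥(W₁ ⊔ W₂) →* ℂˣ), (ε = 1 ∨ ε = -1) ∧ k ∈ rightSet W₁ W₂ ∧ k ≠ 1 ∧
      τ₁ (colSum μ j) = (ε : ℂ) • colSum η k := by
  have hni : ∀ k ∈ rightSet W₁ W₂, ψ ≠ colSum μ k := fun k hk e =>
    hμ.col_not_irr c.hG c.hP hk (e ▸ hi)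
  have hsub : calSH M ⊥ ⊆ calS M := calSH_subset c.hP ⊥
  have hj' : j⁻¹ ≠ 1 := fun e => hj1 (MonoidHom.ext fun w => by
    simpa using DFunLike.congr_fun e w)
  rcases hμ.sign j with hs | hs <;>
    rcases columnImage c.hG M W₁ U W₂ c.hM c.hP η hη μ δ hμ (calSH M ⊥) hsub
      (fun _ h => calSH_conj ⊥ h) τ₁ c.iso c.agree j hj hj1 (c.col_mem hμ hj hj1)
      ⟨ψ, hψ, hni j hj, fun e => hni j⁻¹ (inv_mem_rightSet hj) (e.trans (hμ.conj_col c.hG c.hP j))⟩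
      with h | h <;> rw [h, hs]
  · exact ⟨1, j, Or.inl rfl, hj, hj1, by simp⟩
  · exact ⟨-1, j⁻¹, Or.inr rfl, inv_mem_rightSet hj, hj', by simp⟩
  · exact ⟨-1, j, Or.inr rfl, hj, hj1, by simp⟩
  · exact ⟨1, j⁻¹, Or.inl rfl, inv_mem_rightSet hj, hj', by simp⟩

end SCtx

end Cfsg.Agent.OddChar.TypeP.Tools
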