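import Cfsg.Agent.OddChar.TypeP.Tools.GammaInd
import Cfsg.Agent.OddLocal.Transitivity

/-!
# The irreducible character `μ j = Ind λ j` and the norm of `Γ j = Ind 1 - μ j`
-/

set_option autoImplicit false
set_option linter.unusedSectionVars false
set_option linter.style.haveILetI false

namespace Cfsg.Agent.OddChar.TypeP.Tools

open Cfsg Subgroup
open Cfsg.Agent.OddLocal Cfsg.Agent.Characters
open Cfsg.Agent.Transfer.Fusion (map_conj_eq_self_iff)
open scoped ComplexConjugate commutatorElement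

universe u

variable {G : Type u} [Group G] [Finite G] {S W₁ U W₂ : Subgroup G}

namespace GHyp

variable (g : GHyp S W₁ U W₂)
include g

/-- `Ind λ j`, which is `μ j` (see `mu_eq`). -/
noncomputable def muC [Fintype S] (j : ↥(W₁ ⊔ W₂) →* ℂˣ) : ↥S → ℂ := indN (g.lamC j)

/-- `Γ j`. -/
noncomputable def gam [Fintype S] (j : ↥(W₁ ⊔ W₂) →* ℂˣ) : ↥S → ℂ :=
  indN (1 : ↥(baseCIn S W₁ U) →* ℂˣ) - g.muC j

variable {j : ↥(W₁ ⊔ W₂) →* ℂˣ}

theorem exists_ne (hj : j ∈ rightSet W₁ W₂) (hj1 : j ≠ 1) :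
    ∃ b : W₂, j (inclusion le_sup_right b) ≠ 1 := by
  by_contra hn
  push Not at hn
  refine hj1 (MonoidHom.ext fun w => ?_)
  obtain ⟨a, b, ha, hb, rfl⟩ := (CyclicTI.split_of g.hP.selfNormalizing).exists_mul w
  rw [map_mul, hj a ha, one_mul, MonoidHom.one_apply]
  exact hn ⟨b, hb⟩

theorem W₂_le_coreC : W₂ ≤ coreC S U := (W₂_le_H g.hP).trans le_sup_left

/-- An element of `W₂` as an element of `S_F C` in `S`. -/
def inW₂ (b : W₂) : ↥(coreCIn S U) :=
  ⟨⟨b, g.coreC_le_S (g.W₂_le_coreC b.2)⟩, mem_subgroupOf.mpr (g.W₂_le_coreC b.2)⟩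

theorem lamC_inW₂ (j : ↥(W₁ ⊔ W₂) →* ℂˣ) (b : W₂) :
    g.lamC j (inclusion coreCIn_le_baseCIn (g.inW₂ b)) = j (inclusion le_sup_right b) :=
  g.lamC_W₂ j _ b.2

theorem lamC_ne_one (hj : j ∈ rightSet W₁ W₂) (hj1 : j ≠ 1) : g.lamC j ≠ 1 := fun e => by
  obtain ⟨b, hb⟩ := g.exists_ne hj hj1
  exact hb ((g.lamC_inW₂ j b).symm.trans (DFunLike.congr_fun e _))

theorem twist_one_lam (hj : j ∈ rightSet W₁ W₂) (hj1 : j ≠ 1) (x : ↥S) :
    g.twist 1 (g.lamC j) x ≠ 1 := fun e => by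
  obtain ⟨b, hb⟩ := g.exists_ne hj hj1
  set k := g.inW₂ b
  have hk : x * k * x⁻¹ ∈ coreCIn S U := by
    simpa using g.conj_coreIn (x := x⁻¹) k.2
  have h := DFunLike.congr_fun e ⟨_, hk⟩
  refine hb ?_
  rw [← g.lamC_inW₂ j b]
  have h' : (g.lamC j ⟨x⁻¹ * (x * k * x⁻¹) * x, coreCIn_le_baseCIn (g.conj_coreIn hk)⟩)⁻¹ = 1 := by
    have h0 := h
    simp only [twist, MonoidHom.mk'_apply, MonoidHom.one_apply, one_mul] at h0
    exact h0
  rw [inv_eq_one] at h'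
  refine Eq.trans (congrArg _ (Subtype.ext ?_)) h'
  show (k : ↥S) = x⁻¹ * (x * k * x⁻¹) * x
  group

theorem twist_eq_one_of_mem (φ : ↥(baseCIn S W₁ U) →* ℂˣ) {x : ↥S} (hx : x ∈ baseCIn S W₁ U) :
    g.twist φ φ x = 1 := MonoidHom.ext fun k => by
  have : (⟨x⁻¹ * k * x, coreCIn_le_baseCIn (g.conj_coreIn k.2)⟩ : ↥(baseCIn S W₁ U)) =
      ⟨x, hx⟩⁻¹ * inclusion coreCIn_le_baseCIn k * ⟨x, hx⟩ := Subtype.ext rfl
  show φ _ * (φ _)⁻¹ = 1
  rw [this, map_mul, map_mul, map_inv, mul_comm (φ ⟨x, hx⟩)⁻¹, inv_mul_cancel_right, mul_inv_cancel]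

/-- The stabiliser of `λ j` on `S_F C` is `N`. -/
theorem mem_base_of_twist (hj : j ∈ rightSet W₁ W₂) (hj1 : j ≠ 1) {x : ↥S}
    (hx : g.twist (g.lamC j) (g.lamC j) x = 1) : x ∈ baseCIn S W₁ U := by
  set L := g.lamC j with hL
  have heq : ∀ {y : ↥S}, g.twist L L y = 1 → ∀ k (hk : k ∈ coreCIn S U),
      L ⟨y⁻¹ * k * y, coreCIn_le_baseCIn (g.conj_coreIn hk)⟩ = L ⟨k, coreCIn_le_baseCIn hk⟩ :=
    fun {y} hy k hk => (mul_inv_eq_one.mp (DFunLike.congr_fun hy ⟨k, hk⟩)).symm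
  have hof : ∀ {y : ↥S}, (∀ k (hk : k ∈ coreCIn S U),
      L ⟨y⁻¹ * k * y, coreCIn_le_baseCIn (g.conj_coreIn hk)⟩ = L ⟨k, coreCIn_le_baseCIn hk⟩) →
      g.twist L L y = 1 := fun {y} hy => MonoidHom.ext fun k => by
    show L _ * (L _)⁻¹ = 1
    rw [hy k k.2]
    exact mul_inv_cancel _
  let St : Subgroup ↥S :=
    { carrier := {y | g.twist L L y = 1}
      one_mem' := g.twist_eq_one_of_mem L (one_mem _)
      mul_mem' := fun {a b} ha hb => hof fun k hk => by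
        refine Eq.trans (congrArg L (Subtype.ext ?_))
          ((heq hb (a⁻¹ * k * a) (g.conj_coreIn hk)).trans (heq ha k hk))
        show (a * b)⁻¹ * k * (a * b) = b⁻¹ * (a⁻¹ * k * a) * b
        group
      inv_mem' := fun {a} ha => hof fun k hk => by
        refine Eq.trans (heq ha (a⁻¹⁻¹ * k * a⁻¹) (g.conj_coreIn hk)).symm
          (congrArg L (Subtype.ext ?_))
        show a⁻¹ * (a⁻¹⁻¹ * k * a⁻¹) * a = k
        group }
  have hle : baseCIn S W₁ U ≤ St := fun y hy => g.twist_eq_one_of_mem L hy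
  have hbase : baseC S W₁ U ≤ St.map S.subtype := fun y hy =>
    ⟨⟨y, g.baseC_le_S hy⟩, hle (mem_subgroupOf.mpr hy), rfl⟩
  set D : Subgroup G := St.map S.subtype ⊓ U with hD
  obtain ⟨d, hd, v, hv, hxe⟩ := g.hP.W₁_compl.2.2.2 (x : G) x.2
  obtain ⟨y, hy, u, hu, rfl⟩ := g.hP.U_compl.2.2.2 d hd
  have hxS : (x : G) ∈ St.map S.subtype := ⟨x, hx, rfl⟩
  have hyS : y ∈ St.map S.subtype := hbase (mem_sup_left (mem_sup_left hy))
  have hvS : v ∈ St.map S.subtype := hbase (mem_sup_right hv)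
  have huD : u ∈ D := mem_inf.mpr ⟨by
    rw [show u = y⁻¹ * (x : G) * v⁻¹ by rw [hxe]; group]
    exact mul_mem (mul_mem (inv_mem hyS) hxS) (inv_mem hvS), hu⟩
  suffices hDC : D ≤ centU S U by
    rw [mem_subgroupOf, hxe]
    exact mul_mem (mul_mem (mem_sup_left (mem_sup_left hy))
      (mem_sup_left (mem_sup_right (hDC huD)))) (mem_sup_right hv)
  set R := ⁅fittingHallOf S, D⁆ with hR
  have hDS : D ≤ S := inf_le_right.trans (U_le_M g.hP)
  have hRH : R ≤ fittingHallOf S :=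
    Coprime.commutator_le_of_le_normalizer (hDS.trans (M_le_normalizer_H S))
  have hRn : S ≤ normalizer (R : Set G) := by
    have key : ∀ z : G, z ∈ S → z ∈ normalizer (D : Set G) → z ∈ normalizer (R : Set G) := by
      intro z hzS hzD
      rw [← map_conj_eq_self_iff, hR, map_commutator,
        map_conj_eq_self_iff.mpr (M_le_normalizer_H S hzS), map_conj_eq_self_iff.mpr hzD]
    refine M_le_of_parts g.hP ?_ ?_ ?_
    · refine fun z hz => mem_normalizer_fintype fun r hr => ?_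
      rwa [(g.commute_H hz (hRH hr)).eq, mul_inv_cancel_right]
    · refine fun z hz => key z (U_le_M g.hP hz) (mem_normalizer_fintype fun d hd => ?_)
      rwa [(g.commute_U hz (mem_inf.mp hd).2).eq, mul_inv_cancel_right]
    · refine fun z hz => key z (W₁_le_M g.hP hz) (mem_normalizer_fintype fun d hd => ?_)
      have hzS : z ∈ St.map S.subtype := hbase (mem_sup_right hz)
      exact mem_inf.mpr ⟨mul_mem (mul_mem hzS (mem_inf.mp hd).1) (inv_mem hzS),
        (mem_normalizer_iff.mp (g.hP.U_normal hz) d).mp (mem_inf.mp hd).2⟩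
  rcases g.minimal hRH hRn with e | e
  · exact fun d hd => mem_inf.mpr ⟨(mem_inf.mp hd).2,
      Coprime.commutator_eq_bot_iff_le_centralizer'.mp e hd⟩
  exfalso
  obtain ⟨b, hb⟩ := g.exists_ne hj hj1
  have hker : R ≤ ((L.ker).map (baseCIn S W₁ U).subtype).map S.subtype := by
    refine commutator_le.mpr fun z hz d hd => ?_
    obtain ⟨⟨d', hd', hde⟩, hdU⟩ := mem_inf.mp hd
    set k : ↥S := ⟨z, H_le_M S hz⟩ with hk
    have hkc : k ∈ coreCIn S U := mem_subgroupOf.mpr (mem_sup_left hz)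
    have hk' : d' * k⁻¹ * d'⁻¹ ∈ coreCIn S U := by
      simpa using g.conj_coreIn (x := d'⁻¹) (inv_mem hkc)
    refine ⟨k * (d' * k⁻¹ * d'⁻¹), ⟨⟨_, coreCIn_le_baseCIn (mul_mem hkc hk')⟩, ?_, rfl⟩, ?_⟩
    · have h1 := heq hd' _ hk'
      rw [SetLike.mem_coe, MonoidHom.mem_ker,
        show (⟨k * (d' * k⁻¹ * d'⁻¹), coreCIn_le_baseCIn (mul_mem hkc hk')⟩ : ↥(baseCIn S W₁ U)) =
          ⟨k, coreCIn_le_baseCIn hkc⟩ * ⟨_, coreCIn_le_baseCIn hk'⟩ from rfl, map_mul, ← h1,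
        ← map_mul]
      refine Eq.trans (congrArg L (Subtype.ext ?_)) (map_one L)
      show k * (d'⁻¹ * (d' * k⁻¹ * d'⁻¹) * d') = 1
      group
    · subst hde
      simp [hk, commutatorElement_def, mul_assoc]
  obtain ⟨_, ⟨n, hn, rfl⟩, hne⟩ := hker (e.ge (W₂_le_H g.hP b.2))
  refine hb ((g.lamC_inW₂ j b).symm.trans (Eq.trans (congrArg L (Subtype.ext (Subtype.ext ?_))) hn))
  exact hne.symm

variable [Fintype S]

theorem natCard_baseCIn_ne : (Nat.card ↥(baseCIn S W₁ U) : ℂ) ≠ 0 :=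
  Nat.cast_ne_zero.2 Nat.card_pos.ne'

theorem inner_muC_self (hj : j ∈ rightSet W₁ W₂) (hj1 : j ≠ 1) :
    classInner (g.muC j) (g.muC j) = 1 := by
  classical
  have h := g.inner_ind (g.lamC j) (g.lamC j)
  have hc : Nat.card {x : ↥S // g.twist (g.lamC j) (g.lamC j) x = 1} = Nat.card ↥(baseCIn S W₁ U) :=
    Nat.card_congr (Equiv.subtypeEquivRight fun x =>
      ⟨g.mem_base_of_twist hj hj1, g.twist_eq_one_of_mem _⟩)
  rw [if_pos rfl, if_pos (g.twist_eq_one_of_mem _ (one_mem _)), hc] at h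
  refine mul_left_cancel₀ g.natCard_baseCIn_ne ?_
  rw [muC, h]
  field_simp [g.natCard_baseCIn_ne]
  ring

theorem isIrr_muC (hj : j ∈ rightSet W₁ W₂) (hj1 : j ≠ 1) : IsIrrCharacter ↥S (g.muC j) :=
  isIrr_of_isCharacter_of_norm_one (isCharacter_indFun _ (isCharacter_linear _))
    (g.inner_muC_self hj hj1)

theorem inner_one_muC (hj : j ∈ rightSet W₁ W₂) (hj1 : j ≠ 1) :
    classInner (indN (1 : ↥(baseCIn S W₁ U) →* ℂˣ)) (g.muC j) = 0 := by
  classical
  have h := g.inner_ind 1 (g.lamC j)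
  haveI : IsEmpty {x : ↥S // g.twist 1 (g.lamC j) x = 1} :=
    ⟨fun x => g.twist_one_lam hj hj1 x x.2⟩
  rw [if_neg (Ne.symm (g.lamC_ne_one hj hj1)), if_neg (g.twist_one_lam hj hj1 1),
    Nat.card_of_isEmpty (α := {x : ↥S // g.twist 1 (g.lamC j) x = 1})] at h
  refine mul_left_cancel₀ g.natCard_baseCIn_ne ?_
  rw [muC, h]
  simp

theorem inner_one_self :
    classInner (indN (1 : ↥(baseCIn S W₁ U) →* ℂˣ)) (indN (1 : ↥(baseCIn S W₁ U) →* ℂˣ)) =
      1 + (((centU S U).relIndex U : ℂ) - 1) / (Nat.card W₁ : ℂ) := by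
  classical
  have h := g.inner_ind 1 1
  have h1 : ∀ x, g.twist 1 1 x = 1 := fun x => MonoidHom.ext fun k => by simp [twist]
  have hc : Nat.card {x : ↥S // g.twist 1 1 x = 1} =
      (centU S U).relIndex U * Nat.card ↥(baseCIn S W₁ U) := by
    rw [Nat.card_congr (Equiv.subtypeUnivEquiv h1), g.card_baseIn, ← g.card_S]
  rw [if_pos rfl, if_pos (h1 1), hc, ← g.card_coreIn] at h
  have hK : (Nat.card ↥(coreCIn S U) : ℂ) ≠ 0 := Nat.cast_ne_zero.2 Nat.card_pos.ne'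
  have hq : (Nat.card W₁ : ℂ) ≠ 0 := Nat.cast_ne_zero.2 Nat.card_pos.ne'
  push_cast at h
  refine mul_left_cancel₀ (mul_ne_zero hK hq) (h.trans ?_)
  field_simp
  ring

theorem inner_gam_self (hj : j ∈ rightSet W₁ W₂) (hj1 : j ≠ 1) :
    classInner (g.gam j) (g.gam j) =
      2 + (((centU S U).relIndex U : ℂ) - 1) / (Nat.card W₁ : ℂ) := by
  rw [gam, classInner_sub_left, classInner_sub_right, classInner_sub_right, g.inner_one_self,
    g.inner_one_muC hj hj1, classInner_conj_symm (indN 1) (g.muC j), g.inner_one_muC hj hj1,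
    map_zero, g.inner_muC_self hj hj1]
  ring

theorem muC_one (j : ↥(W₁ ⊔ W₂) →* ℂˣ) : g.muC j 1 = ((centU S U).relIndex U : ℂ) := by
  rw [muC, indN, indFun_one, g.index_baseIn, map_one, Units.val_one, mul_one]

theorem gam_one (j : ↥(W₁ ⊔ W₂) →* ℂˣ) : g.gam j 1 = 0 := by
  rw [gam, Pi.sub_apply, g.muC_one, indN, indFun_one, g.index_baseIn, map_one, Units.val_one,
    mul_one, sub_self]

theorem inner_gam_one (hj : j ∈ rightSet W₁ W₂) (hj1 : j ≠ 1) :
    classInner (g.gam j) (fun _ => 1) = 1 := by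
  haveI : Fintype ↥(baseCIn S W₁ U) := Fintype.ofFinite _
  rw [gam, classInner_sub_left, muC, indN, indN, frobenius_reciprocity _ _ (fun _ _ => rfl),
    frobenius_reciprocity _ _ (fun _ _ => rfl)]
  have e : (fun n : ↥(baseCIn S W₁ U) => (((1 : ↥(baseCIn S W₁ U) →* ℂˣ) n : ℂˣ) : ℂ)) = fun _ => 1 :=
    rfl
  rw [e, classInner_isIrr_self isIrrCharacter_one,
    classInner_isIrr_ne (isIrrCharacter_linear _) isIrrCharacter_one fun h =>
      g.lamC_ne_one hj hj1 (MonoidHom.ext fun n => Units.ext (congrFun h n)), sub_zero]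

theorem isGen_gam (j : ↥(W₁ ⊔ W₂) →* ℂˣ) : IsGeneralizedCharacter ↥S (g.gam j) :=
  isGen_sub (isGen_of_isCharacter (isCharacter_indFun _ (isCharacter_linear _)))
    (isGen_of_isCharacter (isCharacter_indFun _ (isCharacter_linear _)))

end GHyp

end Cfsg.Agent.OddChar.TypeP.Tools
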