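import Cfsg.Agent.OddChar.TypeP.Tools.GammaData
import Cfsg.Agent.OddChar.TypeP.Mu
import Cfsg.Agent.OddChar.Induce
import Cfsg.Agent.Lib.Characters.Induction
import Cfsg.Agent.Lib.Characters.Inner
import Cfsg.Agent.Lib.Characters.Kernel
import Mathlib.RingTheory.IntegralDomain

/-!
# Induction from `S_F C W₁` of linear characters
-/

set_option autoImplicit false
set_option linter.unusedSectionVars false
set_option linter.style.haveILetI false

namespace Cfsg.Agent.OddChar.TypeP.Tools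

open Cfsg Subgroup
open Cfsg.Agent.OddLocal Cfsg.Agent.Characters
open Cfsg.Agent.CharTheory.IndBasic (extendByZero_of_mem extendByZero_of_notMem)
open scoped ComplexConjugate

universe u

variable {G : Type u} [Group G] [Finite G] {S W₁ U W₂ : Subgroup G}

theorem sum_char {X : Type*} [Group X] [Fintype X] (θ : X →* ℂˣ) [Decidable (θ = 1)] :
    ∑ x, (θ x : ℂ) = if θ = 1 then (Nat.card X : ℂ) else 0 := by
  split_ifs with h
  · simp [h]
  · exact sum_hom_units_eq_zero ((Units.coeHom ℂ).comp θ) fun e => h (MonoidHom.ext fun x =>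
      Units.ext (DFunLike.congr_fun e x))

theorem conj_unit {X : Type*} [Group X] [Finite X] (θ : X →* ℂˣ) (x : X) :
    conj (θ x : ℂ) = ((θ x)⁻¹ : ℂˣ) := by
  rw [Units.val_inv_eq_inv_val, Complex.inv_eq_conj (linear_norm_eq_one θ x)]

/-- `N` as a subgroup of `S`. -/
abbrev baseCIn (S W₁ U : Subgroup G) : Subgroup ↥S := (baseC S W₁ U).subgroupOf S

/-- `S_F C` as a subgroup of `S`. -/
abbrev coreCIn (S U : Subgroup G) : Subgroup ↥S := (coreC S U).subgroupOf S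

theorem coreCIn_le_baseCIn : coreCIn S U ≤ baseCIn S W₁ U :=
  fun _ h => mem_subgroupOf.mpr (mem_sup_left (mem_subgroupOf.mp h))

/-- Induction from `N` to `S` of a linear character. -/
noncomputable def indN [Fintype S] (φ : ↥(baseCIn S W₁ U) →* ℂˣ) : ↥S → ℂ :=
  indFun (baseCIn S W₁ U) fun n => (φ n : ℂ)

namespace GHyp

variable (g : GHyp S W₁ U W₂)
include g

theorem conj_coreIn {x k : ↥S} (hk : k ∈ coreCIn S U) : x⁻¹ * k * x ∈ coreCIn S U := by
  rw [mem_subgroupOf] at hk ⊢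
  simpa using (mem_normalizer_iff.mp (g.le_normalizer_coreC (S.inv_mem x.2)) (k : G)).mp hk

variable [Fintype S]

theorem ind_out (φ : ↥(baseCIn S W₁ U) →* ℂˣ) (n : ↥(baseCIn S W₁ U))
    (hn : ((n : ↥S) : G) ∉ ⁅S, S⁆) : indN φ n = (φ n : ℂ) := by
  classical
  have key : ∀ x : ↥S, extendByZero (baseCIn S W₁ U) (fun n => (φ n : ℂ)) (x⁻¹ * n * x) =
      if x ∈ baseCIn S W₁ U then (φ n : ℂ) else 0 := fun x => by
    split_ifs with hx
    · have hm : x⁻¹ * (n : ↥S) * x ∈ baseCIn S W₁ U := mul_mem (mul_mem (inv_mem hx) n.2) hx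
      rw [extendByZero_of_mem _ _ hm]
      have : (⟨_, hm⟩ : ↥(baseCIn S W₁ U)) = (⟨x, hx⟩⁻¹ * n * ⟨x, hx⟩) := Subtype.ext rfl
      rw [this, map_mul, map_mul, map_inv, mul_comm (φ ⟨x, hx⟩)⁻¹, inv_mul_cancel_right]
    · refine extendByZero_of_notMem _ _ fun hm => hx ?_
      rw [mem_subgroupOf] at hm ⊢
      exact g.mem_base_of_conj x.2 (mem_subgroupOf.mp n.2) hn (by simpa using hm)
  rw [indN, indFun, Finset.sum_congr rfl fun x _ => key x, Finset.sum_ite, Finset.sum_const,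
    Finset.sum_const_zero, add_zero, nsmul_eq_mul, ← Fintype.card_subtype,
    ← Nat.card_eq_fintype_card, inv_mul_cancel_left₀ (Nat.cast_ne_zero.2 Nat.card_pos.ne')]

theorem ind_core (φ : ↥(baseCIn S W₁ U) →* ℂˣ) {k : ↥S} (hk : k ∈ coreCIn S U) :
    indN φ k = (Nat.card ↥(baseCIn S W₁ U) : ℂ)⁻¹ *
      ∑ x : ↥S, (φ ⟨x⁻¹ * k * x, coreCIn_le_baseCIn (g.conj_coreIn hk)⟩ : ℂ) := by
  rw [indN, indFun]
  congr 1
  exact Finset.sum_congr rfl fun x _ => extendByZero_of_mem _ _ _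

theorem ind_derived (φ : ↥(baseCIn S W₁ U) →* ℂˣ) {x : ↥S} (hd : (x : G) ∈ ⁅S, S⁆)
    (hx : x ∉ coreCIn S U) : indN φ x = 0 := by
  refine Induce.indFun_eq_zero _ _ _ fun z => extendByZero_of_notMem _ _ fun hm => hx ?_
  have hd' : ((z⁻¹ * x * z : ↥S) : G) ∈ ⁅S, S⁆ := by
    have h : (derivedIn S).Normal := derivedIn_normal S
    simpa using mem_subgroupOf.mp (h.conj_mem x (mem_subgroupOf.mpr hd) z⁻¹)
  have := g.conj_coreIn (x := z⁻¹) (mem_subgroupOf.mpr (g.mem_coreC (mem_subgroupOf.mp hm) hd') :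
    z⁻¹ * x * z ∈ coreCIn S U)
  simpa [mul_assoc] using this

/-- `k ↦ φ k / ψ (x⁻¹ k x)` on `S_F C`. -/
def twist (φ ψ : ↥(baseCIn S W₁ U) →* ℂˣ) (x : ↥S) : ↥(coreCIn S U) →* ℂˣ :=
  MonoidHom.mk' (fun k => φ (inclusion coreCIn_le_baseCIn k) *
      (ψ ⟨x⁻¹ * k * x, coreCIn_le_baseCIn (g.conj_coreIn k.2)⟩)⁻¹) fun a b => by
    have : (⟨x⁻¹ * ((a * b : ↥(coreCIn S U)) : ↥S) * x,
        coreCIn_le_baseCIn (g.conj_coreIn (a * b).2)⟩ : ↥(baseCIn S W₁ U)) =
        ⟨x⁻¹ * a * x, coreCIn_le_baseCIn (g.conj_coreIn a.2)⟩ *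
          ⟨x⁻¹ * b * x, coreCIn_le_baseCIn (g.conj_coreIn b.2)⟩ := Subtype.ext (by
      show x⁻¹ * ((a : ↥S) * b) * x = x⁻¹ * a * x * (x⁻¹ * b * x)
      group)
    rw [this, map_mul, map_mul, map_mul, mul_inv, mul_mul_mul_comm]

theorem sum_split [Fintype ↥(baseCIn S W₁ U)] [Fintype ↥(coreCIn S U)]
    [DecidablePred fun n : ↥(baseCIn S W₁ U) => (n : ↥S) ∈ coreCIn S U]
    (F : ↥(baseCIn S W₁ U) → ℂ) :
    ∑ n, F n = (∑ k : ↥(coreCIn S U), F (inclusion coreCIn_le_baseCIn k)) +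
      ∑ n ∈ Finset.univ.filter (fun n : ↥(baseCIn S W₁ U) => (n : ↥S) ∉ coreCIn S U), F n := by
  rw [← Finset.sum_filter_add_sum_filter_not Finset.univ
    (fun n : ↥(baseCIn S W₁ U) => (n : ↥S) ∈ coreCIn S U) F]
  congr 1
  refine Finset.sum_bij' (fun n hn => (⟨n, (Finset.mem_filter.mp hn).2⟩ : ↥(coreCIn S U)))
    (fun k _ => inclusion coreCIn_le_baseCIn k) (fun _ _ => Finset.mem_univ _)
    (fun k _ => Finset.mem_filter.mpr ⟨Finset.mem_univ _, k.2⟩) (fun _ _ => rfl) (fun _ _ => rfl)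
    fun _ _ => rfl

open Classical in
/-- The inner products of the induced characters. -/
theorem inner_ind (φ ψ : ↥(baseCIn S W₁ U) →* ℂˣ) :
    (Nat.card ↥(baseCIn S W₁ U) : ℂ) * classInner (indN φ) (indN ψ) =
      (if φ = ψ then (Nat.card ↥(baseCIn S W₁ U) : ℂ) else 0) -
      (if g.twist φ ψ 1 = 1 then (Nat.card ↥(coreCIn S U) : ℂ) else 0) +
      (Nat.card ↥(baseCIn S W₁ U) : ℂ)⁻¹ * ((Nat.card ↥(coreCIn S U) : ℂ) *
        (Nat.card {x : ↥S // g.twist φ ψ x = 1} : ℂ)) := by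
  haveI : Fintype ↥(baseCIn S W₁ U) := Fintype.ofFinite _
  haveI : Fintype ↥(coreCIn S U) := Fintype.ofFinite _
  have hcl : IsClassFunction ↥S (indN ψ) := indFun_isClassFunction _ _
  rw [show indN φ = indFun _ _ from rfl, frobenius_reciprocity _ _ hcl, classInner_def,
    mul_inv_cancel_left₀ (Nat.cast_ne_zero.2 Nat.card_pos.ne')]
  set F : ↥(baseCIn S W₁ U) → ℂ := fun n => (φ n : ℂ) * conj (indN ψ (n : ↥S)) with hF
  set χ : ↥(baseCIn S W₁ U) →* ℂˣ := φ * ψ⁻¹ with hχ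
  have hχv : ∀ n, (φ n : ℂ) * conj (ψ n : ℂ) = (χ n : ℂ) := fun n => by
    rw [hχ, MonoidHom.mul_apply, MonoidHom.inv_apply, Units.val_mul, conj_unit]
  have hout : ∀ n ∈ Finset.univ.filter (fun n : ↥(baseCIn S W₁ U) => (n : ↥S) ∉ coreCIn S U),
      F n = (χ n : ℂ) := fun n hn => by
    simp only [hF]
    rw [g.ind_out ψ n fun hd => (Finset.mem_filter.mp hn).2 (mem_subgroupOf.mpr
      (g.mem_coreC (mem_subgroupOf.mp n.2) hd)), hχv]
  have hin : ∀ k : ↥(coreCIn S U), F (inclusion coreCIn_le_baseCIn k) =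
      (Nat.card ↥(baseCIn S W₁ U) : ℂ)⁻¹ * ∑ x : ↥S, (g.twist φ ψ x k : ℂ) := fun k => by
    simp only [hF, coe_inclusion]
    rw [g.ind_core ψ k.2, map_mul, map_inv₀, map_natCast, map_sum, mul_left_comm, Finset.mul_sum]
    refine congrArg _ (Finset.sum_congr rfl fun x _ => ?_)
    rw [conj_unit, ← Units.val_mul]
    rfl
  have hχ1 : ∀ k : ↥(coreCIn S U), (χ (inclusion coreCIn_le_baseCIn k) : ℂ) = g.twist φ ψ 1 k := fun k => by
    show _ = ((φ _ * (ψ _)⁻¹ : ℂˣ) : ℂ)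
    rw [hχ, MonoidHom.mul_apply, MonoidHom.inv_apply]
    congr 4
    exact Subtype.ext (show (k : ↥S) = 1⁻¹ * (k : ↥S) * 1 by group)
  have h1 := g.sum_split F
  have h2 := g.sum_split fun n => (χ n : ℂ)
  rw [Finset.sum_congr rfl hout, Finset.sum_congr rfl fun k _ => hin k, ← Finset.mul_sum,
    Finset.sum_comm] at h1
  rw [Finset.sum_congr rfl fun k _ => hχ1 k, sum_char, sum_char] at h2
  show ∑ n, F n = _
  rw [h1, eq_sub_of_add_eq' h2.symm]
  have hif : (χ = 1) ↔ φ = ψ := ⟨fun h => MonoidHom.ext fun n => by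
    have := DFunLike.congr_fun h n
    rw [hχ, MonoidHom.mul_apply, MonoidHom.inv_apply, MonoidHom.one_apply, mul_inv_eq_one] at this
    exact this, fun h => MonoidHom.ext fun n => by
    rw [hχ, h, MonoidHom.mul_apply, MonoidHom.inv_apply, MonoidHom.one_apply, mul_inv_cancel]⟩
  have h3 : ∑ x : ↥S, ∑ k : ↥(coreCIn S U), (g.twist φ ψ x k : ℂ) =
      (Nat.card ↥(coreCIn S U) : ℂ) * (Nat.card {x : ↥S // g.twist φ ψ x = 1} : ℂ) := by
    rw [Finset.sum_congr rfl fun x _ => sum_char (g.twist φ ψ x), Finset.sum_ite, Finset.sum_const,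
      Finset.sum_const_zero, add_zero, nsmul_eq_mul, ← Fintype.card_subtype,
      ← Nat.card_eq_fintype_card, mul_comm]
  rw [h3]
  simp only [hif]
  ring

theorem card_baseIn : Nat.card ↥(baseCIn S W₁ U) = Nat.card ↥(baseC S W₁ U) :=
  Nat.card_congr (subgroupOfEquivOfLe g.baseC_le_S).toEquiv

theorem card_coreIn : Nat.card ↥(coreCIn S U) * Nat.card W₁ = Nat.card ↥(baseCIn S W₁ U) := by
  rw [g.card_baseIn, g.card_baseC, Nat.card_congr (subgroupOfEquivOfLe g.coreC_le_S).toEquiv]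

theorem index_baseIn : (baseCIn S W₁ U).index = (centU S U).relIndex U := by
  refine Nat.eq_of_mul_eq_mul_right (Nat.card_pos (α := ↥(baseCIn S W₁ U))) ?_
  rw [Subgroup.index_mul_card, g.card_baseIn, g.card_S]

end GHyp

end Cfsg.Agent.OddChar.TypeP.Tools
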