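import Cfsg.Agent.OddChar.TypeP.Tools.Support
import Cfsg.Agent.OddChar.Dade.Coset
import Cfsg.Agent.Lib.CharTheory.Average

/-!
# Orthogonality of Dade images from non-conjugate maximal subgroups
-/

set_option autoImplicit false
set_option linter.unusedSectionVars false
set_option linter.style.haveILetI false

namespace Cfsg.Agent.OddChar.TypeP.Tools

open Cfsg Subgroup
open Cfsg.Agent.OddLocal Cfsg.Agent.OddLocal.SigmaParts
open Cfsg.Agent.Characters
open Cfsg.Agent.CharTheory.IndBasic (extendByZero_of_mem extendByZero_of_notMem)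

universe u

variable {G : Type u} [Group G] [Fintype G] {L S T W₁ U W₂ : Subgroup G}

theorem isClassFunction_tau (hG : IsMinSimpleOddOrder G) (hS : IsCoatom S) [Fintype S] {β : ↥S → ℂ}
    (hβ : IsClassFunction S β) : IsClassFunction G (tau S β) :=
  Dade.isClassFunction (dadeHyp hG hS) hβ

theorem tau_apply_mem (hG : IsMinSimpleOddOrder G) (hS : IsCoatom S) [Fintype S] {β : ↥S → ℂ}
    (hβ : IsClassFunction S β) {x : G} (hx : x ∈ typeA0 S) :
    tau S β x = Cfsg.extendByZero S β x := by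
  have hxS := (dadeHyp hG hS).subset hx
  rw [extendByZero_of_mem S β hxS]
  exact Dade.apply_eq (dadeHyp hG hS) hβ hx (one_mem _) (x := 1) (by group)

/-- Where `τ_S β` can be non-zero. -/
theorem exists_conj_of_tau_ne (hG : IsMinSimpleOddOrder G) (hS : IsCoatom S)
    (hP : IsTypePWith S W₁ U W₂) [Fintype S] {β : ↥S → ℂ} {g : G} (h : tau S β g ≠ 0) :
    ∃ y : G, y * g * y⁻¹ ∈ typeA S ∨
      ∃ w ∈ W₁ ⊔ W₂, w ∉ W₁ ∧ w ∉ W₂ ∧ y * g * y⁻¹ = w := by
  by_contra hn
  push Not at hn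
  refine h (Dade.apply_eq_zero fun a ha x u hu e => ?_)
  rw [Noncoherent.supportR_eq_bot hG hS (Noncoherent.kappa_nonempty_of_typeP hG hS hP) ha, mem_bot]
    at hu
  rw [hu, mul_one] at e
  rcases Noncoherent.typeA0_cases hP hG hS ha with ha' | ⟨m, -, w, hw, hw1, hw2, hv⟩
  · exact (hn x).1 (e ▸ ha')
  · refine (hn (m⁻¹ * x)).2 w hw hw1 hw2 ?_
    calc m⁻¹ * x * g * (m⁻¹ * x)⁻¹ = m⁻¹ * (x * g * x⁻¹) * m := by group
      _ = w := by rw [e, hv]; group

open Classical in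
/-- The average of `τ_S β` over `a R(a)` is `0` for `a ∈ A(L)`. -/
theorem rho_tau_eq_zero (hG : IsMinSimpleOddOrder G) (hL : IsCoatom L) (hκL : kappa L = ∅)
    (hS : IsCoatom S) (hP : IsTypePWith S W₁ U W₂) [Fintype S] {β : ↥S → ℂ}
    (hβ : IsClassFunction S β) (hsum : CosetSumZero S β) {a : G} (ha : a ∈ typeA L) :
    TypeOne.Gap.rho (supportR L) (tau S β) a = 0 := by
  have hκS := Noncoherent.kappa_nonempty_of_typeP hG hS hP
  by_cases hz : ∀ r ∈ supportR L a, tau S β (a * r) = 0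
  · exact TypeOne.Gap.rho_const hz
  push Not at hz
  obtain ⟨r₀, hr₀, hne⟩ := hz
  have haσ := ha
  rw [typeA_eq_core hG hL hκL] at haσ
  obtain ⟨haσ, ha1⟩ := haσ
  have ha1' : a ≠ 1 := ha1
  obtain ⟨har, hrσ, -⟩ := SupportR.mem_cases hG hL haσ ha1' hr₀
  obtain ⟨y, hy | ⟨w, hw, -, -, e⟩⟩ := exists_conj_of_tau_ne hG hS hP hne
  swap
  · exfalso
    refine notMem_tilde_of_mem_W hG hL hκL hS hP hw y⁻¹ ?_
    refine SupportR.mem_tilde.2 ⟨a, ha, r₀, hr₀, 1, ?_⟩
    rw [← e]; group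
  set S' := S.map (MulAut.conj y⁻¹).toMonoidHom with hS'def
  have hS' : IsCoatom S' := Unique.isCoatom_map_conj hS y⁻¹
  -- `a` lies in a conjugate of `A(S)`
  have hmem : a ∈ zpowers (a * r₀) := mem_zpowers_mul har (coprime_of_parts (mem_sigma_core haσ) hrσ)
  obtain ⟨i, hi⟩ := mem_zpowers_iff.1 hmem
  set a' := y * a * y⁻¹ with ha'def
  have ha'1 : a' ≠ 1 := fun e => ha1' (conj_eq_one_iff.1 e)
  have hpow : (y * (a * r₀) * y⁻¹) ^ i = a' := by rw [conj_zpow, hi]
  have ha'A : a' ∈ typeA S := by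
    have hκ := fun {p : ℕ} => TypeOne.Gap.not_kappa_of_typeA hG hS hy (p := p)
    rw [TypeOne.Gap.typeA_eq hG hS] at hy
    obtain ⟨hyS, -, -, v, hv, hv1, hyv⟩ := hy
    rw [← hpow]
    refine TypeOne.Gap.mem_typeA hG hS (zpow_mem hyS i) (hpow ▸ ha'1) ⟨v, hv, hv1,
      ((show Commute _ v from hyv).zpow_left i).eq⟩ fun p hp hd => hκ hp
        (hd.trans (orderOf_dvd_of_mem_zpowers (zpow_mem_zpowers _ i)))
  have haS' : a ∈ typeA S' := by
    have := TypeOne.Gap.typeA_conj hG hS y⁻¹ ha'A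
    convert this using 1
    simp only [ha'def]; group
  obtain ⟨hnot, hle⟩ := TypeOne.Gap.centralizer_of_inter hG hL hS'
    (TypeOne.Gap.nc_map hG hL hS (map_ne_of_kappa hG hκL hκS) y⁻¹)
    ⟨(TypeOne.Gap.typeA1_eq hG hL).ge ⟨haσ, ha1'⟩, haS'⟩
  rcases SupportR.cases hG hL haσ ha1' with ⟨hC, -⟩ | ⟨N, hN, hR⟩
  · exact absurd hC hnot
  obtain rfl := hN.uniq S' hS' hle
  have hσL : IsPiEl (sigma L) a' := fun p hp hd =>
    mem_sigma_core haσ p hp (by rwa [ha'def, TypeTwo.orderOf_conj] at hd)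
  have hnotσ : IsPiEl {p | p ∉ sigma S} a' :=
    piEl_of_sigma_ne hG hS hL (fun g e => map_ne_of_kappa hG hκL hκS g e.symm) hσL
  have ha'σ : a' ∉ sigmaCore S := fun h => by
    obtain ⟨p, hp, hd⟩ := Nat.exists_prime_and_dvd (mt orderOf_eq_one_iff.1 ha'1)
    exact hnotσ p hp hd (mem_sigma_core h p hp hd)
  have hcop : (orderOf a').Coprime (Nat.card (sigmaCore S)) := Nat.coprime_of_dvd fun p hp h1 h2 =>
    hnotσ p hp h1 (Transitivity.isPi_piCoreOf (sigma S) S p hp h2)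
  have hsum' := hsum a' ha'A ha'σ hcop
  rw [TypeOne.Gap.rho]
  refine mul_eq_zero_of_right _ ?_
  rw [finsum_mem_eq_finite_toFinset_sum _ (Set.toFinite _)] at hsum'
  rw [← hsum']
  have hmap : ∀ r : G, r ∈ supportR L a ↔
      y * r * y⁻¹ ∈ sigmaCore S ⊓ centralizer ({a'} : Set G) := fun r => by
    rw [hR, mem_inf, mem_inf, sigmaCore_map, mem_conj_iff,
      mem_centralizer_singleton_iff, mem_centralizer_singleton_iff, ha'def]
    refine and_congr (by rw [inv_inv]) ⟨fun e => ?_, fun e => ?_⟩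
    · calc y * r * y⁻¹ * (y * a * y⁻¹) = y * (r * a) * y⁻¹ := by group
        _ = y * (a * r) * y⁻¹ := by rw [e]
        _ = _ := by group
    · calc r * a = y⁻¹ * (y * r * y⁻¹ * (y * a * y⁻¹)) * y := by group
        _ = y⁻¹ * (y * a * y⁻¹ * (y * r * y⁻¹)) * y := by rw [e]
        _ = a * r := by group
  refine Finset.sum_bij' (fun r _ => y * r * y⁻¹) (fun r _ => y⁻¹ * r * y) ?_ ?_ ?_ ?_ ?_
  · intro r hr
    rw [Set.Finite.mem_toFinset]
    exact (hmap r).1 (Finset.mem_filter.1 hr).2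
  · intro r hr
    rw [Set.Finite.mem_toFinset] at hr
    refine Finset.mem_filter.2 ⟨Finset.mem_univ _, (hmap _).2 ?_⟩
    rw [show y * (y⁻¹ * r * y) * y⁻¹ = r by group]
    exact hr
  · intro r _; group
  · intro r _; group
  intro r hr
  have hr' := (hmap r).1 (Finset.mem_filter.1 hr).2
  have hA : a' * (y * r * y⁻¹) ∈ typeA S := by
    obtain ⟨h1, h2⟩ := mem_inf.1 hr'
    by_cases h0 : y * r * y⁻¹ = 1
    · rwa [h0, mul_one]
    have hA' := ha'A
    rw [TypeOne.Gap.typeA_eq hG hS] at hA' ⊢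
    obtain ⟨hm, hc, -, -⟩ := hA'
    refine ⟨mul_mem hm (Sigma.sigmaCore_le S h1), fun hne => mul_mem (hc hne)
      (Sigma.sigmaCore_le_commutator hG hS h1), fun e => ha'σ ?_, _, h1, h0, ?_⟩
    · rw [eq_inv_of_mul_eq_one_left e]; exact inv_mem h1
    · have hcm : Commute (y * r * y⁻¹) a' := mem_centralizer_singleton_iff.1 h2
      exact (hcm.symm.mul_left (Commute.refl _)).eq
  calc tau S β (a * r) = tau S β (a' * (y * r * y⁻¹)) := by
        rw [← isClassFunction_tau hG hS hβ (a * r) y, ha'def]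
        congr 1; group
    _ = _ := tau_apply_mem hG hS hβ (Or.inl hA)

/-- Dade images from `L` of type I and `S` of type P are orthogonal. -/
theorem inner_tau_IP (hG : IsMinSimpleOddOrder G) (hL : IsCoatom L) (hκL : kappa L = ∅)
    (hS : IsCoatom S) (hP : IsTypePWith S W₁ U W₂) [Fintype L] [Fintype S] {α : ↥L → ℂ}
    (hα : IsClassFunction L α) (hαA : ∀ x : L, (x : G) ∉ typeA L → α x = 0) {β : ↥S → ℂ}
    (hβ : IsClassFunction S β) (hsum : CosetSumZero S β) :
    classInner (dadeIsometry (typeA L) L (supportR L) α) (tau S β) = 0 := by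
  have hD := (DadeSets.main hG hL _ (Or.inr (Or.inl rfl))).2
  rw [TypeOne.Gap.inner_rho hD hα hαA (isClassFunction_tau hG hS hβ), classInner_def]
  refine mul_eq_zero_of_right _ (Finset.sum_eq_zero fun x _ => ?_)
  by_cases hx : (x : G) ∈ typeA L
  · rw [rho_tau_eq_zero hG hL hκL hS hP hβ hsum hx, map_zero, mul_zero]
  · rw [hαA x hx, zero_mul]

/-- `τ_S β` vanishes outside the conjugates of `A(S)` when `β` is supported in `A(S)`. -/
theorem exists_conj_of_tau_ne_of_supp (hG : IsMinSimpleOddOrder G) (hS : IsCoatom S) [Fintype S]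
    (hκS : (kappa S).Nonempty) {β : ↥S → ℂ} (hβ : IsClassFunction S β)
    (hβA : ∀ x : S, (x : G) ∉ typeA S → β x = 0) {g : G} (h : tau S β g ≠ 0) :
    ∃ y : G, y * g * y⁻¹ ∈ typeA S := by
  by_contra hn
  push Not at hn
  by_cases hs : ∃ a ∈ typeA0 S, ∃ x : G, x * g * x⁻¹ = a
  · obtain ⟨a, ha, x, e⟩ := hs
    refine h ?_
    rw [← isClassFunction_tau hG hS hβ g x, e, tau_apply_mem hG hS hβ ha,
      extendByZero_of_mem S β ((dadeHyp hG hS).subset ha)]
    exact hβA _ fun h' => hn x (e.symm ▸ h')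
  · push Not at hs
    refine h (Dade.apply_eq_zero fun a ha x u hu e => hs a ha x ?_)
    rw [Noncoherent.supportR_eq_bot hG hS hκS ha, mem_bot] at hu
    rwa [hu, mul_one] at e

/-- Dade images supported in `A(S)`, `A(T)` are orthogonal. -/
theorem inner_tau_PP (hG : IsMinSimpleOddOrder G) (hS : IsCoatom S) (hT : IsCoatom T)
    (hκS : (kappa S).Nonempty) (hκT : (kappa T).Nonempty)
    (hnc : ∀ g : G, T.map (MulAut.conj g).toMonoidHom ≠ S) [Fintype S] [Fintype T] {α : ↥S → ℂ}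
    (hα : IsClassFunction S α) (hαA : ∀ x : S, (x : G) ∉ typeA S → α x = 0) {β : ↥T → ℂ}
    (hβ : IsClassFunction T β) (hβA : ∀ x : T, (x : G) ∉ typeA T → β x = 0) :
    classInner (tau S α) (tau T β) = 0 := by
  rw [classInner_def]
  refine mul_eq_zero_of_right _ (Finset.sum_eq_zero fun g _ => ?_)
  by_contra h
  obtain ⟨h1, h2⟩ := mul_ne_zero_iff.1 h
  obtain ⟨y, hy⟩ := exists_conj_of_tau_ne_of_supp hG hS hκS hα hαA h1
  obtain ⟨z, hz⟩ := exists_conj_of_tau_ne_of_supp hG hT hκT hβ hβA (fun e => h2 (by rw [e, map_zero]))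
  refine notMem_typeA_conj hG hS hT hκS hκT hnc hy (z * y⁻¹) ?_
  convert hz using 1
  group

/-- The same when `α` may live on `A₀(S)` and `T` is the partner of `S`. -/
theorem inner_tau_A0_partner (hG : IsMinSimpleOddOrder G) (hS : IsCoatom S) (hT : IsCoatom T)
    (hP : IsTypePWith S W₁ U W₂) {V : Subgroup G} (hTP : IsTypePWith T W₂ V W₁)
    (hnc : ∀ g : G, T.map (MulAut.conj g).toMonoidHom ≠ S) [Fintype S] [Fintype T] {α : ↥S → ℂ}
    {β : ↥T → ℂ}
    (hβ : IsClassFunction T β) (hβA : ∀ x : T, (x : G) ∉ typeA T → β x = 0) :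
    classInner (tau S α) (tau T β) = 0 := by
  have hκS := Noncoherent.kappa_nonempty_of_typeP hG hS hP
  have hκT := Noncoherent.kappa_nonempty_of_typeP hG hT hTP
  rw [classInner_def]
  refine mul_eq_zero_of_right _ (Finset.sum_eq_zero fun g _ => ?_)
  by_contra h
  obtain ⟨h1, h2⟩ := mul_ne_zero_iff.1 h
  obtain ⟨z, hz⟩ := exists_conj_of_tau_ne_of_supp hG hT hκT hβ hβA (fun e => h2 (by rw [e, map_zero]))
  obtain ⟨y, hy | ⟨w, hw, hw1, -, e⟩⟩ := exists_conj_of_tau_ne hG hS hP h1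
  · refine notMem_typeA_conj hG hS hT hκS hκT hnc hy (z * y⁻¹) ?_
    convert hz using 1
    group
  · refine notMem_typeA_partner hG hT hTP hw hw1 (z * y⁻¹) ?_
    convert hz using 1
    rw [← e]; group

end Cfsg.Agent.OddChar.TypeP.Tools
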