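import Cfsg.Agent.OddChar.TypeP.RowDiff
import Cfsg.Agent.OddChar.TypeP.Noncoherent.Setting
import Cfsg.Agent.OddChar.TypeOne.Gap.Basic
import Cfsg.Agent.S1432

/-!
# Supports of the Dade maps of two non-conjugate maximal subgroups

`L` has empty `κ` (type I), `S` and `T` have non-empty `κ` (type P).
-/

set_option autoImplicit false
set_option linter.unusedSectionVars false

namespace Cfsg.Agent.OddChar.TypeP.Tools

open Cfsg Subgroup
open Cfsg.Agent.OddLocal Cfsg.Agent.OddLocal.SigmaParts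
open Cfsg.Agent.Transfer.Fusion (map_conj_inv_cancel map_conj_mul map_conj_one)
open Cfsg.Agent.Characters

universe u

variable {G : Type u} [Group G] [Finite G] {L S T W₁ U W₂ : Subgroup G}

/-- Non-empty `κ` is a conjugacy invariant. -/
theorem map_ne_of_kappa (hG : IsMinSimpleOddOrder G) (hκL : kappa L = ∅) (hκS : (kappa S).Nonempty)
    (g : G) : S.map (MulAut.conj g).toMonoidHom ≠ L := fun e => by
  have := PType.kappa_eq (M := S) hG g
  rw [e, hκL] at this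
  exact Set.not_nonempty_empty (this.symm ▸ hκS)

theorem ne_map_of_kappa (hG : IsMinSimpleOddOrder G) (hκL : kappa L = ∅) (hκS : (kappa S).Nonempty)
    (g : G) : S ≠ L.map (MulAut.conj g).toMonoidHom := fun e => by
  refine map_ne_of_kappa hG hκL hκS g⁻¹ ?_
  rw [e, map_conj_inv_cancel]

/-- `A(L) = L_σ - 1` for empty `κ(L)`. -/
theorem typeA_eq_core (hG : IsMinSimpleOddOrder G) (hL : IsCoatom L) (hκL : kappa L = ∅) :
    typeA L = (sigmaCore L : Set G) \ {1} := by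
  rw [TypeOne.Gap.typeA_eq hG hL]
  ext a
  constructor
  · rintro ⟨ha, -, ha1, x, hx, hx1, e⟩
    exact ⟨TypeOne.Gap.frob hG hL hκL ha hx hx1 e, ha1⟩
  · rintro ⟨ha, ha1⟩
    exact ⟨Sigma.sigmaCore_le L ha, fun h => absurd h (hκL ▸ Set.not_nonempty_empty), ha1, a, ha,
      ha1, rfl⟩

/-- A prime of `|W₁ W₂|` is a `σ`-prime of a maximal subgroup of type P. -/
theorem exists_sigma_of_dvd_W (hG : IsMinSimpleOddOrder G) (hS : IsCoatom S)
    (hP : IsTypePWith S W₁ U W₂) {d : ℕ} (hd : d.Prime) (hdvd : d ∣ Nat.card ↥(W₁ ⊔ W₂)) :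
    ∃ N : Subgroup G, IsCoatom N ∧ (kappa N).Nonempty ∧ d ∈ sigma N := by
  obtain ⟨hW1, hW2⟩ := Noncoherent.hall_data hG hS hP
  rw [← Nat.card_congr (CyclicTI.split_of hP.selfNormalizing).prodEquiv.toEquiv, Nat.card_prod] at hdvd
  rcases hd.dvd_mul.1 hdvd with h | h
  · obtain ⟨V₀, hKV⟩ := KappaDecomp.exists_decomposition hG hS hW1 hP.W₁_cyclic
    obtain ⟨N, hp⟩ := PType.exists_pair_of_decomposition hG hS hKV hP.W₁_ne
    have hs : PType.star S W₁ ≠ ⊥ := hp.star_ne_bot hG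
    refine ⟨N, hp.hH, ?_, Transitivity.isPi_piCoreOf (sigma N) N d hd ?_⟩
    · obtain ⟨r, hr, hrd⟩ := Nat.exists_prime_and_dvd (mt card_eq_one.1 hs)
      exact ⟨r, hp.hKs.2.1 r hr hrd⟩
    · refine h.trans (card_dvd_of_le ?_)
      rw [← hp.hKeq]
      exact inf_le_left
  · refine ⟨S, hS, Noncoherent.kappa_nonempty_of_typeP hG hS hP,
      Transitivity.isPi_piCoreOf (sigma S) S d hd (h.trans (card_dvd_of_le ?_))⟩
    rw [← hW2]
    exact inf_le_left

/-- The conjugates of `W - W₁ ∪ W₂` avoid `Ã(L)`. -/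
theorem notMem_tilde_of_mem_W (hG : IsMinSimpleOddOrder G) (hL : IsCoatom L) (hκL : kappa L = ∅)
    (hS : IsCoatom S) (hP : IsTypePWith S W₁ U W₂) {w : G} (hw : w ∈ W₁ ⊔ W₂) (y : G) :
    y * w * y⁻¹ ∉ tildeOf L (typeA L) := by
  intro h
  rw [typeA_eq_core hG hL hκL] at h
  obtain ⟨a, ⟨ha, ha1⟩, r, hr, z, e⟩ := SupportR.mem_tilde.1 h
  obtain ⟨har, hrσ, -⟩ := SupportR.mem_cases hG hL ha ha1 hr
  have hmem : a ∈ zpowers (a * r) := mem_zpowers_mul har (coprime_of_parts (mem_sigma_core ha) hrσ)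
  obtain ⟨d, hd, hdd⟩ := Nat.exists_prime_and_dvd (mt orderOf_eq_one_iff.1 ha1)
  have h2 : d ∣ Nat.card ↥(W₁ ⊔ W₂) := by
    refine (hdd.trans (orderOf_dvd_of_mem_zpowers hmem)).trans ?_
    rw [← TypeTwo.orderOf_conj z (a * r), ← e, TypeTwo.orderOf_conj]
    exact orderOf_dvd_natCard _ hw
  obtain ⟨N, hN, hκN, hdN⟩ := exists_sigma_of_dvd_W hG hS hP hd h2
  exact not_sigma_of_ne hG hL hN (ne_map_of_kappa hG hκL hκN) (mem_sigma_core ha d hd hdd) hdN

/-- No conjugate of `A(S)` meets `A(T)`. -/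
theorem notMem_typeA_conj (hG : IsMinSimpleOddOrder G) (hS : IsCoatom S) (hT : IsCoatom T)
    (hκS : (kappa S).Nonempty) (hκT : (kappa T).Nonempty)
    (hnc : ∀ g : G, T.map (MulAut.conj g).toMonoidHom ≠ S) {a : G} (ha : a ∈ typeA S) (y : G) :
    y * a * y⁻¹ ∉ typeA T := by
  intro hb
  set T' := T.map (MulAut.conj y⁻¹).toMonoidHom with hT'def
  have hT' : IsCoatom T' := Unique.isCoatom_map_conj hT y⁻¹
  have hκ' : (kappa T').Nonempty := by rwa [hT'def, PType.kappa_eq hG]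
  have hnc' : ∀ g : G, T'.map (MulAut.conj g).toMonoidHom ≠ S :=
    TypeOne.Gap.nc_map hG hS hT hnc y⁻¹
  have hnc'' : ∀ g : G, S.map (MulAut.conj g).toMonoidHom ≠ T' := fun g e => hnc' g⁻¹ (by
    rw [← e, map_conj_inv_cancel])
  have haT : a ∈ typeA T' := by
    have := TypeOne.Gap.typeA_conj hG hT y⁻¹ hb
    convert this using 1
    group
  have hle : ∀ {M : Subgroup G}, IsCoatom M → (kappa M).Nonempty → ∀ {x : G}, x ∈ typeA M →
      centralizer ({x} : Set G) ≤ M := fun {_} hM hκ {_} hx =>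
    Noncoherent.centralizer_le hG hM hκ (Or.inl hx)
  have ha1 : a ≠ 1 := by
    have := ha; rw [TypeOne.Gap.typeA_eq hG hS] at this; exact this.2.2.1
  have haS : a ∈ S := by
    have := ha; rw [TypeOne.Gap.typeA_eq hG hS] at this; exact this.1
  -- a prime of `a` outside `σ(S)`
  by_cases hσ : a ∈ sigmaCore S
  · exact (TypeOne.Gap.centralizer_of_inter hG hS hT' hnc'
      ⟨(TypeOne.Gap.typeA1_eq hG hS).ge ⟨hσ, ha1⟩, haT⟩).1 (hle hS hκS ha)
  obtain ⟨p, hp, hpd, hpσ⟩ : ∃ p : ℕ, p.Prime ∧ p ∣ orderOf a ∧ p ∉ sigma S := by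
    by_contra hn
    push Not at hn
    exact hσ ((DadeSets.mem_core_iff hG hS haS).1 hn)
  obtain ⟨a', ha', hao⟩ : ∃ a' ∈ zpowers a, orderOf a' = p :=
    ⟨a ^ (orderOf a / p), pow_mem (mem_zpowers a) _, orderOf_pow_orderOf_div (orderOf_pos a).ne' hpd⟩
  have ha'1 : a' ≠ 1 := fun e => hp.ne_one (by rw [← hao, e, orderOf_one])
  have hpow : ∀ {M : Subgroup G}, IsCoatom M → a ∈ typeA M → a' ∈ typeA M ∧ p ∉ kappa M ∧ a' ∈ M ∧
      ∃ x ∈ sigmaCore M, x ≠ 1 ∧ a' * x = x * a' := fun {M} hM hx => by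
    have hκ := TypeOne.Gap.not_kappa_of_typeA hG hM hx hp hpd
    rw [TypeOne.Gap.typeA_eq hG hM] at hx
    obtain ⟨hxM, -, -, v, hv, hv1, hxv⟩ := hx
    obtain ⟨i, rfl⟩ := mem_zpowers_iff.1 ha'
    have hc := ((show Commute a v from hxv).zpow_left i).eq
    refine ⟨TypeOne.Gap.mem_typeA hG hM (zpow_mem hxM i) ha'1 ⟨v, hv, hv1, hc⟩ fun q hq hqd => ?_,
      hκ, zpow_mem hxM i, v, hv, hv1, hc⟩
    rw [hao, Nat.prime_dvd_prime_iff_eq hq hp] at hqd
    exact hqd ▸ hκ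
  obtain ⟨haS', hκp, ha'S, x, hx, hx1, hax⟩ := hpow hS ha
  obtain ⟨haT'', hκp', ha'T, x', hx', hx'1, hax'⟩ := hpow hT' haT
  by_cases hpT : p ∈ sigma T'
  · have hcore : a' ∈ sigmaCore T' := (DadeSets.mem_core_iff hG hT' ha'T).1 fun q hq hqd => by
      rw [hao, Nat.prime_dvd_prime_iff_eq hq hp] at hqd
      exact hqd ▸ hpT
    exact (TypeOne.Gap.centralizer_of_inter hG hT' hS hnc''
      ⟨(TypeOne.Gap.typeA1_eq hG hT').ge ⟨hcore, ha'1⟩, haS'⟩).1 (hle hT' hκ' haT'')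
  have key : ∀ {M : Subgroup G}, IsCoatom M → a' ∈ M → p ∉ sigma M → p ∉ kappa M →
      (∃ x ∈ sigmaCore M, x ≠ 1 ∧ a' * x = x * a') →
      ∀ N : Subgroup G, IsCoatom N → centralizer ({a'} : Set G) ≤ N → N = M := by
    intro M hM hmem hs hk ⟨v, hv, hv1, hv2⟩ N hN hCN
    rcases S1432.result hG M hM v hv hv1 a'
      (mem_inf.2 ⟨hmem, mem_centralizer_singleton_iff.2 hv2⟩) ha'1
      (fun q hq hqd => by rw [hao, Nat.prime_dvd_prime_iff_eq hq hp] at hqd; exact hqd ▸ hs) with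
      ⟨hk', -⟩ | ⟨-, -, -, huniq⟩
    · exact absurd (hk' p hp (hao ▸ dvd_rfl)) hk
    · exact huniq N hN hCN
  refine hnc' 1 ?_
  rw [map_conj_one]
  exact (key hT' ha'T hpT hκp' ⟨x', hx', hx'1, hax'⟩ S hS (hle hS hκS haS')).symm

/-- No conjugate of an element of `W - W₁ ∪ W₂` of `S` lies in `A(T)` for the partner `T`. -/
theorem notMem_typeA_partner (hG : IsMinSimpleOddOrder G) (hT : IsCoatom T) {V : Subgroup G}
    (hP : IsTypePWith T W₂ V W₁) {w : G} (hw : w ∈ W₁ ⊔ W₂) (hw1 : w ∉ W₁) (y : G) :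
    y * w * y⁻¹ ∉ typeA T := by
  intro h
  rw [mem_typeA_iff hG hT hP] at h
  have h1 : orderOf w ∣ Nat.card (⁅T, T⁆ : Subgroup G) := by
    rw [← TypeTwo.orderOf_conj y w]
    exact orderOf_dvd_natCard _ h.1
  obtain ⟨a, b, ha, hb, e⟩ :=
    (CyclicTI.split_of hP.selfNormalizing).exists_mul (⟨w, by rwa [sup_comm]⟩ : ↥(W₂ ⊔ W₁))
  have e' : w = (a : G) * b := congrArg Subtype.val e
  have hab : Commute (a : G) b := (CyclicTI.split_of hP.selfNormalizing).comm _ ha _ hb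
  have hcop := Noncoherent.coprime_derived hP
  have hW₁le : Nat.card W₁ ∣ Nat.card (⁅T, T⁆ : Subgroup G) :=
    card_dvd_of_le (W₂_le_derived hP)
  have hab' : (orderOf (a : G)).Coprime (orderOf (b : G)) :=
    (hcop.coprime_dvd_left (orderOf_dvd_natCard _ ha)).coprime_dvd_right
      ((orderOf_dvd_natCard _ hb).trans hW₁le)
  have hamem : (a : G) ∈ zpowers w := e' ▸ mem_zpowers_mul hab hab'
  have ha1 : (a : G) = 1 := orderOf_eq_one_iff.1 (Nat.eq_one_of_dvd_coprimes hcop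
    (orderOf_dvd_natCard _ ha) ((orderOf_dvd_of_mem_zpowers hamem).trans h1))
  exact hw1 (by rw [e', ha1, one_mul]; exact hb)

/-- Sums over the cosets `a C(a)` inside `S_σ` vanish, for `a ∈ A(S)` outside `S_σ`. -/
def CosetSumZero (S : Subgroup G) (β : ↥S → ℂ) : Prop :=
  ∀ a ∈ typeA S, a ∉ sigmaCore S → (orderOf a).Coprime (Nat.card (sigmaCore S)) →
    ∑ᶠ r ∈ ((sigmaCore S ⊓ centralizer ({a} : Set G) : Subgroup G) : Set G),
      Cfsg.extendByZero S β (a * r) = 0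

end Cfsg.Agent.OddChar.TypeP.Tools
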